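import Cfsg.Agent.DS.Nt.Defs
import Cfsg.Agent.H795.TorSub
import Cfsg.Agent.H897.T5Cent
import Cfsg.Agent.H225.Mono.End
import Cfsg.Agent.H83.RootCount
import Cfsg.Agent.H944.TorAnyChev

/-!
# S5881, exceptional groups, the non-toral local case: basic lemmas (helper86)

* `RP hp p w k` : `k ∈ N` represents `w`; `RP.cX`, `RP.fr`, `RP.comm`;
* `form`, `form₂` : centralisers of finite subsets of the torus; `mem_DZ`, `conj_mem_Mz`, `conj_mem_DZ`, `pow_mem_DZ`;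
* `exists_tor`, `exists_root_T` : existence of torus elements; `comm_Mz`, `comm_DZ`;
* `mem_DZ_of_toral`, `toral_step`, `pel_mem_Mz`; `exists_pair`, `exists_std_pair`;
* `ev_conj`, `ev_tor`, `dd_conj`, `dd_tor`, `ev_inv`, `finrank_Fx`, `finrank_Fx_conj`.
-/

set_option autoImplicit false
set_option linter.unusedSectionVars false

namespace Cfsg.Agent.DS.Nt

open CoxeterSystem Cfsg Cfsg.Lie Cfsg.Lie.ChevalleyDatum
open Cfsg.Agent.ChevalleyStructure Cfsg.Agent.ChevalleyStructure.Elts Cfsg.Agent.ChevalleyStructure.CoxeterGeom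
  Cfsg.Agent.ChevalleyStructure.CoxeterGeomTypes
open Cfsg.Agent.Tits.Roots Cfsg.Agent.Tits.Core Cfsg.Agent.Nodes Cfsg.Agent.Nodes.Reps Cfsg.Agent.Nodes.BNOf
  Cfsg.Agent.Nodes.RGDChev Cfsg.Agent.Nodes.Bruhat
open Cfsg.Agent.KFacts.RgdField Cfsg.Agent.KFacts.RgdChevCoord
open Cfsg.Agent.BpExc Cfsg.Agent.BpExc.TorCent Cfsg.Agent.BpExc.TorChev Cfsg.Agent.BpExc.Tow
  Cfsg.Agent.BpExc.TowChev Cfsg.Agent.BpExc.Fr Cfsg.Agent.BpExc.LangFr
open Cfsg.Agent.H469.Exc Cfsg.Agent.H795.SetCent Cfsg.Agent.H129.TorusChar Cfsg.Agent.DS.Ex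
open Cfsg.Agent.H185.EE Cfsg.Agent.H897.T5Cent

theorem rp_congr {I W Y : Type*} [Fintype I] [DecidableEq I] [Group W] [Group Y] {M : CoxeterMatrix I}
    {cs : CoxeterSystem M W} {T T' : Subgroup Y} {n : I → Y} (h : T = T') (hN : NSys M T n) (hN' : NSys M T' n)
    {w : W} {g : Y} : Rp cs hN w g ↔ Rp cs hN' w g := by
  subst h
  rfl

theorem exists_not_dvd {q n : ℕ} (hq : q.Prime) (hn : n ≠ 0) : ∃ e, ¬ q ^ (e + 1) ∣ n :=
  ⟨n.factorization q, Nat.pow_succ_factorization_not_dvd hn hq⟩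

variable {D : ChevalleyDatum} {l : ℕ} {M : CoxeterMatrix (Fin l)} (hp : IsType D l M) (p : ℕ) [Fact p.Prime]

include hp in
theorem finW : Finite M.Group := finite_W hp M.toCoxeterSystem

/-- the tower of root group data -/
theorem tw : Tow M.toCoxeterSystem hp.isCartan p (Tj hp (k := KK p)) (nc hp (KK p)) (Xj hp) :=
  tow hp M.toCoxeterSystem (locFin p) p

theorem TLe : TL (Tj hp (k := KK p)) = TT D (KK p) := TL_eq hp (locFin p)

theorem XLe : XL (Xj hp (k := KK p)) = XX D l (KK p) := XL_eq hp (locFin p)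

theorem nsysT : NSys M (TT D (KK p)) (nc hp (KK p)) := by
  rw [← TLe hp p]
  exact (tw hp p).nsys

theorem coW : Coords M.toCoxeterSystem hp.isCartan (TL (Tj hp (k := KK p))) (nc hp (KK p)) (XL (Xj hp)) (xc hp)
    (ch hp) := by
  have := finW hp
  exact coL hp M.toCoxeterSystem (locFin p) p

theorem chW : ChAdd M.toCoxeterSystem hp.isCartan (TL (Tj hp (k := KK p))) (ch (K := KK p) hp) := by
  have := finW hp
  exact chL hp M.toCoxeterSystem (locFin p) p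

theorem GGW : GG M.toCoxeterSystem hp.isCartan (TL (Tj hp (k := KK p))) (XL (Xj hp)) = ⊤ :=
  GG_eq_top hp M.toCoxeterSystem (locFin p)

/-- `k` represents `w` -/
def RP (w : M.Group) (k : YY D p) : Prop := Rp M.toCoxeterSystem (tw hp p).nsys w k

theorem exists_RP (w : M.Group) : ∃ k, RP hp p w k := exists_rp M.toCoxeterSystem (tw hp p).nsys w

variable {hp p}

namespace RP

variable {v w : M.Group} {g k : YY D p}

theorem toT (h : RP hp p w k) : Rp M.toCoxeterSystem (nsysT hp p) w k := (rp_congr (TLe hp p) _ _).1 h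

theorem mul (h : RP hp p v g) (h' : RP hp p w k) : RP hp p (v * w) (g * k) := Rp.mul h h'

theorem inv (h : RP hp p w k) : RP hp p w⁻¹ k⁻¹ := Rp.inv h

theorem of_mem {t : YY D p} (ht : t ∈ TT D (KK p)) : RP hp p 1 t :=
  rp_of_mem (by rw [TLe hp p]; exact ht)

theorem pow (h : RP hp p w k) (n : ℕ) : RP hp p (w ^ n) (k ^ n) := by
  induction n with
  | zero => rw [pow_zero, pow_zero]; exact of_mem (one_mem _)
  | succ n ih => rw [pow_succ, pow_succ]; exact ih.mul h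

theorem mem_T (h : RP hp p 1 k) : k ∈ TT D (KK p) := h.toT.mem_of_one

theorem conj_iff (h : RP hp p w k) (t : YY D p) : k * t * k⁻¹ ∈ TT D (KK p) ↔ t ∈ TT D (KK p) :=
  (Subgroup.mem_normalizer_iff.1 h.toT.mem_normalizer t).symm

theorem conj_mem (h : RP hp p w k) {t : YY D p} (ht : t ∈ TT D (KK p)) : k * t * k⁻¹ ∈ TT D (KK p) :=
  (h.conj_iff t).2 ht

theorem cX (h : RP hp p w k) {t : YY D p} (ht : t ∈ TT D (KK p)) (x : Fin l → ℤ) :
    cX hp (k * t * k⁻¹) (rep M.toCoxeterSystem hp.isCartan w x) = cX hp t x :=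
  cX_rp hp M.toCoxeterSystem (locFin p) p h.toT ht x

theorem fr (h : RP hp p w k) : Fr M.toCoxeterSystem hp.isCartan (TT D (KK p)) (XX D l (KK p)) (MulAut.conj k)
    (repAut M.toCoxeterSystem hp.isCartan w) := by
  rw [← TLe hp p, ← XLe hp p]
  exact Fr.conj (tw hp p) h

/-- `k` commutes with the elements of the torus whose character is fixed by `w` -/
theorem comm (h : RP hp p w k) {b : YY D p} (hb : b ∈ TT D (KK p))
    (hw : ∀ x, H129.TorusChar.cX hp b (rep M.toCoxeterSystem hp.isCartan w x) = H129.TorusChar.cX hp b x) :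
    k * b = b * k := by
  have h1 : k * b * k⁻¹ = b := by
    refine cX_inj hp (h.conj_mem hb) hb fun i => ?_
    have h2 := h.cX hb (rep M.toCoxeterSystem hp.isCartan w⁻¹ (sr i))
    rw [rep_apply_inv] at h2
    rw [h2, ← hw, rep_apply_inv]
  calc k * b = k * b * k⁻¹ * k := by group
    _ = b * k := by rw [h1]

/-- the converse -/
theorem cX_of_comm (h : RP hp p w k) {b : YY D p} (hb : b ∈ TT D (KK p)) (hc : k * b = b * k) (x : Fin l → ℤ) :
    H129.TorusChar.cX hp b (rep M.toCoxeterSystem hp.isCartan w x) = H129.TorusChar.cX hp b x := by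
  have h1 := h.cX hb x
  rwa [hc, mul_inv_cancel_right] at h1

/-- the element of `W` is determined -/
theorem unique (h : RP hp p v k) (h' : RP hp p w k) : v = w := by
  have := finW hp
  exact ((tw hp p).normal_form_unique (one_mem _) (one_mem _) h h' (one_mem _) (one_mem _) rfl).1

theorem cj_X (h : RP hp p w k) {a : Fin l → ℤ} (ha : IsRoot M.toCoxeterSystem hp.isCartan a) :
    cj k (XX D l (KK p) a) = XX D l (KK p) (rep M.toCoxeterSystem hp.isCartan w a) := by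
  rw [← XLe hp p]
  exact (tw hp p).conj_rp h ha

end RP

theorem sub_TL {Z : Set (YY D p)} (hZ : Z ⊆ TT D (KK p)) : Z ⊆ TL (Tj hp (k := KK p)) := by
  rw [TLe hp p]
  exact hZ

theorem mem_Ps {Z : Set (YY D p)} (hZ : Z ⊆ TT D (KK p)) {a : Fin l → ℤ} :
    a ∈ Ps hp p Z ↔ IsRoot M.toCoxeterSystem hp.isCartan a ∧ ∀ t ∈ Z, cX hp t a = 1 := by
  refine and_congr_right fun ha => forall_congr' fun t => forall_congr' fun ht => ?_
  rw [cX_root hp M.toCoxeterSystem (hZ ht) ha]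

theorem X_le_Mz {Z : Set (YY D p)} {a : Fin l → ℤ} (ha : a ∈ Ps hp p Z) : XX D l (KK p) a ≤ Mz hp p Z :=
  RGD.le_Sup ha

theorem Mz_le {Z : Set (YY D p)} {K : Subgroup (YY D p)} (h : ∀ a ∈ Ps hp p Z, XX D l (KK p) a ≤ K) :
    Mz hp p Z ≤ K := iSup_le fun a => h a.1 a.2

variable (hp) in
/-- **Centralisers of finite subsets of the torus.** -/
theorem form [Finite M.Group] {Z : Set (YY D p)} (hfin : Z.Finite) (hZ : Z ⊆ TT D (KK p)) {c : YY D p}
    (hc : ∀ t ∈ Z, c * t = t * c) : ∃ m ∈ Mz hp p Z, ∃ w ∈ PPZ M.toCoxeterSystem hp.isCartan (ch hp) Z, ∃ k,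
      RP hp p w k ∧ (∀ t ∈ Z, k * t = t * k) ∧ c = m * k := by
  have h := exists_formPZ (tw hp p) (coW hp p) (GGW hp p) (chW hp p) hfin (sub_TL hZ) hc
  rw [XLe hp p] at h
  exact h

variable (hp) in
/-- **Conjugation between finite families of the torus.** -/
theorem form₂ {ι : Type*} [Finite ι] {s t : ι → YY D p} (hs : ∀ i, s i ∈ TT D (KK p)) (ht : ∀ i, t i ∈ TT D (KK p))
    {c : YY D p} (e : ∀ i, c * s i = t i * c) :
    ∃ m ∈ Mz hp p (Set.range t), ∃ w k, RP hp p w k ∧ (∀ i, k * s i = t i * k) ∧ c = m * k := by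
  have := finW hp
  have h := exists_formZ (tw hp p) (coW hp p) (s := s) (t := t) (fun i => by rw [TLe hp p]; exact hs i)
    (fun i => by rw [TLe hp p]; exact ht i) (c := c) (by rw [GGW hp p]; exact Subgroup.mem_top _) e
  rw [XLe hp p] at h
  exact h

theorem pp_pow [Finite M.Group] {Z : Set (YY D p)} (hZ : Z ⊆ TT D (KK p)) {r : ℕ} (hr : r.Prime)
    (hZr : ∀ t ∈ Z, ∃ n : ℕ, t ^ r ^ n = 1) {w : M.Group} (hw : w ∈ PPZ M.toCoxeterSystem hp.isCartan (ch hp) Z) :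
    ∃ n : ℕ, w ^ r ^ n = 1 := isPGroup_PPZ (coW hp p) (chW hp p) (sub_TL hZ) hr hZr hw

theorem Mz_comm {Z : Set (YY D p)} (hZ : Z ⊆ TT D (KK p)) {m : YY D p} (hm : m ∈ Mz hp p Z) {t : YY D p} (ht : t ∈ Z) :
    m * t = t * m :=
  (Subgroup.mem_centralizer_iff.1 (MMZ_le_centralizer (coordsL hp M.toCoxeterSystem (locFin p) p) hZ hm) t ht).symm

theorem T_conj_Mz {Z : Set (YY D p)} {t m : YY D p} (ht : t ∈ TT D (KK p)) (hm : m ∈ Mz hp p Z) :
    t * m * t⁻¹ ∈ Mz hp p Z := by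
  have h := (tw hp p).T_le_normalizer (S := Ps hp p Z) (fun a ha => ha.1)
  rw [TLe hp p, XLe hp p] at h
  exact (Subgroup.mem_normalizer_iff.1 (h ht) m).1 hm

theorem Mz_le_DZ {Z : Set (YY D p)} : Mz hp p Z ≤ DZ hp p Z := le_sup_left

theorem T_le_DZ {Z : Set (YY D p)} : TT D (KK p) ≤ DZ hp p Z := le_sup_right

theorem mem_DZ {Z : Set (YY D p)} {c : YY D p} :
    c ∈ DZ hp p Z ↔ ∃ m ∈ Mz hp p Z, ∃ t ∈ TT D (KK p), c = m * t := by
  constructor
  · intro hc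
    let K : Subgroup (YY D p) :=
      { carrier := {c | ∃ m ∈ Mz hp p Z, ∃ t ∈ TT D (KK p), c = m * t}
        one_mem' := ⟨1, one_mem _, 1, one_mem _, (one_mul _).symm⟩
        mul_mem' := by
          rintro _ _ ⟨m, hm, t, ht, rfl⟩ ⟨m', hm', t', ht', rfl⟩
          exact ⟨m * (t * m' * t⁻¹), mul_mem hm (T_conj_Mz ht hm'), t * t', mul_mem ht ht', by group⟩
        inv_mem' := by
          rintro _ ⟨m, hm, t, ht, rfl⟩
          exact ⟨t⁻¹ * m⁻¹ * t⁻¹⁻¹, T_conj_Mz (inv_mem ht) (inv_mem hm), t⁻¹, inv_mem ht, by group⟩ }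
    have h : DZ hp p Z ≤ K := sup_le (fun m hm => ⟨m, hm, 1, one_mem _, (mul_one _).symm⟩)
      (fun t ht => ⟨1, one_mem _, t, ht, (one_mul _).symm⟩)
    exact h hc
  · rintro ⟨m, hm, t, ht, rfl⟩
    exact mul_mem (Mz_le_DZ hm) (T_le_DZ ht)

theorem DZ_comm {Z : Set (YY D p)} (hZ : Z ⊆ TT D (KK p)) {c : YY D p} (hc : c ∈ DZ hp p Z) {t : YY D p}
    (ht : t ∈ Z) : c * t = t * c := by
  obtain ⟨m, hm, s, hs, rfl⟩ := mem_DZ.1 hc
  rw [mul_assoc, TT_comm hp s hs t (hZ ht), ← mul_assoc, Mz_comm hZ hm ht, mul_assoc]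

theorem RP.conj_Mz {Z : Set (YY D p)} (hZ : Z ⊆ TT D (KK p)) {w : M.Group} {k : YY D p} (hk : RP hp p w k)
    (hkZ : ∀ t ∈ Z, k * t = t * k) {m : YY D p} (hm : m ∈ Mz hp p Z) : k * m * k⁻¹ ∈ Mz hp p Z := by
  have h := MMZ_conj (tw hp p) (coW hp p) (s := fun t : Z => (t : YY D p)) (t := fun t : Z => (t : YY D p))
    (fun t => sub_TL hZ t.2) hk (fun t => hkZ t t.2) (y := m) (by rw [Subtype.range_coe, XLe hp p]; exact hm)
  rwa [Subtype.range_coe, XLe hp p] at h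

theorem conj_mem_Mz {Z : Set (YY D p)} (hfin : Z.Finite) (hZ : Z ⊆ TT D (KK p)) {c : YY D p}
    (hc : ∀ t ∈ Z, c * t = t * c) {y : YY D p} (hy : y ∈ Mz hp p Z) : c * y * c⁻¹ ∈ Mz hp p Z := by
  have := finW hp
  obtain ⟨m, hm, w, -, k, hk, hkZ, rfl⟩ := form hp hfin hZ hc
  have h1 := hk.conj_Mz hZ hkZ hy
  have e : m * k * y * (m * k)⁻¹ = m * (k * y * k⁻¹) * m⁻¹ := by group
  rw [e]
  exact mul_mem (mul_mem hm h1) (inv_mem hm)

theorem conj_mem_DZ {Z : Set (YY D p)} (hfin : Z.Finite) (hZ : Z ⊆ TT D (KK p)) {c : YY D p}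
    (hc : ∀ t ∈ Z, c * t = t * c) {y : YY D p} (hy : y ∈ DZ hp p Z) : c * y * c⁻¹ ∈ DZ hp p Z := by
  have := finW hp
  obtain ⟨m', hm', t, ht, rfl⟩ := mem_DZ.1 hy
  have h0 := conj_mem_Mz hfin hZ hc hm'
  obtain ⟨m, hm, w, -, k, hk, hkZ, rfl⟩ := form hp hfin hZ hc
  have e : m * k * (m' * t) * (m * k)⁻¹ = (m * k * m' * (m * k)⁻¹) * (m * (k * t * k⁻¹) * m⁻¹) := by group
  rw [e]
  exact mul_mem (Mz_le_DZ h0) (mul_mem (mul_mem (Mz_le_DZ hm) (T_le_DZ (hk.conj_mem ht))) (inv_mem (Mz_le_DZ hm)))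

/-- powers of `m * k` -/
theorem pow_mul_mem_Mz {Z : Set (YY D p)} (hZ : Z ⊆ TT D (KK p)) {w : M.Group} {m k : YY D p} (hm : m ∈ Mz hp p Z)
    (hk : RP hp p w k) (hkZ : ∀ t ∈ Z, k * t = t * k) (n : ℕ) : (m * k) ^ n * (k ^ n)⁻¹ ∈ Mz hp p Z := by
  induction n with
  | zero => rw [pow_zero, pow_zero, inv_one, mul_one]; exact one_mem _
  | succ n ih =>
    have e : (m * k) ^ (n + 1) * (k ^ (n + 1))⁻¹ = m * (k * ((m * k) ^ n * (k ^ n)⁻¹) * k⁻¹) := by
      rw [pow_succ', pow_succ']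
      group
    rw [e]
    exact mul_mem hm (hk.conj_Mz hZ hkZ ih)

theorem pow_mem_DZ {Z : Set (YY D p)} (hZ : Z ⊆ TT D (KK p)) {w : M.Group} {m k : YY D p} (hm : m ∈ Mz hp p Z)
    (hk : RP hp p w k) (hkZ : ∀ t ∈ Z, k * t = t * k) {n : ℕ} (hw : w ^ n = 1) : (m * k) ^ n ∈ DZ hp p Z := by
  have h1 := hk.pow n
  rw [hw] at h1
  exact mem_DZ.2 ⟨_, pow_mul_mem_Mz hZ hm hk hkZ n, _, h1.mem_T, by group⟩

theorem pow_card_mem_DZ {Z : Set (YY D p)} (hfin : Z.Finite) (hZ : Z ⊆ TT D (KK p)) {c : YY D p}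
    (hc : ∀ t ∈ Z, c * t = t * c) : c ^ Nat.card M.Group ∈ DZ hp p Z := by
  have := finW hp
  obtain ⟨m, hm, w, -, k, hk, hkZ, rfl⟩ := form hp hfin hZ hc
  exact pow_mem_DZ hZ hm hk hkZ pow_card_eq_one'

theorem exists_pow_mem_DZ {Z : Set (YY D p)} (hfin : Z.Finite) (hZ : Z ⊆ TT D (KK p)) {r : ℕ} (hr : r.Prime)
    (hZr : ∀ t ∈ Z, ∃ n : ℕ, t ^ r ^ n = 1) {c : YY D p} (hc : ∀ t ∈ Z, c * t = t * c) :
    ∃ n : ℕ, c ^ r ^ n ∈ DZ hp p Z := by
  have := finW hp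
  obtain ⟨m, hm, w, hw, k, hk, hkZ, rfl⟩ := form hp hfin hZ hc
  obtain ⟨n, hn⟩ := pp_pow hZ hr hZr hw
  exact ⟨n, pow_mem_DZ hZ hm hk hkZ hn⟩

theorem mem_of_pow_coprime {G : Type*} [Group G] {K : Subgroup G} {c : G} {a b : ℕ} (ha : c ^ a ∈ K) (hb : c ^ b ∈ K)
    (hab : a.Coprime b) : c ∈ K := by
  have h1 : c ^ (a.gcd b : ℤ) ∈ K := by
    rw [Nat.gcd_eq_gcd_ab, zpow_add, zpow_mul, zpow_mul, zpow_natCast, zpow_natCast]
    exact mul_mem (zpow_mem ha _) (zpow_mem hb _)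
  rwa [hab, Nat.cast_one, zpow_one] at h1

/-- elements of order prime to `r` of the centraliser of a set of `r`-elements -/
theorem mem_DZ_of_coprime {Z : Set (YY D p)} (hfin : Z.Finite) (hZ : Z ⊆ TT D (KK p)) {r : ℕ} (hr : r.Prime)
    (hZr : ∀ t ∈ Z, ∃ n : ℕ, t ^ r ^ n = 1) {c : YY D p} (hc : ∀ t ∈ Z, c * t = t * c) {s : ℕ} (hs : r.Coprime s)
    (hcs : c ^ s = 1) : c ∈ DZ hp p Z := by
  obtain ⟨n, hn⟩ := exists_pow_mem_DZ (hp := hp) hfin hZ hr hZr hc
  exact mem_of_pow_coprime hn (by rw [hcs]; exact one_mem _) (hs.pow_left n)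

/-- `p`-elements of the centraliser -/
theorem pel_mem_Mz {Z : Set (YY D p)} (hfin : Z.Finite) (hZ : Z ⊆ TT D (KK p)) {r : ℕ} (hr : r.Prime) (hrp : r ≠ p)
    (hZr : ∀ t ∈ Z, ∃ n : ℕ, t ^ r ^ n = 1) {u : YY D p} (hu : ∀ t ∈ Z, u * t = t * u) (hup : ∃ n : ℕ, u ^ p ^ n = 1) :
    u ∈ Mz hp p Z := by
  have := finW hp
  have h := H225.Mono.mem_MMZ (tw hp p) (coW hp p) (chW hp p) (GGW hp p) hfin (sub_TL hZ) hr hrp hZr hu hup
  rwa [XLe hp p] at h

/-! ### torus elements -/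

theorem typ_l (hp : IsType D l M) :
    (D = chevF4 → l = 4) ∧ (D = chevE6 → l = 6) ∧ (D = chevE7 → l = 7) ∧ (D = chevE8 → l = 8) := by
  have h := rank_eq_of_inList hp.inList
  have h1 := hp.rank_eq
  exact ⟨fun e => h1 ▸ h.2.2.2.1 e, fun e => h1 ▸ h.2.2.2.2.1 e, fun e => h1 ▸ h.2.2.2.2.2.1 e,
    fun e => h1 ▸ h.2.2.2.2.2.2 e⟩

theorem exists_invC (hp : IsType D l M) (hD : Typ D) : ∃ (d : ℕ) (B : Fin l → Fin l → ℤ), InvC D l d B ∧ d ≠ 0 := by
  have h := typ_l hp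
  rcases hD with rfl | rfl | rfl | rfl
  · obtain rfl := h.1 rfl
    exact ⟨1, _, invC_F4, by norm_num⟩
  · obtain rfl := h.2.1 rfl
    exact ⟨3, _, invC_E6, by norm_num⟩
  · obtain rfl := h.2.2.1 rfl
    exact ⟨2, _, invC_E7, by norm_num⟩
  · obtain rfl := h.2.2.2 rfl
    exact ⟨1, _, invC_E8, by norm_num⟩

variable (hp) in
/-- **Every multiplicative function on the root lattice is the character of an element of the torus.** -/
theorem exists_tor (hD : Typ D) {φ : (Fin l → ℤ) → KK p} (hφ : IsMC φ) : ∃ t ∈ TT D (KK p), ∀ x, cX hp t x = φ x := by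
  obtain ⟨d, B, hB, hd⟩ := exists_invC hp hD
  exact exists_cX hp hB hd hφ fun i => IsAlgClosed.exists_pow_nat_eq _ (Nat.pos_of_ne_zero hd)

theorem isMC_zpow {k : Type*} [Field k] {c : k} (hc : c ≠ 0) (f : (Fin l → ℤ) →+ ℤ) : IsMC fun x => c ^ f x where
  zero := by
    show c ^ f 0 = 1
    rw [map_zero, zpow_zero]
  add x y := by
    show c ^ f (x + y) = c ^ f x * c ^ f y
    rw [map_add, zpow_add₀ hc]

variable (hp) in
theorem exists_tor_zpow (hD : Typ D) {c : KK p} (hc : c ≠ 0) (f : (Fin l → ℤ) →+ ℤ) :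
    ∃ t ∈ TT D (KK p), ∀ x, cX hp t x = c ^ f x := exists_tor hp hD (isMC_zpow hc f)

/-- the torus is divisible -/
theorem exists_root_T (hp : IsType D l M) (hD : Typ D) {t : YY D p} (ht : t ∈ TT D (KK p)) {n : ℕ} (hn : 0 < n) :
    ∃ s ∈ TT D (KK p), s ^ n = t := by
  choose c hc using fun i : Fin l => IsAlgClosed.exists_pow_nat_eq (cX hp t (sr i)) hn
  have hc0 : ∀ i, c i ≠ 0 := fun i h => (isMC_cX hp ht).ne_zero (sr i) (by rw [← hc i, h, zero_pow hn.ne'])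
  obtain ⟨s, hs, h1⟩ := exists_tor hp hD (IsMC.of_prod c hc0)
  refine ⟨s, hs, cX_inj hp (pow_mem hs n) ht fun i => ?_⟩
  rw [cX_pow hp hs, h1, ← hc i]
  congr 1
  rw [Finset.prod_eq_single i]
  · rw [sr_self, zpow_one]
  · intro j _ hj
    rw [sr_ne hj, zpow_zero]
  · intro h
    exact absurd (Finset.mem_univ i) h

theorem pow_eq_one_of_cX {t : YY D p} (ht : t ∈ TT D (KK p)) {n : ℕ} (h : ∀ x, cX hp t x ^ n = 1) : t ^ n = 1 :=
  cX_inj hp (pow_mem ht n) (one_mem _) fun i => by rw [cX_pow hp ht, h, cX_one]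

theorem comm_X {b : YY D p} (hb : b ∈ TT D (KK p)) {a : Fin l → ℤ} (ha : IsRoot M.toCoxeterSystem hp.isCartan a)
    (h : cX hp b a = 1) {y : YY D p} (hy : y ∈ XX D l (KK p) a) : b * y = y * b := by
  have h1 : a ∈ Ps hp p {b} := (mem_Ps (Set.singleton_subset_iff.2 hb)).2 ⟨ha, fun t ht => by rw [ht, h]⟩
  exact (Mz_comm (Set.singleton_subset_iff.2 hb) (X_le_Mz h1 hy) rfl).symm

theorem comm_Mz {Z : Set (YY D p)} {b : YY D p} (hb : b ∈ TT D (KK p)) (h : ∀ a ∈ Ps hp p Z, cX hp b a = 1)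
    {y : YY D p} (hy : y ∈ Mz hp p Z) : b * y = y * b := by
  have h1 : Mz hp p Z ≤ Subgroup.centralizer {b} := Mz_le fun a ha y hy =>
    Subgroup.mem_centralizer_singleton_iff.2 (comm_X hb ha.1 (h a ha) hy).symm
  exact (Subgroup.mem_centralizer_singleton_iff.1 (h1 hy)).symm

theorem comm_DZ {Z : Set (YY D p)} {b : YY D p} (hb : b ∈ TT D (KK p)) (h : ∀ a ∈ Ps hp p Z, cX hp b a = 1)
    {y : YY D p} (hy : y ∈ DZ hp p Z) : b * y = y * b := by
  obtain ⟨m, hm, t, ht, rfl⟩ := mem_DZ.1 hy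
  rw [← mul_assoc, comm_Mz hb h hm, mul_assoc, TT_comm hp b hb t ht, mul_assoc]

/-- a root group commuting with an element of the torus -/
theorem cX_eq_one_of_comm {b : YY D p} (hb : b ∈ TT D (KK p)) {a : Fin l → ℤ}
    (ha : IsRoot M.toCoxeterSystem hp.isCartan a) {c : KK p} (hc : c ≠ 0) (h : b * xc hp a c = xc hp a c * b) :
    cX hp b a = 1 := by
  obtain ⟨s, hs, rfl⟩ := (isRoot_iff hp M.toCoxeterSystem a).1 ha
  have h1 := (act hp hs hb).2 c
  rw [h, mul_inv_cancel_right] at h1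
  have h2 := xc_inj hp hs h1
  rw [cX_vec hp hb hs]
  exact (mul_right_cancel₀ hc (by rw [one_mul]; exact h2)).symm

theorem xc_mem {a : Fin l → ℤ} (ha : IsRoot M.toCoxeterSystem hp.isCartan a) (c : KK p) :
    xc hp a c ∈ XX D l (KK p) a :=
  (((coordsL hp M.toCoxeterSystem (locFin p) p).coord a ha).mem _).2 ⟨c, rfl⟩

theorem mem_X {a : Fin l → ℤ} (ha : IsRoot M.toCoxeterSystem hp.isCartan a) {y : YY D p} :
    y ∈ XX D l (KK p) a ↔ ∃ c, xc hp a c = y := ((coordsL hp M.toCoxeterSystem (locFin p) p).coord a ha).mem y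

/-! ### toral subgroups -/

/-- `⟨Z, y⟩` toral implies `y ∈ DZ Z` -/
theorem mem_DZ_of_toral (hD : Typ D) {Z : Set (YY D p)} (hfin : Z.Finite) (hZ : Z ⊆ TT D (KK p)) {g y : YY D p}
    (hg : ∀ t ∈ Z, g * t * g⁻¹ ∈ TT D (KK p)) (hy : g * y * g⁻¹ ∈ TT D (KK p)) : y ∈ DZ hp p Z := by
  have := finW hp
  obtain ⟨s, hs, h1⟩ := exists_root_T hp hD hy (Nat.card_pos (α := M.Group))
  have h2 : y = (g⁻¹ * s * g⁻¹⁻¹) ^ Nat.card M.Group := by
    rw [conj_pow, h1]
    group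
  rw [h2]
  refine pow_card_mem_DZ hfin hZ fun t ht => ?_
  have h3 := TT_comm hp s hs _ (hg t ht)
  calc g⁻¹ * s * g⁻¹⁻¹ * t = g⁻¹ * (s * (g * t * g⁻¹)) * g := by group
    _ = g⁻¹ * (g * t * g⁻¹ * s) * g := by rw [h3]
    _ = _ := by group

theorem mem_DZ_of_tp (hD : Typ D) {t y : YY D p} (ht : t ∈ TT D (KK p)) (h : Tp p t y) : y ∈ DZ hp p {t} := by
  obtain ⟨g, h1, h2⟩ := h
  exact mem_DZ_of_toral hD (Set.finite_singleton t) (Set.singleton_subset_iff.2 ht) (fun s hs => by rw [hs]; exact h1) h2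

/-- **The induction step**: `Z ⊆ T` finite, `x ∈ DZ Z` an `r`-element: the `r`-subgroups of `⟨x, Z⟩` are toral -/
theorem toral_step {r n : ℕ} (hr : r.Prime) (hrp : r ≠ p) {Z : Set (YY D p)} (hfin : Z.Finite)
    (hZ : Z ⊆ TT D (KK p)) {x : YY D p} (hx : x ∈ DZ hp p Z) (hxr : x ^ r ^ n = 1) {Q : Subgroup (YY D p)}
    (hQ : IsPGroup r Q) (hle : Q ≤ Subgroup.closure (insert x Z)) : Toral p Q := by
  have := finW hp
  obtain ⟨m, hm, t, ht, e⟩ := mem_DZ.1 hx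
  obtain ⟨e', he'⟩ := exists_not_dvd hr (Nat.card_pos (α := M.Group)).ne'
  exact H795.TorSub.exists_toral_step hp p (locFin p) hr hrp he' hfin hZ e hm ht hxr hQ hle

theorem isPGroup_of_comm {G : Type*} [Group G] {r : ℕ} {S : Set G} (hc : ∀ x ∈ S, ∀ y ∈ S, x * y = y * x)
    (hS : ∀ x ∈ S, ∃ n : ℕ, x ^ r ^ n = 1) : IsPGroup r (Subgroup.closure S) := by
  have h0 : ∀ x ∈ Subgroup.closure S, ∀ y ∈ Subgroup.closure S, x * y = y * x := by
    intro x hx y hy
    have h1 : Subgroup.closure S ≤ Subgroup.centralizer (Subgroup.closure S : Set G) := by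
      rw [Subgroup.closure_le, Subgroup.centralizer_closure]
      intro a ha
      exact Subgroup.mem_centralizer_iff.2 fun b hb => hc b hb a ha
    exact (Subgroup.mem_centralizer_iff.1 (h1 hy) x hx)
  rintro ⟨x, hx⟩
  have h2 : ∃ n : ℕ, x ^ r ^ n = 1 := by
    induction hx using Subgroup.closure_induction with
    | mem a ha => exact hS a ha
    | one => exact ⟨0, one_pow _⟩
    | mul a b ha hb iha ihb =>
      obtain ⟨m, hm⟩ := iha
      obtain ⟨n, hn⟩ := ihb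
      refine ⟨m + n, ?_⟩
      rw [(show Commute a b from h0 a ha b hb).mul_pow, pow_add, pow_mul, hm, one_pow, one_mul, mul_comm, pow_mul, hn,
        one_pow]
    | inv a _ iha =>
      obtain ⟨m, hm⟩ := iha
      exact ⟨m, by rw [inv_pow, hm, inv_one]⟩
  obtain ⟨n, hn⟩ := h2
  exact ⟨n, Subtype.ext hn⟩

theorem tp_of_mem_DZ {r : ℕ} (hr : r.Prime) (hrp : r ≠ p) {t y : YY D p} (ht : t ∈ TT D (KK p))
    (htr : ∃ n : ℕ, t ^ r ^ n = 1) (hy : y ∈ DZ hp p {t}) (hyr : ∃ n : ℕ, y ^ r ^ n = 1) : Tp p t y := by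
  obtain ⟨n, hn⟩ := hyr
  have hZ : ({t} : Set (YY D p)) ⊆ TT D (KK p) := Set.singleton_subset_iff.2 ht
  have hc : y * t = t * y := DZ_comm hZ hy rfl
  obtain ⟨g, hg⟩ := toral_step hr hrp (Set.finite_singleton t) hZ hy hn (Q := Subgroup.closure (insert y {t}))
    (isPGroup_of_comm (by
      rintro a (rfl | rfl) b (rfl | rfl)
      exacts [rfl, hc, hc.symm, rfl]) (by
      rintro a (rfl | rfl)
      exacts [⟨n, hn⟩, htr])) le_rfl
  exact ⟨g, hg t (Subgroup.subset_closure (Or.inr rfl)), hg y (Subgroup.subset_closure (Or.inl rfl))⟩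

theorem Tp.symm {x y : YY D p} (h : Tp p x y) : Tp p y x := by
  obtain ⟨g, h1, h2⟩ := h
  exact ⟨g, h2, h1⟩

theorem Tp.conj {x y : YY D p} (h : Tp p x y) (c : YY D p) : Tp p (c * x * c⁻¹) (c * y * c⁻¹) := by
  obtain ⟨g, h1, h2⟩ := h
  refine ⟨g * c⁻¹, ?_, ?_⟩
  · have e : g * c⁻¹ * (c * x * c⁻¹) * (g * c⁻¹)⁻¹ = g * x * g⁻¹ := by group
    rwa [e]
  · have e : g * c⁻¹ * (c * y * c⁻¹) * (g * c⁻¹)⁻¹ = g * y * g⁻¹ := by group
    rwa [e]

theorem Tp.of_conj {x y c : YY D p} (h : Tp p (c * x * c⁻¹) (c * y * c⁻¹)) : Tp p x y := by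
  have h1 := h.conj c⁻¹
  have e : ∀ a : YY D p, c⁻¹ * (c * a * c⁻¹) * c⁻¹⁻¹ = a := fun a => by group
  rwa [e, e] at h1

/-- elements of order prime to `p` are toral -/
theorem exists_conj_T (hp : IsType D l M) {x : YY D p} {r : ℕ} (hr : r.Prime) (hrp : r ≠ p) {n : ℕ} (hx : x ^ r ^ n = 1) :
    ∃ g : YY D p, g * x * g⁻¹ ∈ TT D (KK p) :=
  H944.TorAnyChev.exists_conj_mem_TT hp p (TorAll.hAlg_of_isAlgebraic p _) (pow_ne_zero n hr.ne_zero)
    (((Nat.coprime_primes hr Fact.out).2 hrp).pow_left n) hx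

/-- a toral pair can be conjugated into the torus keeping a given conjugate of the first element -/
theorem exists_pair (hp : IsType D l M) {z x g : YY D p} (hg : g * z * g⁻¹ ∈ TT D (KK p)) (h : Tp p z x) :
    ∃ g' : YY D p, g' * z * g'⁻¹ = g * z * g⁻¹ ∧ g' * x * g'⁻¹ ∈ TT D (KK p) := by
  obtain ⟨h, h1, h2⟩ := h
  obtain ⟨m, -, w, k, hk, hks, -⟩ := form₂ hp (ι := Unit) (s := fun _ => h * z * h⁻¹) (t := fun _ => g * z * g⁻¹)
    (fun _ => h1) (fun _ => hg) (c := g * h⁻¹) (fun _ => by group)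
  refine ⟨k * h, ?_, ?_⟩
  · calc k * h * z * (k * h)⁻¹ = k * (h * z * h⁻¹) * k⁻¹ := by group
      _ = g * z * g⁻¹ * k * k⁻¹ := by rw [hks ()]
      _ = _ := by group
  · have e : k * h * x * (k * h)⁻¹ = k * (h * x * h⁻¹) * k⁻¹ := by group
    rw [e]
    exact hk.conj_mem h2

theorem exists_std_pair {r : ℕ} {i : Fin l} {z x : YY D p} (hz : z ∈ Om hp p r i) (h : Tp p z x) :
    ∃ (g : YY D p) (ζ : KK p), IsPrimitiveRoot ζ r ∧ Std hp p ζ i (g * z * g⁻¹) ∧ g * x * g⁻¹ ∈ TT D (KK p) := by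
  obtain ⟨g, ζ, hζ, hs⟩ := hz
  obtain ⟨g', h1, h2⟩ := exists_pair hp hs.1 h
  exact ⟨g', ζ, hζ, by rw [h1]; exact hs, h2⟩

theorem Std.unique {ζ : KK p} {i : Fin l} {s t : YY D p} (hs : Std hp p ζ i s) (ht : Std hp p ζ i t) : s = t :=
  cX_inj hp hs.1 ht.1 fun j => by rw [hs.2, ht.2]

theorem conj_mem_Om {r : ℕ} {i : Fin l} {z : YY D p} (hz : z ∈ Om hp p r i) (c : YY D p) :
    c * z * c⁻¹ ∈ Om hp p r i := by
  obtain ⟨g, ζ, hζ, hs⟩ := hz
  refine ⟨g * c⁻¹, ζ, hζ, ?_⟩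
  have e : g * c⁻¹ * (c * z * c⁻¹) * (g * c⁻¹)⁻¹ = g * z * g⁻¹ := by group
  rwa [e]

theorem exists_prim {r : ℕ} (hr : r.Prime) (hrp : r ≠ p) : ∃ ζ : KK p, IsPrimitiveRoot ζ r :=
  H897.T5Cent.exists_prim (k := KK p) p hr hrp

/-! ### dimensions -/

theorem ad_mul (a b : YY D p) (v : D.Idx → KK p) : ad D p (a * b) v = ad D p a (ad D p b v) := by
  rw [map_mul]
  rfl

theorem ad_one (v : D.Idx → KK p) : ad D p 1 v = v := by
  rw [map_one]
  rfl

/-- the action of `g` as a linear equivalence -/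
noncomputable def adE (g : YY D p) : (D.Idx → KK p) ≃ₗ[KK p] (D.Idx → KK p) where
  toLinearMap := ad D p g
  invFun := ad D p g⁻¹
  left_inv v := by
    show ad D p g⁻¹ (ad D p g v) = v
    rw [← ad_mul, inv_mul_cancel, ad_one]
  right_inv v := by
    show ad D p g (ad D p g⁻¹ v) = v
    rw [← ad_mul, mul_inv_cancel, ad_one]

theorem adE_apply (g : YY D p) (v : D.Idx → KK p) : adE g v = ad D p g v := rfl

theorem finrank_eq_of_ad (g : YY D p) {U V : Submodule (KK p) (D.Idx → KK p)} (h : ∀ v, ad D p g v ∈ V ↔ v ∈ U) :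
    Module.finrank (KK p) V = Module.finrank (KK p) U := by
  have h1 : V = U.map (adE g : (D.Idx → KK p) →ₗ[KK p] (D.Idx → KK p)) := by
    ext v
    rw [Submodule.mem_map_equiv, ← h]
    show _ ↔ adE g ((adE g).symm v) ∈ V
    rw [LinearEquiv.apply_symm_apply]
  rw [h1, LinearEquiv.finrank_map_eq]

theorem ev_conj (g y : YY D p) (c : KK p) : NT.ev (ad D p) (g * y * g⁻¹) c = NT.ev (ad D p) y c := by
  refine finrank_eq_of_ad g fun v => ?_
  rw [Module.End.mem_eigenspace_iff, Module.End.mem_eigenspace_iff, ← ad_mul, inv_mul_cancel_right, ad_mul, ← map_smul]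
  exact (adE g).injective.eq_iff

theorem dd_conj (g y : YY D p) : dd p (g * y * g⁻¹) = dd p y := ev_conj g y 1

theorem finrank_Fx_conj (g : YY D p) {Z Z' : Set (YY D p)} (h : ∀ y, g * y * g⁻¹ ∈ Z' ↔ y ∈ Z) :
    Module.finrank (KK p) (Fx p Z') = Module.finrank (KK p) (Fx p Z) := by
  refine finrank_eq_of_ad g fun v => ?_
  rw [mem_Fx, mem_Fx]
  constructor
  · intro h1 y hy
    have h2 := h1 _ ((h y).2 hy)
    rw [← ad_mul, inv_mul_cancel_right, ad_mul] at h2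
    exact (adE g).injective h2
  · intro h1 y hy
    have h2 := h1 (g⁻¹ * y * g) ((h _).1 (by
      have e : g * (g⁻¹ * y * g) * g⁻¹ = y := by group
      rwa [e]))
    have e : y * g = g * (g⁻¹ * y * g) := by group
    rw [← ad_mul, e, ad_mul, h2]

variable (hp) in
/-- the weight of a basis vector -/
noncomputable def wtc (t : YY D p) : D.Idx → KK p :=
  Sum.elim (fun _ => (1 : KK p)) (fun s : Fin D.nroots => cX hp t (vec D l s))

theorem ad_tor {t : YY D p} (ht : t ∈ TT D (KK p)) (v : D.Idx → KK p) (j : D.Idx) :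
    ad D p t v j = wtc hp t j * v j := by
  rw [ad_apply, H83.RootCount.coe_eq_diagonal hp ht, Matrix.mulVec_diagonal]
  rfl

theorem finrank_of_coord (q : D.Idx → Prop) [DecidablePred q] (U : Submodule (KK p) (D.Idx → KK p))
    (hU : ∀ v, v ∈ U ↔ ∀ j, ¬ q j → v j = 0) : Module.finrank (KK p) U = (Finset.univ.filter q).card :=
  NT.finrank_eq_card_of_basis (Pi.basisFun (KK p) D.Idx) q U fun v => by
    rw [hU]
    rfl

theorem card_sum_filter {α β : Type*} [Fintype α] [Fintype β] (q : α ⊕ β → Prop) [DecidablePred q] :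
    (Finset.univ.filter q).card =
      (Finset.univ.filter fun a => q (Sum.inl a)).card + (Finset.univ.filter fun b => q (Sum.inr b)).card := by
  rw [Finset.card_filter, Finset.card_filter, Finset.card_filter, Fintype.sum_sum_type]

open Classical in
theorem ev_tor {t : YY D p} (ht : t ∈ TT D (KK p)) (c : KK p) : NT.ev (ad D p) t c =
    (if c = 1 then l else 0) + (Finset.univ.filter fun s : Fin D.nroots => cX hp t (vec D l s) = c).card := by
  have h1 := finrank_of_coord (fun j => wtc hp t j = c) (Module.End.eigenspace (ad D p t) c) fun v => by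
    rw [Module.End.mem_eigenspace_iff]
    constructor
    · intro h j hj
      have h2 := congrFun h j
      rw [ad_tor (hp := hp) ht, Pi.smul_apply, smul_eq_mul] at h2
      by_contra h3
      exact hj (mul_right_cancel₀ h3 h2)
    · intro h
      funext j
      rw [ad_tor (hp := hp) ht, Pi.smul_apply, smul_eq_mul]
      by_cases hj : wtc hp t j = c
      · rw [hj]
      · rw [h j hj, mul_zero, mul_zero]
  unfold NT.ev
  rw [h1, card_sum_filter]
  congr 1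
  show (Finset.univ.filter fun _ : Fin D.rank => (1 : KK p) = c).card = _
  by_cases hc : c = 1
  · rw [if_pos hc, Finset.filter_true_of_mem fun _ _ => hc.symm, Finset.card_univ, Fintype.card_fin, hp.rank_eq]
  · rw [if_neg hc, Finset.filter_false_of_mem fun _ _ h => hc h.symm, Finset.card_empty]

open Classical in
variable (hp) in
theorem dd_tor {t : YY D p} (ht : t ∈ TT D (KK p)) :
    dd p t = l + (Finset.univ.filter fun s : Fin D.nroots => cX hp t (vec D l s) = 1).card := by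
  unfold dd
  rw [ev_tor (hp := hp) ht, if_pos rfl]

variable (hp) in
/-- the form for tables: the character is `ζ ^ f x` -/
theorem dd_tor_zpow {t : YY D p} (ht : t ∈ TT D (KK p)) {ζ : KK p} {r : ℕ} (hζ : IsPrimitiveRoot ζ r)
    {f : (Fin l → ℤ) → ℤ} (hf : ∀ x, cX hp t x = ζ ^ f x) :
    dd p t = l + (Finset.univ.filter fun s : Fin D.nroots => (r : ℤ) ∣ f (vec D l s)).card := by
  classical
  rw [dd_tor hp ht]
  congr 2
  ext s
  simp only [Finset.mem_filter, Finset.mem_univ, true_and]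
  rw [hf, hζ.zpow_eq_one_iff_dvd]

open Classical in
variable (hp) in
theorem finrank_Fx {Z : Set (YY D p)} (hZ : Z ⊆ TT D (KK p)) : Module.finrank (KK p) (Fx p Z) =
    l + (Finset.univ.filter fun s : Fin D.nroots => vec D l s ∈ Ps hp p Z).card := by
  have h1 := finrank_of_coord (fun j => ∀ t ∈ Z, wtc hp t j = 1) (Fx p Z) fun v => by
    rw [mem_Fx]
    constructor
    · intro h j hj
      by_contra h3
      refine hj fun t ht => ?_
      have h2 := congrFun (h t ht) j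
      rw [ad_tor (hp := hp) (hZ ht)] at h2
      exact mul_right_cancel₀ h3 (by rw [h2, one_mul])
    · intro h t ht
      funext j
      rw [ad_tor (hp := hp) (hZ ht)]
      by_cases hj : ∀ t ∈ Z, wtc hp t j = 1
      · rw [hj t ht, one_mul]
      · rw [h j hj, mul_zero]
  rw [h1, card_sum_filter]
  congr 1
  · rw [Finset.filter_true_of_mem fun _ _ _ _ => rfl, Finset.card_univ, Fintype.card_fin, hp.rank_eq]
  · congr 1
    ext s
    simp only [Finset.mem_filter, Finset.mem_univ, true_and]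
    rw [mem_Ps hZ]
    exact ⟨fun h => ⟨isRoot_vec hp M.toCoxeterSystem s.2, h⟩, fun h => h.2⟩

theorem finrank_ad (hp : IsType D l M) : Module.finrank (KK p) (D.Idx → KK p) = l + D.nroots := by
  rw [Module.finrank_fintype_fun_eq_card, Fintype.card_sum, Fintype.card_fin, Fintype.card_fin, hp.rank_eq]

/-- the eigenvalues of a toral element are symmetric -/
theorem ev_inv (hp : IsType D l M) {y g : YY D p} (hy : g * y * g⁻¹ ∈ TT D (KK p)) (c : KK p) :
    NT.ev (ad D p) y c⁻¹ = NT.ev (ad D p) y c := by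
  classical
  rw [← ev_conj g y, ← ev_conj g y, ev_tor (hp := hp) hy, ev_tor (hp := hp) hy]
  congr 1
  · simp only [inv_eq_one]
  · have hneg : ∀ s : Fin D.nroots, D.neg s < D.nroots := fun s => NPerm.neg_lt hp.inList s.2
    have hv : ∀ s : Fin D.nroots, cX hp (g * y * g⁻¹) (vec D l (D.neg s)) = (cX hp (g * y * g⁻¹) (vec D l s))⁻¹ :=
      fun s => by rw [vec_neg hp s.2, (isMC_cX hp hy).neg]
    have hnn : ∀ s : Fin D.nroots, D.neg (D.neg s) = s := fun s =>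
      vec_inj hp (NPerm.neg_lt hp.inList (hneg s)) s.2 (by rw [vec_neg hp (hneg s), vec_neg hp s.2, neg_neg])
    refine Finset.card_bij' (fun s _ => ⟨D.neg s, hneg s⟩) (fun s _ => ⟨D.neg s, hneg s⟩) ?_ ?_ ?_ ?_
    · intro s hs
      simp only [Finset.mem_filter, Finset.mem_univ, true_and] at hs ⊢
      rw [hv, hs, inv_inv]
    · intro s hs
      simp only [Finset.mem_filter, Finset.mem_univ, true_and] at hs ⊢
      rw [hv, hs]
    · intro s _
      exact Fin.ext (hnn s)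
    · intro s _
      exact Fin.ext (hnn s)

end Cfsg.Agent.DS.Nt
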