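import Cfsg.Agent.DS.Nt.Base
import Cfsg.Agent.H931.KC.PPCard
import Cfsg.Agent.H897.T5Conn

/-!
# S5881, exceptional groups, the non-toral local case: classes of elements of prime order (helper86)

* `iso_of_noL` : if `NoL p E s` then every non-trivial element of `E` is isolated;
* `iso_F4`, `iso_E6`, `iso_E7`, `iso_E8` : the lists of classes, with the dimensions of the fixed spaces;
* `exists_DD` : the connected centraliser of an element of prime order; it is the centraliser except in `E₆`, `r = 3`,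
  and `E₇`, `r = 2`.
-/

set_option autoImplicit false
set_option linter.unusedSectionVars false
set_option maxRecDepth 100000

namespace Cfsg.Agent.DS.Nt

open CoxeterSystem Cfsg Cfsg.Lie Cfsg.Lie.ChevalleyDatum
open Cfsg.Agent.ChevalleyStructure Cfsg.Agent.ChevalleyStructure.Elts Cfsg.Agent.ChevalleyStructure.CoxeterGeom
  Cfsg.Agent.ChevalleyStructure.CoxeterGeomTypes
open Cfsg.Agent.Tits.Roots Cfsg.Agent.Tits.Core Cfsg.Agent.Nodes Cfsg.Agent.Nodes.Reps Cfsg.Agent.Nodes.BNOf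
  Cfsg.Agent.Nodes.RGDChev Cfsg.Agent.Nodes.Bruhat
open Cfsg.Agent.KFacts.RgdField Cfsg.Agent.KFacts.RgdChevCoord
open Cfsg.Agent.BpExc Cfsg.Agent.BpExc.TorCent Cfsg.Agent.BpExc.TorChev Cfsg.Agent.BpExc.Tow
  Cfsg.Agent.BpExc.TowChev Cfsg.Agent.BpExc.Fr Cfsg.Agent.BpExc.LangFr
open Cfsg.Agent.H469.Exc Cfsg.Agent.H795.SetCent Cfsg.Agent.H129.TorusChar Cfsg.Agent.DS.Ex
open Cfsg.Agent.H185.EE Cfsg.Agent.H897.T5Cent Cfsg.Agent.H931.KC

/-! ### tables -/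

theorem hrF4 : hr chevF4 4 = ![2, 4, 3, 2] := by decide +kernel
theorem hrE6 : hr chevE6 6 = ![1, 2, 2, 3, 2, 1] := by decide +kernel
theorem hrE7 : hr chevE7 7 = ![2, 2, 3, 4, 3, 2, 1] := by decide +kernel
theorem hrE8 : hr chevE8 8 = ![2, 3, 4, 6, 5, 4, 3, 2] := by decide +kernel

/-- the number of roots whose coefficient `i` is divisible by `r` -/
def nri (D : ChevalleyDatum) (l r : ℕ) (i : Fin l) : ℕ :=
  (Finset.univ.filter fun s : Fin D.nroots => (r : ℤ) ∣ vec D l s i).card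

theorem nri_F4 : nri chevF4 4 2 0 = 32 ∧ nri chevF4 4 2 3 = 20 ∧ nri chevF4 4 3 2 = 12 := by decide +kernel
theorem nri_E6 : nri chevE6 6 2 1 = 32 ∧ nri chevE6 6 3 3 = 18 := by decide +kernel
theorem nri_E7 : nri chevE7 7 2 0 = 62 ∧ nri chevE7 7 2 1 = 56 ∧ nri chevE7 7 3 2 = 36 ∧ nri chevE7 7 2 6 = 72 := by
  decide +kernel
theorem nri_E8 : nri chevE8 8 2 0 = 112 ∧ nri chevE8 8 2 7 = 128 ∧ nri chevE8 8 3 1 = 72 ∧ nri chevE8 8 3 6 = 78 ∧
    nri chevE8 8 5 4 = 40 := by decide +kernel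
theorem nr05_E6 : (Finset.univ.filter fun s : Fin chevE6.nroots =>
    ((3 : ℕ) : ℤ) ∣ vec chevE6 6 s 0 + vec chevE6 6 s 5).card = 24 := by decide +kernel

variable {D : ChevalleyDatum} {l : ℕ} {M : CoxeterMatrix (Fin l)} {hp : IsType D l M} {p : ℕ} [Fact p.Prime]

theorem hr_le (hp : IsType D l M) (hD : Typ D) (i : Fin l) : hr D l i ≤ 6 := by
  have h := typ_l hp
  rcases hD with rfl | rfl | rfl | rfl
  · obtain rfl := h.1 rfl
    rw [hrF4]; revert i; decide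
  · obtain rfl := h.2.1 rfl
    rw [hrE6]; revert i; decide
  · obtain rfl := h.2.2.1 rfl
    rw [hrE7]; revert i; decide
  · obtain rfl := h.2.2.2 rfl
    rw [hrE8]; revert i; decide

theorem hr_pos (hp : IsType D l M) (i : Fin l) : 0 < hr D l i := mk_pos hp (some i)

theorem dd_Om {r : ℕ} {i : Fin l} {z : YY D p} (hz : z ∈ Om hp p r i) : dd p z = l + nri D l r i := by
  obtain ⟨g, ζ, hζ, h1, h2⟩ := hz
  rw [← dd_conj g z]
  exact dd_tor_zpow hp h1 hζ (f := fun x => x i) h2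

/-- moving the character by the Weyl group -/
theorem exists_move {t : YY D p} (ht : t ∈ TT D (KK p)) (w : M.Group) : ∃ k : YY D p, k * t * k⁻¹ ∈ TT D (KK p) ∧
    ∀ x, cX hp (k * t * k⁻¹) x = cX hp t (rep M.toCoxeterSystem hp.isCartan w x) := by
  obtain ⟨k, hk⟩ := exists_RP hp p w⁻¹
  refine ⟨k, hk.conj_mem ht, fun x => ?_⟩
  have h := hk.cX ht (rep M.toCoxeterSystem hp.isCartan w x)
  rwa [rep_inv_apply] at h

variable (hp p) in
/-- the conjugates of the element with the character `ζ ^ ∑ x m * c m` -/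
def OmF (r : ℕ) (c : Fin l → ℤ) : Set (YY D p) :=
  {z | ∃ (g : YY D p) (ζ : KK p), IsPrimitiveRoot ζ r ∧ g * z * g⁻¹ ∈ TT D (KK p) ∧
    ∀ x, cX hp (g * z * g⁻¹) x = ζ ^ psi c x}

theorem psi_sr_left (i : Fin l) (x : Fin l → ℤ) : psi (sr i) x = x i := by
  rw [psi_apply, Finset.sum_eq_single i]
  · rw [sr_self, mul_one]
  · intro j _ hj
    rw [sr_ne hj, mul_zero]
  · intro h
    exact absurd (Finset.mem_univ i) h

theorem Om_eq (r : ℕ) (i : Fin l) : Om hp p r i = OmF hp p r (sr i) := by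
  ext z
  refine exists_congr fun g => exists_congr fun ζ => and_congr_right fun _ => and_congr_right fun _ =>
    forall_congr' fun x => ?_
  rw [psi_sr_left]

theorem zpow_congr {k : Type*} [Field k] {ζ : k} {r : ℕ} (hζ : IsPrimitiveRoot ζ r) (hr : r ≠ 0) {a b : ℤ}
    (h : (r : ℤ) ∣ a - b) : ζ ^ a = ζ ^ b := by
  obtain ⟨m, hm⟩ := h
  have e : a = r * m + b := by linear_combination hm
  rw [e, zpow_add₀ (hζ.ne_zero hr), zpow_mul, zpow_natCast, hζ.pow_eq_one, one_zpow, one_mul]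

theorem OmF_step {r : ℕ} (hr : r ≠ 0) {c c' : Fin l → ℤ} (j : Fin l)
    (h : ∀ m, (r : ℤ) ∣ c m - c j * cartanOf D l j m - c' m) {z : YY D p} (hz : z ∈ OmF hp p r c) :
    z ∈ OmF hp p r c' := by
  obtain ⟨g, ζ, hζ, h1, h2⟩ := hz
  obtain ⟨k, h3, h4⟩ := exists_move (hp := hp) h1 (M.toCoxeterSystem.simple j)
  have e : k * g * z * (k * g)⁻¹ = k * (g * z * g⁻¹) * k⁻¹ := by group
  refine ⟨k * g, ζ, hζ, by rwa [e], fun x => ?_⟩
  rw [e, h4, h2]
  refine zpow_congr hζ hr ?_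
  rw [rep_simple_eq, map_sub, map_zsmul, psi_sr, psi_apply, psi_apply, pairing, smul_eq_mul, Finset.sum_mul,
    ← Finset.sum_sub_distrib, ← Finset.sum_sub_distrib]
  refine Finset.dvd_sum fun m _ => ?_
  have e2 : x m * c m - cartanOf D l j m * x m * c j - x m * c' m = x m * (c m - c j * cartanOf D l j m - c' m) := by
    ring
  rw [e2]
  exact Dvd.dvd.mul_left (h m) _

/-- a chain of steps -/
def FOK (D : ChevalleyDatum) (l r : ℕ) : (Fin l → ℤ) → List (Fin l × (Fin l → ℤ)) → (Fin l → ℤ) → Prop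
  | c, [], d => ∀ m, c m = d m
  | c, (j, c') :: L, d => (∀ m, (r : ℤ) ∣ c m - c j * cartanOf D l j m - c' m) ∧ FOK D l r c' L d

theorem FOK_realised : True := by
  have := @FOK.eq_def
  trivial

/-- decidability of the chains -/
instance decFOK (D : ChevalleyDatum) (l r : ℕ) : (c : Fin l → ℤ) → (L : List (Fin l × (Fin l → ℤ))) →
    (d : Fin l → ℤ) → Decidable (FOK D l r c L d)
  | c, [], d => inferInstanceAs (Decidable (∀ m, c m = d m))
  | c, (j, c') :: L, d => @instDecidableAnd (∀ m, (r : ℤ) ∣ c m - c j * cartanOf D l j m - c' m) (FOK D l r c' L d)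
      inferInstance (decFOK D l r c' L d)

theorem decFOK_realised : True := by
  have := @decFOK.eq_def
  trivial

theorem OmF_chain {r : ℕ} (hr : r ≠ 0) {L : List (Fin l × (Fin l → ℤ))} {c d : Fin l → ℤ} (h : FOK D l r c L d)
    {z : YY D p} (hz : z ∈ OmF hp p r c) : z ∈ OmF hp p r d := by
  induction L generalizing c with
  | nil =>
    have e : c = d := funext h
    rwa [← e]
  | cons a L ih =>
    obtain ⟨j, c'⟩ := a
    exact ih h.2 (OmF_step hr j h.1 hz)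

theorem Om_chain {r : ℕ} (hr : r ≠ 0) {L : List (Fin l × (Fin l → ℤ))} {i j : Fin l} (h : FOK D l r (sr i) L (sr j))
    {z : YY D p} (hz : z ∈ Om hp p r i) : z ∈ Om hp p r j := by
  rw [Om_eq] at hz ⊢
  exact OmF_chain hr h hz

theorem chE6a : FOK chevE6 6 2 (sr 2) [(2, ![1, 0, 1, 1, 0, 0]),
    (3, ![1, 1, 0, 1, 1, 0]),
    (1, ![1, 1, 0, 0, 1, 0]),
    (4, ![1, 1, 0, 1, 1, 1]),
    (3, ![1, 0, 1, 1, 0, 1]),
    (2, ![0, 0, 1, 0, 0, 1]),
    (5, ![0, 0, 1, 0, 1, 1]),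
    (4, ![0, 0, 1, 1, 1, 0]),
    (3, ![0, 1, 0, 1, 0, 0]),
    (1, ![0, 1, 0, 0, 0, 0])] (sr 1) := by
  decide +kernel

theorem chE6b : FOK chevE6 6 2 (sr 4) [(4, ![0, 0, 0, 1, 1, 1]),
    (3, ![0, 1, 1, 1, 0, 1]),
    (1, ![0, 1, 1, 0, 0, 1]),
    (2, ![1, 1, 1, 1, 0, 1]),
    (0, ![1, 1, 0, 1, 0, 1]),
    (3, ![1, 0, 1, 1, 1, 1]),
    (2, ![0, 0, 1, 0, 1, 1]),
    (4, ![0, 0, 1, 1, 1, 0]),
    (3, ![0, 1, 0, 1, 0, 0]),
    (1, ![0, 1, 0, 0, 0, 0])] (sr 1) := by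
  decide +kernel

theorem chE7a : FOK chevE7 7 2 (sr 5) [(5, ![0, 0, 0, 0, 1, 1, 1]),
    (4, ![0, 0, 0, 1, 1, 0, 1]),
    (3, ![0, 1, 1, 1, 0, 0, 1]),
    (1, ![0, 1, 1, 0, 0, 0, 1]),
    (2, ![1, 1, 1, 1, 0, 0, 1]),
    (0, ![1, 1, 0, 1, 0, 0, 1]),
    (3, ![1, 0, 1, 1, 1, 0, 1]),
    (2, ![0, 0, 1, 0, 1, 0, 1]),
    (4, ![0, 0, 1, 1, 1, 1, 1]),
    (3, ![0, 1, 0, 1, 0, 1, 1]),
    (1, ![0, 1, 0, 0, 0, 1, 1]),
    (5, ![0, 1, 0, 0, 1, 1, 0]),
    (4, ![0, 1, 0, 1, 1, 0, 0]),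
    (3, ![0, 0, 1, 1, 0, 0, 0]),
    (2, ![1, 0, 1, 0, 0, 0, 0]),
    (0, ![1, 0, 0, 0, 0, 0, 0])] (sr 0) := by
  decide +kernel

theorem chE7b : FOK chevE7 7 3 (sr 4) [(4, ![0, 0, 0, 1, 2, 1, 0]),
    (3, ![0, 1, 1, 2, 0, 1, 0]),
    (1, ![0, 2, 1, 0, 0, 1, 0]),
    (2, ![1, 2, 2, 1, 0, 1, 0]),
    (0, ![2, 2, 0, 1, 0, 1, 0]),
    (3, ![2, 0, 1, 2, 1, 1, 0]),
    (2, ![0, 0, 2, 0, 1, 1, 0]),
    (4, ![0, 0, 2, 1, 2, 2, 0]),
    (3, ![0, 1, 0, 2, 0, 2, 0]),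
    (1, ![0, 2, 0, 0, 0, 2, 0]),
    (5, ![0, 2, 0, 0, 2, 1, 2]),
    (4, ![0, 2, 0, 2, 1, 0, 2]),
    (3, ![0, 1, 2, 1, 0, 0, 2]),
    (2, ![2, 1, 1, 0, 0, 0, 2]),
    (0, ![1, 1, 0, 0, 0, 0, 2]),
    (6, ![1, 1, 0, 0, 0, 2, 1]),
    (5, ![1, 1, 0, 0, 2, 1, 0]),
    (4, ![1, 1, 0, 2, 1, 0, 0]),
    (3, ![1, 0, 2, 1, 0, 0, 0]),
    (2, ![0, 0, 1, 0, 0, 0, 0])] (sr 2) := by
  decide +kernel

/-! ### isolated elements -/

/-- the functional of a non-isolated element -/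
theorem exists_fun_of_kac (hp : IsType D l M) (hD : Typ D) {r : ℕ} (hr' : r.Prime) {c : Fin l → ℕ} {c0 : ℕ}
    (K : Kac D l r c c0) (hne : ¬ ∀ x, (r : ℤ) ∣ bb c x) : (∃ i, hr D l i = r ∧ ∀ x, bb c x = x i) ∨
      ∃ f : (Fin l → ℤ) →+ ℤ, (∀ a, IsRoot M.toCoxeterSystem hp.isCartan a → (r : ℤ) ∣ bb c a → f a = 0) ∧
        ∃ x, 0 < f x ∧ f x ≤ 6 := by
  have hpos : ∀ f : (Fin l → ℤ) →+ ℤ, (∀ a, IsRoot M.toCoxeterSystem hp.isCartan a → 0 ≤ a →
      (r : ℤ) ∣ bb c a → f a = 0) → ∀ a, IsRoot M.toCoxeterSystem hp.isCartan a → (r : ℤ) ∣ bb c a → f a = 0 := by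
    intro f hf a ha hd
    by_cases h0 : 0 ≤ a
    · exact hf a ha h0 hd
    · have h1 := hf (-a) ha.neg (neg_of_not hp ha h0) (by rw [map_neg]; exact hd.neg_right)
      rwa [map_neg, neg_eq_zero] at h1
  have hex : ∃ i, c i ≠ 0 := by
    by_contra h
    push Not at h
    refine hne fun x => ?_
    show (r : ℤ) ∣ ∑ i, x i * (c i : ℤ)
    rw [Finset.sum_eq_zero fun i _ => by rw [h i, Nat.cast_zero, mul_zero]]
    exact dvd_zero _
  obtain ⟨i, hi⟩ := hex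
  by_cases h0 : c0 = 0
  · by_cases h1 : ∀ j, j ≠ i → c j = 0
    · left
      have hb : ∀ x, bb c x = x i * c i := fun x => by
        show ∑ j, x j * (c j : ℤ) = _
        rw [Finset.sum_eq_single i]
        · intro j _ hj
          rw [h1 j hj, Nat.cast_zero, mul_zero]
        · intro h
          exact absurd (Finset.mem_univ i) h
      have h2 : hr D l i * c i = r := by
        have h3 := bb_hr K
        rw [hb, h0] at h3
        simpa using h3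
      have h3 : c i ∣ r := by
        rw [← Int.natCast_dvd_natCast, ← h2]
        exact Dvd.intro_left _ rfl
      rcases (Nat.dvd_prime hr').1 h3 with h4 | h4
      · rw [h4] at h2
        exact ⟨i, by simpa using h2, fun x => by rw [hb, h4]; simp⟩
      · exact absurd (fun x => by rw [hb, h4]; exact Dvd.intro_left _ rfl) hne
    · right
      push Not at h1
      obtain ⟨j, hji, hj⟩ := h1
      refine ⟨hr D l j • psi (sr i) - hr D l i • psi (sr j), hpos _ fun a ha ha0 hd => ?_, sr i, ?_⟩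
      · show hr D l j * psi (sr i) a - hr D l i * psi (sr j) a = 0
        rw [psi_sr_left, psi_sr_left]
        rcases (dvd_iff hp K ha ha0).1 hd with h2 | ⟨-, h2⟩
        · rw [not_not.1 fun h => hi (h2 i h), not_not.1 fun h => hj (h2 j h)]
          ring
        · rw [not_not.1 fun h => hi (h2 i h), not_not.1 fun h => hj (h2 j h)]
          ring
      · have e : (hr D l j • psi (sr i) - hr D l i • psi (sr j)) (sr i) = hr D l j := by
          show hr D l j * psi (sr i) (sr i) - hr D l i * psi (sr j) (sr i) = _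
          rw [psi_sr_left, psi_sr_left, sr_self, sr_ne hji]
          ring
        rw [e]
        exact ⟨hr_pos hp j, hr_le hp hD j⟩
  · right
    refine ⟨psi (sr i), hpos _ fun a ha ha0 hd => ?_, sr i, ?_⟩
    · rw [psi_sr_left]
      rcases (dvd_iff hp K ha ha0).1 hd with h2 | ⟨h2, -⟩
      · exact not_not.1 fun h => hi (h2 i h)
      · exact absurd h2 h0
    · rw [psi_sr_left, sr_self]
      norm_num

theorem conj_comm {G : Type*} [Group G] {a b g : G} (h : a * b = b * a) :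
    (g * a * g⁻¹) * (g * b * g⁻¹) = (g * b * g⁻¹) * (g * a * g⁻¹) := by
  calc (g * a * g⁻¹) * (g * b * g⁻¹) = g * (a * b) * g⁻¹ := by group
    _ = g * (b * a) * g⁻¹ := by rw [h]
    _ = _ := by group

theorem comm_of_conj {G : Type*} [Group G] {b y g : G} (h : b * (g * y * g⁻¹) = (g * y * g⁻¹) * b) :
    (g⁻¹ * b * g) * y = y * (g⁻¹ * b * g) := by
  calc (g⁻¹ * b * g) * y = g⁻¹ * (b * (g * y * g⁻¹)) * g := by group
    _ = g⁻¹ * ((g * y * g⁻¹) * b) * g := by rw [h]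
    _ = _ := by group

variable (hp) in
/-- **Isolated elements.** -/
theorem iso_of_noL (hD : Typ D) {r s : ℕ} {E : Subgroup (YY D p)} (hE : EA p r E) (hs : Lp p s) (hrs : r ≠ s)
    (hN : NoL p E s) {e : YY D p} (he : e ∈ E) (h1 : e ≠ 1) : ∃ i, hr D l i = r ∧ e ∈ Om hp p r i := by
  obtain ⟨g, hg, -⟩ := hE.tp e he e he
  obtain ⟨ζ, hζ⟩ := exists_prim (p := p) hE.prime hE.ne
  have hpow : (g * e * g⁻¹) ^ r = 1 := by rw [conj_pow, hE.pow e he, mul_one, mul_inv_cancel]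
  obtain ⟨w, c, c0, K, h2, -⟩ := exists_kac' hp hE.prime.pos hζ hg hpow
  obtain ⟨k, h3, h4⟩ := exists_move (hp := hp) hg w
  have e1 : k * g * e * (k * g)⁻¹ = k * (g * e * g⁻¹) * k⁻¹ := by group
  rw [← e1] at h3 h4
  set g' := k * g
  have h5 : ∀ x, cX hp (g' * e * g'⁻¹) x = ζ ^ bb c x := fun x => by rw [h4, h2]; rfl
  have hne : ¬ ∀ x, (r : ℤ) ∣ bb c x := fun h => h1 (by
    have h6 : g' * e * g'⁻¹ = 1 := cX_inj hp h3 (one_mem _) fun i => by
      rw [h5, cX_one, hζ.zpow_eq_one_iff_dvd]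
      exact h _
    simpa using h6)
  rcases exists_fun_of_kac hp hD hE.prime K hne with ⟨i, h6, h7⟩ | ⟨f, hf, x, hx0, hx6⟩
  · exact ⟨i, h6, g', ζ, hζ, h3, fun x => by rw [h5, h7]⟩
  · exfalso
    obtain ⟨lam, hlam⟩ := exists_prim (p := p) hs.1 hs.2.2
    obtain ⟨b, hb, hbX⟩ := exists_tor_zpow hp hD (hlam.ne_zero hs.1.ne_zero) f
    have hZ : ({g' * e * g'⁻¹} : Set (YY D p)) ⊆ TT D (KK p) := Set.singleton_subset_iff.2 h3
    have hbc : ∀ y ∈ DZ hp p {g' * e * g'⁻¹}, b * y = y * b := fun y hy => comm_DZ hb (fun a ha => by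
      have h6 := (mem_Ps hZ).1 ha
      have h7 := h6.2 _ rfl
      rw [h5, hζ.zpow_eq_one_iff_dvd] at h7
      rw [hbX, hf a h6.1 h7, zpow_zero]) hy
    have hbs : b ^ s = 1 := pow_eq_one_of_cX (hp := hp) hb fun x => by
      rw [hbX, ← zpow_natCast, ← zpow_mul, mul_comm, zpow_mul, zpow_natCast, hlam.pow_eq_one, one_zpow]
    have h8 := hN (g'⁻¹ * b * g') (by
      have e2 : g'⁻¹ * b * g' = g'⁻¹ * b * g'⁻¹⁻¹ := by rw [inv_inv]
      rw [e2, conj_pow, hbs, mul_one, mul_inv_cancel])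
      (fun y hy => comm_of_conj (hbc _ (mem_DZ_of_tp hD h3 ((hE.tp e he y hy).conj g'))))
      (fun y hys hy => comm_of_conj (hbc _ (mem_DZ_of_coprime (Set.finite_singleton _) hZ hE.prime
        (fun t ht => ⟨1, by rw [ht, pow_one, conj_pow, hE.pow e he, mul_one, mul_inv_cancel]⟩)
        (fun t ht => by rw [ht]; exact conj_comm (hy e he)) ((Nat.coprime_primes hE.prime hs.1).2 hrs)
        (by rw [conj_pow, hys, mul_one, mul_inv_cancel]))))
    have h9 : b = 1 := by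
      have e3 : b = g' * (g'⁻¹ * b * g') * g'⁻¹ := by group
      rw [e3, h8, mul_one, mul_inv_cancel]
    have h10 := hbX x
    rw [h9, cX_one, eq_comm, hlam.zpow_eq_one_iff_dvd] at h10
    have h11 := Int.le_of_dvd hx0 h10
    have h12 := hs.2.1
    omega

section Lists

variable {r : ℕ} (hr' : r.Prime)
include hr'

theorem iso_F4 {M : CoxeterMatrix (Fin 4)} {hp : IsType chevF4 4 M} {e : YY chevF4 p}
    (h : ∃ i, hr chevF4 4 i = r ∧ e ∈ Om hp p r i) :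
    (r = 2 ∧ (dd p e = 36 ∨ dd p e = 24 ∧ e ∈ Om hp p 2 3)) ∨ (r = 3 ∧ dd p e = 16) := by
  obtain ⟨i, h1, h2⟩ := h
  have h3 := dd_Om h2
  rw [hrF4] at h1
  fin_cases i
  · obtain rfl : r = 2 := by simp at h1; omega
    exact Or.inl ⟨rfl, Or.inl (h3.trans (congrArg (4 + ·) nri_F4.1))⟩
  · obtain rfl : r = 4 := by simp at h1; omega
    exact absurd hr' (by norm_num)
  · obtain rfl : r = 3 := by simp at h1; omega
    exact Or.inr ⟨rfl, h3.trans (congrArg (4 + ·) nri_F4.2.2)⟩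
  · obtain rfl : r = 2 := by simp at h1; omega
    exact Or.inl ⟨rfl, Or.inr ⟨h3.trans (congrArg (4 + ·) nri_F4.2.1), h2⟩⟩

theorem iso_E6 {M : CoxeterMatrix (Fin 6)} {hp : IsType chevE6 6 M} {e : YY chevE6 p}
    (h : ∃ i, hr chevE6 6 i = r ∧ e ∈ Om hp p r i) :
    (r = 2 ∧ dd p e = 38 ∧ e ∈ Om hp p 2 1) ∨ (r = 3 ∧ dd p e = 24) := by
  obtain ⟨i, h1, h2⟩ := h
  have key : e ∈ Om hp p 2 1 → r = 2 → (r = 2 ∧ dd p e = 38 ∧ e ∈ Om hp p 2 1) ∨ (r = 3 ∧ dd p e = 24) :=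
    fun h4 h5 => Or.inl ⟨h5, (dd_Om h4).trans (congrArg (6 + ·) nri_E6.1), h4⟩
  rw [hrE6] at h1
  fin_cases i
  · obtain rfl : r = 1 := by simp at h1; omega
    exact absurd hr' (by norm_num)
  · obtain rfl : r = 2 := by simp at h1; omega
    exact key h2 rfl
  · obtain rfl : r = 2 := by simp at h1; omega
    exact key (Om_chain (by norm_num) chE6a h2) rfl
  · obtain rfl : r = 3 := by simp at h1; omega
    exact Or.inr ⟨rfl, (dd_Om h2).trans (congrArg (6 + ·) nri_E6.2)⟩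
  · obtain rfl : r = 2 := by simp at h1; omega
    exact key (Om_chain (by norm_num) chE6b h2) rfl
  · obtain rfl : r = 1 := by simp at h1; omega
    exact absurd hr' (by norm_num)

theorem iso_E7 {M : CoxeterMatrix (Fin 7)} {hp : IsType chevE7 7 M} {e : YY chevE7 p}
    (h : ∃ i, hr chevE7 7 i = r ∧ e ∈ Om hp p r i) :
    (r = 2 ∧ (dd p e = 63 ∧ e ∈ Om hp p 2 1 ∨ dd p e = 69 ∧ e ∈ Om hp p 2 0)) ∨
      (r = 3 ∧ dd p e = 43 ∧ e ∈ Om hp p 3 2) := by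
  obtain ⟨i, h1, h2⟩ := h
  have key : e ∈ Om hp p 2 0 → dd p e = 69 ∧ e ∈ Om hp p 2 0 :=
    fun h4 => ⟨(dd_Om h4).trans (congrArg (7 + ·) nri_E7.1), h4⟩
  have key' : e ∈ Om hp p 3 2 → dd p e = 43 ∧ e ∈ Om hp p 3 2 :=
    fun h4 => ⟨(dd_Om h4).trans (congrArg (7 + ·) nri_E7.2.2.1), h4⟩
  rw [hrE7] at h1
  fin_cases i
  · obtain rfl : r = 2 := by simp at h1; omega
    exact Or.inl ⟨rfl, Or.inr (key h2)⟩
  · obtain rfl : r = 2 := by simp at h1; omega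
    exact Or.inl ⟨rfl, Or.inl ⟨(dd_Om h2).trans (congrArg (7 + ·) nri_E7.2.1), h2⟩⟩
  · obtain rfl : r = 3 := by simp at h1; omega
    exact Or.inr ⟨rfl, key' h2⟩
  · obtain rfl : r = 4 := by simp at h1; omega
    exact absurd hr' (by norm_num)
  · obtain rfl : r = 3 := by simp at h1; omega
    exact Or.inr ⟨rfl, key' (Om_chain (by norm_num) chE7b h2)⟩
  · obtain rfl : r = 2 := by simp at h1; omega
    exact Or.inl ⟨rfl, Or.inr (key (Om_chain (by norm_num) chE7a h2))⟩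
  · obtain rfl : r = 1 := by simp at h1; omega
    exact absurd hr' (by norm_num)

theorem iso_E8 {M : CoxeterMatrix (Fin 8)} {hp : IsType chevE8 8 M} {e : YY chevE8 p}
    (h : ∃ i, hr chevE8 8 i = r ∧ e ∈ Om hp p r i) :
    (r = 2 ∧ (dd p e = 120 ∨ dd p e = 136 ∧ e ∈ Om hp p 2 7)) ∨
      (r = 3 ∧ (dd p e = 80 ∨ dd p e = 86 ∧ e ∈ Om hp p 3 6)) ∨ (r = 5 ∧ dd p e = 48) := by
  obtain ⟨i, h1, h2⟩ := h
  have h3 := dd_Om h2
  rw [hrE8] at h1
  fin_cases i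
  · obtain rfl : r = 2 := by simp at h1; omega
    exact Or.inl ⟨rfl, Or.inl (h3.trans (congrArg (8 + ·) nri_E8.1))⟩
  · obtain rfl : r = 3 := by simp at h1; omega
    exact Or.inr (Or.inl ⟨rfl, Or.inl (h3.trans (congrArg (8 + ·) nri_E8.2.2.1))⟩)
  · obtain rfl : r = 4 := by simp at h1; omega
    exact absurd hr' (by norm_num)
  · obtain rfl : r = 6 := by simp at h1; omega
    exact absurd hr' (by norm_num)
  · obtain rfl : r = 5 := by simp at h1; omega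
    exact Or.inr (Or.inr ⟨rfl, h3.trans (congrArg (8 + ·) nri_E8.2.2.2.2)⟩)
  · obtain rfl : r = 4 := by simp at h1; omega
    exact absurd hr' (by norm_num)
  · obtain rfl : r = 3 := by simp at h1; omega
    exact Or.inr (Or.inl ⟨rfl, Or.inr ⟨h3.trans (congrArg (8 + ·) nri_E8.2.2.2.1), h2⟩⟩)
  · obtain rfl : r = 2 := by simp at h1; omega
    exact Or.inl ⟨rfl, Or.inr ⟨h3.trans (congrArg (8 + ·) nri_E8.2.1), h2⟩⟩

end Lists

/-! ### the connected centraliser of an element of prime order -/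

theorem mem_PP_of_PPZ [Finite M.Group] {t : YY D p} {w : M.Group}
    (hw : w ∈ PPZ M.toCoxeterSystem hp.isCartan (ch hp) {t}) : w ∈ PP M.toCoxeterSystem hp.isCartan (ch hp) t :=
  mem_PP.2 ⟨fun a ha => hw.1 a ha t rfl, fun a ha => hw.2 a ⟨ha.1, fun s hs => by rw [hs]; exact ha.2⟩⟩

theorem nmk_le (hp : IsType D l M) (hD : Typ D) : nmk D l ≤ 3 ∧ (D = chevF4 ∨ D = chevE8 → nmk D l = 1) ∧
    (D = chevE7 → nmk D l = 2) := by
  have h := typ_l hp
  have n46 : chevF4 ≠ chevE7 := fun e => absurd (congrArg ChevalleyDatum.rank e) (by decide)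
  have n64 : chevE6 ≠ chevF4 := fun e => absurd (congrArg ChevalleyDatum.rank e) (by decide)
  have n68 : chevE6 ≠ chevE8 := fun e => absurd (congrArg ChevalleyDatum.rank e) (by decide)
  have n67 : chevE6 ≠ chevE7 := fun e => absurd (congrArg ChevalleyDatum.rank e) (by decide)
  have n78 : chevE7 ≠ chevE8 := fun e => absurd (congrArg ChevalleyDatum.rank e) (by decide)
  rcases hD with rfl | rfl | rfl | rfl
  · obtain rfl := h.1 rfl
    rw [nmk_F4]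
    exact ⟨by norm_num, fun _ => rfl, fun e => absurd e n46⟩
  · obtain rfl := h.2.1 rfl
    rw [nmk_E6]
    exact ⟨by norm_num, fun e => e.elim (fun e => absurd e n64) (fun e => absurd e n68), fun e => absurd e n67⟩
  · obtain rfl := h.2.2.1 rfl
    rw [nmk_E7]
    exact ⟨by norm_num, fun e => e.elim (fun e => absurd e.symm n46) (fun e => absurd e n78), fun _ => rfl⟩
  · obtain rfl := h.2.2.2 rfl
    rw [nmk_E8]
    exact ⟨by norm_num, fun _ => rfl, fun e => absurd e.symm n78⟩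

theorem cast_ne_zero {r : ℕ} (hr' : r.Prime) (hrp : r ≠ p) : (r : KK p) ≠ 0 := by
  rw [Ne, CharP.cast_eq_zero_iff (KK p) p]
  intro h
  exact hrp ((Nat.prime_dvd_prime_iff_eq Fact.out hr').1 h).symm

/-- the order of `PP` is `1` or `r` -/
theorem card_PP [Finite M.Group] (hD : Typ D) {r : ℕ} (hr' : r.Prime) (hrp : r ≠ p) {t : YY D p} (ht : t ∈ TT D (KK p))
    (htr : t ^ r = 1) : Nat.card ↥(PP M.toCoxeterSystem hp.isCartan (ch hp) t) = 1 ∨
      (Nat.card ↥(PP M.toCoxeterSystem hp.isCartan (ch hp) t) = r ∧ r ≤ nmk D l) := by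
  have := Fact.mk hr'
  have h1 := card_PP_le hp (cast_ne_zero hr' hrp) ht htr
  rw [card_mk] at h1
  have h2 : IsPGroup r ↥(PP M.toCoxeterSystem hp.isCartan (ch hp) t) :=
    isPGroup_PP (chAddL hp M.toCoxeterSystem (locFin p) p) ht hr' fun a ha => by
      rw [← cX_root hp M.toCoxeterSystem ht ha, ← cX_pow hp ht, htr, cX_one]
  obtain ⟨n, hn⟩ := IsPGroup.iff_card.1 h2
  have h3 := (nmk_le hp hD).1
  have h4 := hr'.two_le
  rw [hn] at h1 ⊢
  rcases n with _ | _ | n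
  · exact Or.inl (pow_zero r)
  · rw [zero_add, pow_one] at h1 ⊢
    exact Or.inr ⟨rfl, h1⟩
  · exfalso
    have h5 : 2 ^ 2 ≤ r ^ (n + 1 + 1) :=
      (Nat.pow_le_pow_left h4 2).trans (Nat.pow_le_pow_right hr'.pos (by omega))
    omega

/-- the action of an element of `PP` on the extended diagram -/
theorem pp_diag [Finite M.Group] {n : ℕ} (hn : 0 < n) {ζ : KK p} (hζ : IsPrimitiveRoot ζ n) {t : YY D p}
    (ht : t ∈ TT D (KK p)) (htn : t ^ n = 1) {y : M.Group} (hy : y ∈ PP M.toCoxeterSystem hp.isCartan (ch hp) t)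
    (hy1 : y ≠ 1) : ∃ (w v : M.Group) (c : Fin l → ℕ) (c0 : ℕ) (π : Equiv.Perm (Option (Fin l))), Kac D l n c c0 ∧
      (∀ x, cX hp t (rep M.toCoxeterSystem hp.isCartan w x) = ζ ^ bb c x) ∧ v = w⁻¹ * y * w ∧
      (∀ i, rep M.toCoxeterSystem hp.isCartan v (al D l i) = al D l (π i)) ∧ (∀ i, ct c c0 (π i) = ct c c0 i) ∧
      π none ≠ none := by
  obtain ⟨w, c, c0, K, h1, h2⟩ := exists_kac_pos hp hn hζ ht htn
  have hζ0 : ζ ≠ 0 := hζ.ne_zero hn.ne'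
  have hstab : ∀ x, (n : ℤ) ∣ bb c (rep M.toCoxeterSystem hp.isCartan (w⁻¹ * y * w) x) - bb c x := by
    intro x
    rw [← hζ.zpow_eq_one_iff_dvd, zpow_sub₀ hζ0, ← h1, ← h1, rep_mul_apply, rep_mul_apply, rep_apply_inv,
      cX_PP hp ht hy, div_self ((isMC_cX hp ht).ne_zero _)]
  have hSJ : ∀ a, SJ hp n c a → SJ hp n c (rep M.toCoxeterSystem hp.isCartan (w⁻¹ * y * w) a) := by
    intro a ha
    have hr1 : IsRoot M.toCoxeterSystem hp.isCartan (rep M.toCoxeterSystem hp.isCartan (w⁻¹ * y * w) a) := ha.1.act _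
    have hd : (n : ℤ) ∣ bb c (rep M.toCoxeterSystem hp.isCartan (w⁻¹ * y * w) a) := by
      have h3 := dvd_add (hstab a) (SJ_dvd hp K ha)
      rwa [sub_add_cancel] at h3
    have hwa : rep M.toCoxeterSystem hp.isCartan w a ∈ Sx M.toCoxeterSystem hp.isCartan (ch hp) t := by
      refine ⟨ha.1.act w, ?_⟩
      rw [← cX_root hp M.toCoxeterSystem ht (ha.1.act w), h1, hζ.zpow_eq_one_iff_dvd]
      exact SJ_dvd hp K ha
    have hpos := (mem_PP.1 hy).2 _ hwa (h2 a ha)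
    have e : rep M.toCoxeterSystem hp.isCartan w (rep M.toCoxeterSystem hp.isCartan (w⁻¹ * y * w) a) =
        rep M.toCoxeterSystem hp.isCartan y (rep M.toCoxeterSystem hp.isCartan w a) := by
      rw [rep_mul_apply, rep_mul_apply, rep_apply_inv]
    rw [← e] at hpos
    rcases (dvd_iff_SJ hp K hr1).1 hd with h3 | h3
    · exact h3
    · exfalso
      have h4 := h2 _ h3
      rw [map_neg] at h4
      exact (hr1.act w).not_pos_neg hpos (neg_nonneg.1 h4)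
  obtain ⟨π, hπ, hπ'⟩ := diag hp K hstab hSJ
  refine ⟨w, _, c, c0, π, K, h1, rfl, hπ, hπ', fun h => hy1 ?_⟩
  have h3 := eq_one_of_none hp hπ (by rw [hπ, h])
  have e : y = w * (w⁻¹ * y * w) * w⁻¹ := by group
  rw [e, h3, mul_one, mul_inv_cancel]

theorem dd_of_kac {t : YY D p} (ht : t ∈ TT D (KK p)) {ζ : KK p} {r : ℕ} (hζ : IsPrimitiveRoot ζ r) {w : M.Group}
    {f : (Fin l → ℤ) → ℤ} (hf : ∀ x, cX hp t (rep M.toCoxeterSystem hp.isCartan w x) = ζ ^ f x) :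
    dd p t = l + (Finset.univ.filter fun s : Fin D.nroots => (r : ℤ) ∣ f (vec D l s)).card := by
  obtain ⟨k, h1, h2⟩ := exists_move (hp := hp) ht w
  rw [← dd_conj k t]
  exact dd_tor_zpow hp h1 hζ fun x => by rw [h2, hf]

theorem mk6 : ∀ j : Option (Fin 6), mk chevE6 6 j = 1 → j = none ∨ j = some 0 ∨ j = some 5 := by decide +kernel

theorem mk7 : ∀ j : Option (Fin 7), mk chevE7 7 j = 1 → j = none ∨ j = some 6 := by decide +kernel

theorem pp_E6 {M : CoxeterMatrix (Fin 6)} [Finite M.Group] {hp : IsType chevE6 6 M} (hrp : 3 ≠ p) {t : YY chevE6 p}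
    (ht : t ∈ TT chevE6 (KK p)) (htr : t ^ 3 = 1) {y : M.Group}
    (hy : y ∈ PP M.toCoxeterSystem hp.isCartan (ch hp) t) (hy1 : y ≠ 1) (hy3 : y ^ 3 = 1) :
    dd p t = 24 ∨ dd p t = 30 := by
  obtain ⟨ζ, hζ⟩ := exists_prim (p := p) Nat.prime_three hrp
  obtain ⟨w, v, c, c0, π, K, h1, hv, h2, h3, h4⟩ := pp_diag (by norm_num) hζ ht htr hy hy1
  have hv3 : v ^ 3 = 1 := by
    have e : v = w⁻¹ * y * w⁻¹⁻¹ := by rw [hv, inv_inv]
    rw [e, conj_pow, hy3, mul_one, mul_inv_cancel]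
  have h5 : π (π (π none)) = none := by
    refine al_inj hp ?_
    rw [← h2, ← h2, ← h2, ← rep_mul_apply, ← rep_mul_apply, ← pow_three', hv3, map_one, Module.End.one_apply]
  have h6 := mk6 _ (mk_perm hp h2 none)
  have h7 := mk6 _ ((mk_perm hp h2 (π none)).trans (mk_perm hp h2 none))
  have h8 : π (π none) ≠ none := fun h => h4 (by rw [h] at h5; exact h5)
  have h9 : π (π none) ≠ π none := fun h => h4 (π.injective h)
  have h10 : ct c c0 (π none) = c0 := h3 none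
  have h11 : ct c c0 (π (π none)) = c0 := (h3 _).trans h10
  have h12 : c 0 = c0 ∧ c 5 = c0 := by
    rcases h6 with h6 | h6 | h6
    · exact absurd h6 h4
    · rcases h7 with h7 | h7 | h7
      · exact absurd h7 h8
      · exact absurd (h7.trans h6.symm) h9
      · rw [h7] at h11
        rw [h6] at h10
        exact ⟨h10, h11⟩
    · rcases h7 with h7 | h7 | h7
      · exact absurd h7 h8
      · rw [h7] at h11
        rw [h6] at h10
        exact ⟨h11, h10⟩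
      · exact absurd (h7.trans h6.symm) h9
  have hb : ∀ x, bb c x = x 0 * c 0 + x 1 * c 1 + x 2 * c 2 + x 3 * c 3 + x 4 * c 4 + x 5 * c 5 := fun x => by
    show ∑ i, x i * (c i : ℤ) = _
    rw [Fin.sum_univ_six]
  have h14 : (c0 : ℤ) + (c 0 + 2 * c 1 + 2 * c 2 + 3 * c 3 + 2 * c 4 + c 5) = 3 := by
    have h15 := K.sum
    rw [hrE6, Fin.sum_univ_six] at h15
    simpa using h15
  obtain ⟨h15, h16⟩ := h12
  by_cases h17 : c0 = 0
  · left
    have h18 : c 0 = 0 ∧ c 1 = 0 ∧ c 2 = 0 ∧ c 3 = 1 ∧ c 4 = 0 ∧ c 5 = 0 := by omega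
    refine (dd_of_kac (hp := hp) ht hζ (w := w) (f := fun x => x 3) fun x => ?_).trans (congrArg (6 + ·) nri_E6.2)
    rw [h1, hb, h18.1, h18.2.1, h18.2.2.1, h18.2.2.2.1, h18.2.2.2.2.1, h18.2.2.2.2.2]
    simp
  · right
    have h18 : c 0 = 1 ∧ c 1 = 0 ∧ c 2 = 0 ∧ c 3 = 0 ∧ c 4 = 0 ∧ c 5 = 1 := by omega
    refine (dd_of_kac (hp := hp) ht hζ (w := w) (f := fun x => x 0 + x 5) fun x => ?_).trans (congrArg (6 + ·) nr05_E6)
    rw [h1, hb, h18.1, h18.2.1, h18.2.2.1, h18.2.2.2.1, h18.2.2.2.2.1, h18.2.2.2.2.2]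
    simp

theorem bl7 : H92.NE.bl ![![2, 0, -1, 0, 0, 0, 0], ![0, 2, 0, -1, 0, 0, 0], ![-1, 0, 2, -1, 0, 0, 0],
    ![0, -1, -1, 2, -1, 0, 0], ![0, 0, 0, -1, 2, -1, 0], ![0, 0, 0, 0, -1, 2, -1], ![0, 0, 0, 0, 0, -1, 2]]
    (al chevE7 7 (some 6)) (al chevE7 7 (some 0)) ≠ H92.NE.bl ![![2, 0, -1, 0, 0, 0, 0], ![0, 2, 0, -1, 0, 0, 0],
    ![-1, 0, 2, -1, 0, 0, 0], ![0, -1, -1, 2, -1, 0, 0], ![0, 0, 0, -1, 2, -1, 0], ![0, 0, 0, 0, -1, 2, -1],
    ![0, 0, 0, 0, 0, -1, 2]] (al chevE7 7 none) (al chevE7 7 (some 0)) ∧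
    H92.NE.bl ![![2, 0, -1, 0, 0, 0, 0], ![0, 2, 0, -1, 0, 0, 0], ![-1, 0, 2, -1, 0, 0, 0],
    ![0, -1, -1, 2, -1, 0, 0], ![0, 0, 0, -1, 2, -1, 0], ![0, 0, 0, 0, -1, 2, -1], ![0, 0, 0, 0, 0, -1, 2]]
    (al chevE7 7 (some 6)) (al chevE7 7 (some 5)) ≠ H92.NE.bl ![![2, 0, -1, 0, 0, 0, 0], ![0, 2, 0, -1, 0, 0, 0],
    ![-1, 0, 2, -1, 0, 0, 0], ![0, -1, -1, 2, -1, 0, 0], ![0, 0, 0, -1, 2, -1, 0], ![0, 0, 0, 0, -1, 2, -1],
    ![0, 0, 0, 0, 0, -1, 2]] (al chevE7 7 none) (al chevE7 7 (some 5)) := by decide +kernel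

theorem pp_E7 {M : CoxeterMatrix (Fin 7)} [Finite M.Group] {hp : IsType chevE7 7 M} (hrp : 2 ≠ p) {t : YY chevE7 p}
    (ht : t ∈ TT chevE7 (KK p)) (htr : t ^ 2 = 1) {y : M.Group}
    (hy : y ∈ PP M.toCoxeterSystem hp.isCartan (ch hp) t) (hy1 : y ≠ 1) : dd p t = 79 ∨ dd p t = 63 := by
  obtain ⟨ζ, hζ⟩ := exists_prim (p := p) Nat.prime_two hrp
  obtain ⟨w, v, c, c0, π, K, h1, hv, h2, h3, h4⟩ := pp_diag (by norm_num) hζ ht htr hy hy1
  have h6 : π none = some 6 := (mk7 _ (mk_perm hp h2 none)).resolve_left h4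
  have h10 : c 6 = c0 := by
    have h := h3 none
    rwa [h6] at h
  have hb : ∀ x, bb c x = x 0 * c 0 + x 1 * c 1 + x 2 * c 2 + x 3 * c 3 + x 4 * c 4 + x 5 * c 5 + x 6 * c 6 :=
    fun x => by
      show ∑ i, x i * (c i : ℤ) = _
      rw [Fin.sum_univ_seven]
  have h14 : (c0 : ℤ) + (2 * c 0 + 2 * c 1 + 3 * c 2 + 4 * c 3 + 3 * c 4 + 2 * c 5 + c 6) = 2 := by
    have h15 := K.sum
    rw [hrE7, Fin.sum_univ_seven] at h15
    simpa using h15
  have hfix : ∀ i : Fin 7, c i ≠ 0 → (∀ j, j ≠ i → c j = 0) → c0 = 0 → π (some i) = some i := by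
    intro i hi hj h0
    have h5 := h3 (some i)
    rcases h7 : π (some i) with _ | j
    · rw [h7] at h5
      exact absurd (h5.symm.trans h0) hi
    · rw [h7] at h5
      by_contra h8
      exact hi (h5.symm.trans (hj j fun h => h8 (by rw [h])))
  have hbl := bl_perm hp h2 ok_E7.1 none
  by_cases h17 : c0 = 0
  · right
    by_cases h19 : c 1 = 0
    · exfalso
      by_cases h20 : c 0 = 0
      · have h21 := hbl (some 5)
        rw [h6, hfix 5 (by omega) (fun j hj => by fin_cases j <;> simp at hj ⊢ <;> omega) h17] at h21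
        exact bl7.2 h21
      · have h21 := hbl (some 0)
        rw [h6, hfix 0 (by omega) (fun j hj => by fin_cases j <;> simp at hj ⊢ <;> omega) h17] at h21
        exact bl7.1 h21
    · have h18 : c 0 = 0 ∧ c 1 = 1 ∧ c 2 = 0 ∧ c 3 = 0 ∧ c 4 = 0 ∧ c 5 = 0 ∧ c 6 = 0 := by omega
      refine (dd_of_kac (hp := hp) ht hζ (w := w) (f := fun x => x 1) fun x => ?_).trans (congrArg (7 + ·) nri_E7.2.1)
      rw [h1, hb, h18.1, h18.2.1, h18.2.2.1, h18.2.2.2.1, h18.2.2.2.2.1, h18.2.2.2.2.2.1, h18.2.2.2.2.2.2]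
      simp
  · left
    have h18 : c 0 = 0 ∧ c 1 = 0 ∧ c 2 = 0 ∧ c 3 = 0 ∧ c 4 = 0 ∧ c 5 = 0 ∧ c 6 = 1 := by omega
    refine (dd_of_kac (hp := hp) ht hζ (w := w) (f := fun x => x 6) fun x => ?_).trans (congrArg (7 + ·) nri_E7.2.2.2)
    rw [h1, hb, h18.1, h18.2.1, h18.2.2.1, h18.2.2.2.1, h18.2.2.2.2.1, h18.2.2.2.2.2.1, h18.2.2.2.2.2.2]
    simp

theorem eqE6 {M : CoxeterMatrix (Fin 6)} (hp : IsType chevE6 6 M) : M = CoxeterMatrix.E₆ := by
  simp only [IsType, typeList, List.mem_cons, List.not_mem_nil, or_false, Prod.mk.injEq] at hp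
  rcases hp with ⟨h1, h⟩ | ⟨h1, h⟩ | ⟨h1, h⟩ | ⟨h1, h⟩ | ⟨h1, h⟩ | ⟨h1, h⟩ | ⟨h1, h⟩
  · exact absurd (congrArg Sigma.fst h) (by simp)
  · exact absurd (congrArg Sigma.fst h) (by simp)
  · exact absurd (congrArg Sigma.fst h) (by simp)
  · exact absurd (congrArg Sigma.fst h) (by simp)
  · simpa using h
  · exact absurd (congrArg Sigma.fst h) (by simp)
  · exact absurd (congrArg Sigma.fst h) (by simp)

theorem parE6 : H897.T5Conn.Par CoxeterMatrix.E₆ 1 ![2, 1, 3, 1, 3, 4] 6 := ⟨by decide +kernel, rfl, by decide +kernel⟩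

set_option backward.isDefEq.respectTransparency false in
theorem nE6 : ∀ i j : Fin 6, CoxeterMatrix.E₆ i j ≠ 4 ∧ CoxeterMatrix.E₆ i j ≠ 6 := by decide

theorem conn_E6 {M : CoxeterMatrix (Fin 6)} (hp : IsType chevE6 6 M) {r : ℕ} (hr' : r.Prime) (hrp : r ≠ p) (h3 : r ≠ 3)
    {t : YY chevE6 p} (ht : t ∈ TT chevE6 (KK p)) (htr : t ^ r = 1) {c : YY chevE6 p} (hc : c * t = t * c) :
    c ∈ DZ hp p {t} := by
  have := finW hp
  have hF : H897.T5Lat.Frm M.toCoxeterSystem hp.isCartan (H897.T5Lat.bf (cartanOf chevE6 6)) := by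
    obtain rfl := eqE6 hp
    exact parE6.frm _ hp.isCartan (fun i j => (nE6 i j).1) (fun i j => (nE6 i j).2)
  exact mem_DZ.2 (cent_form hp M.toCoxeterSystem (locFin p) p (con_of_frm hp M.toCoxeterSystem (locFin p) p hr' hrp
    invC_E6 ((Nat.coprime_primes Nat.prime_three hr').2 h3.symm) hF) ht htr hc)

variable (hp) in
/-- **The connected centraliser of an element of prime order.** -/
theorem DZ_one (hD : Typ D) {r : ℕ} (hr' : r.Prime) (hrp : r ≠ p) {t : YY D p} (ht : t ∈ TT D (KK p)) (htr : t ^ r = 1) :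
    (∀ c c' : YY D p, c * t = t * c → c' * t = t * c' → c * c' * c⁻¹ * c'⁻¹ ∈ DZ hp p {t} ∧ c ^ r ∈ DZ hp p {t}) ∧
    ((∀ c : YY D p, c * t = t * c → c ∈ DZ hp p {t}) ∨ (D = chevE6 ∧ r = 3 ∧ (dd p t = 24 ∨ dd p t = 30)) ∨
      (D = chevE7 ∧ r = 2 ∧ (dd p t = 79 ∨ dd p t = 63))) := by
  have := finW hp
  have := Fact.mk hr'
  have hZ : ({t} : Set (YY D p)) ⊆ TT D (KK p) := Set.singleton_subset_iff.2 ht
  have hform : ∀ c : YY D p, c * t = t * c → ∃ m ∈ Mz hp p {t}, ∃ w ∈ PP M.toCoxeterSystem hp.isCartan (ch hp) t, ∃ k,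
      RP hp p w k ∧ (∀ s ∈ ({t} : Set (YY D p)), k * s = s * k) ∧ c = m * k := fun c hc => by
    obtain ⟨m, hm, w, hw, k, h1, h2, h3⟩ := form hp (Set.finite_singleton t) hZ (c := c) fun s hs => by rw [hs, hc]
    exact ⟨m, hm, w, mem_PP_of_PPZ hw, k, h1, h2, h3⟩
  have hcard := card_PP (hp := hp) hD hr' hrp ht htr
  have hpow : ∀ w ∈ PP M.toCoxeterSystem hp.isCartan (ch hp) t, w ^ r = 1 := fun w hw => by
    have h1 : (⟨w, hw⟩ : ↥(PP M.toCoxeterSystem hp.isCartan (ch hp) t)) ^ r = 1 := by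
      rcases hcard with h | ⟨h, -⟩
      · rw [(Nat.card_eq_one_iff_unique.1 h).1.elim (_ ^ r) 1]
      · rw [← h]
        exact pow_card_eq_one'
    exact congrArg Subtype.val h1
  have hcomm : ∀ v ∈ PP M.toCoxeterSystem hp.isCartan (ch hp) t, ∀ w ∈ PP M.toCoxeterSystem hp.isCartan (ch hp) t,
      v * w = w * v := fun v hv w hw => by
    have h1 : (⟨v, hv⟩ : ↥(PP M.toCoxeterSystem hp.isCartan (ch hp) t)) * ⟨w, hw⟩ = ⟨w, hw⟩ * ⟨v, hv⟩ := by
      rcases hcard with h | ⟨h, -⟩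
      · exact (Nat.card_eq_one_iff_unique.1 h).1.elim _ _
      · have := isCyclic_of_prime_card h
        exact IsCyclic.isMulCommutative.is_comm.comm _ _
    exact congrArg Subtype.val h1
  refine ⟨fun c c' hc hc' => ?_, ?_⟩
  · obtain ⟨m, hm, w, hw, k, h1, h2, rfl⟩ := hform c hc
    obtain ⟨m', hm', w', hw', k', h1', h2', rfl⟩ := hform c' hc'
    refine ⟨?_, pow_mem_DZ hZ hm h1 h2 (hpow w hw)⟩
    have h3 := ((h1.mul h1').mul h1.inv).mul h1'.inv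
    rw [hcomm w hw w' hw', mul_inv_cancel_right, mul_inv_cancel] at h3
    have e : m * k * (m' * k') * (m * k)⁻¹ * (m' * k')⁻¹ =
        m * (k * m' * k⁻¹) * (k * k' * k⁻¹ * k'⁻¹) * (k' * m⁻¹ * k'⁻¹) * m'⁻¹ := by group
    rw [e]
    exact mul_mem (mul_mem (mul_mem (mul_mem (Mz_le_DZ hm) (Mz_le_DZ (h1.conj_Mz hZ h2 hm'))) (T_le_DZ h3.mem_T))
      (Mz_le_DZ (h1'.conj_Mz hZ h2' (inv_mem hm)))) (Mz_le_DZ (inv_mem hm'))
  · by_cases hall : ∀ c : YY D p, c * t = t * c → c ∈ DZ hp p {t}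
    · exact Or.inl hall
    right
    push Not at hall
    obtain ⟨c, hc, hn⟩ := hall
    obtain ⟨m, hm, w, hw, k, h1, h2, rfl⟩ := hform c hc
    have hw1 : w ≠ 1 := fun h => hn (by
      rw [h] at h1
      exact mul_mem (Mz_le_DZ hm) (T_le_DZ h1.mem_T))
    have hle : r ≤ nmk D l := by
      rcases hcard with h | ⟨-, h⟩
      · exact absurd (congrArg Subtype.val ((Nat.card_eq_one_iff_unique.1 h).1.elim ⟨w, hw⟩ 1)) hw1
      · exact h
    have h4 := hr'.two_le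
    have h5 := nmk_le hp hD
    have h6 := typ_l hp
    rcases hD with rfl | rfl | rfl | rfl
    · rw [h5.2.1 (Or.inl rfl)] at hle
      omega
    · obtain rfl := h6.2.1 rfl
      by_cases h3 : r = 3
      · subst h3
        exact Or.inl ⟨rfl, rfl, pp_E6 hrp ht htr hw hw1 (hpow w hw)⟩
      · exact absurd (conn_E6 hp hr' hrp h3 ht htr hc) hn
    · obtain rfl := h6.2.2.1 rfl
      rw [h5.2.2 rfl] at hle
      obtain rfl : r = 2 := by omega
      exact Or.inr ⟨rfl, rfl, pp_E7 hrp ht htr hw hw1⟩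
    · rw [h5.2.1 (Or.inr rfl)] at hle
      omega

/-- **The connected centraliser of an arbitrary element of prime order.** -/
theorem exists_DD (hp : IsType D l M) (hD : Typ D) {r : ℕ} (hr' : r.Prime) (hrp : r ≠ p) {z : YY D p} (hz : z ^ r = 1) :
    ∃ K : Subgroup (YY D p), (∀ y : YY D p, y * z = z * y → (∃ n : ℕ, y ^ r ^ n = 1) → (Tp p z y ↔ y ∈ K)) ∧
    (∀ c c' : YY D p, c * z = z * c → c' * z = z * c' → c * c' * c⁻¹ * c'⁻¹ ∈ K ∧ c ^ r ∈ K) ∧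
    ((∀ c : YY D p, c * z = z * c → c ∈ K) ∨ (D = chevE6 ∧ r = 3 ∧ (dd p z = 24 ∨ dd p z = 30)) ∨
      (D = chevE7 ∧ r = 2 ∧ (dd p z = 79 ∨ dd p z = 63))) := by
  obtain ⟨g, hg⟩ := exists_conj_T hp hr' hrp (n := 1) (by rw [pow_one]; exact hz)
  have hpow : (g * z * g⁻¹) ^ r = 1 := by rw [conj_pow, hz, mul_one, mul_inv_cancel]
  obtain ⟨h1, h2⟩ := DZ_one hp hD hr' hrp hg hpow
  refine ⟨(DZ hp p {g * z * g⁻¹}).comap (MulAut.conj g).toMonoidHom, fun y hy hyr => ⟨fun h => ?_, fun h => ?_⟩,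
    fun c c' hc hc' => ?_, ?_⟩
  · exact mem_DZ_of_tp hD hg (h.conj g)
  · obtain ⟨n, hn⟩ := hyr
    exact (tp_of_mem_DZ hr' hrp hg ⟨1, by rw [pow_one, hpow]⟩ h
      ⟨n, by
        show (g * y * g⁻¹) ^ r ^ n = 1
        rw [conj_pow, hn, mul_one, mul_inv_cancel]⟩).of_conj
  · obtain ⟨h3, h4⟩ := h1 _ _ (conj_comm (g := g) hc) (conj_comm (g := g) hc')
    constructor
    · show g * (c * c' * c⁻¹ * c'⁻¹) * g⁻¹ ∈ DZ hp p {g * z * g⁻¹}
      have e : g * (c * c' * c⁻¹ * c'⁻¹) * g⁻¹ =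
        g * c * g⁻¹ * (g * c' * g⁻¹) * (g * c * g⁻¹)⁻¹ * (g * c' * g⁻¹)⁻¹ := by group
      rwa [e]
    · show g * c ^ r * g⁻¹ ∈ DZ hp p {g * z * g⁻¹}
      rwa [← conj_pow]
  · rw [dd_conj] at h2
    rcases h2 with h2 | h2
    · exact Or.inl fun c hc => h2 _ (conj_comm (g := g) hc)
    · exact Or.inr h2

end Cfsg.Agent.DS.Nt
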