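import Cfsg.Agent.DS.Nt.Kac
import Cfsg.Agent.DS.Ex.Rank
import Cfsg.Agent.DS.Ord.PGrp

/-!
# S5881, exceptional groups, the non-toral local case: counting and toral subgroups (helper86)

* `dvd_two`, `dvd_three`, `pure_eq` : the eigenspace counts for the adjoint module;
* `EA.toral_of_card`, `EA.exists_plane`, `EA.exists_max`, `toral_sup`, `toral_of_gen`;
* `exists_hom_W` : the centraliser of a toral subgroup without roots;
* `toral_BB` : the group of the elements of order `s` of `C(E)` commuting with all elements of order `s` of `C(E)`.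
-/

set_option autoImplicit false
set_option linter.unusedSectionVars false

namespace Cfsg.Agent.DS.Nt

open CoxeterSystem Cfsg Cfsg.Lie Cfsg.Lie.ChevalleyDatum
open Cfsg.Agent.ChevalleyStructure Cfsg.Agent.ChevalleyStructure.Elts Cfsg.Agent.ChevalleyStructure.CoxeterGeom
  Cfsg.Agent.ChevalleyStructure.CoxeterGeomTypes
open Cfsg.Agent.Tits.Roots Cfsg.Agent.Tits.Core Cfsg.Agent.Nodes Cfsg.Agent.Nodes.Reps Cfsg.Agent.Nodes.BNOf
  Cfsg.Agent.Nodes.RGDChev Cfsg.Agent.Nodes.Bruhat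
open Cfsg.Agent.KFacts.RgdField Cfsg.Agent.KFacts.RgdChevCoord
open Cfsg.Agent.BpExc Cfsg.Agent.BpExc.TorCent Cfsg.Agent.BpExc.TorChev Cfsg.Agent.BpExc.Tow
  Cfsg.Agent.BpExc.TowChev Cfsg.Agent.BpExc.Fr Cfsg.Agent.BpExc.LangFr
open Cfsg.Agent.H469.Exc Cfsg.Agent.H795.SetCent Cfsg.Agent.H129.TorusChar Cfsg.Agent.DS.Ex
open Cfsg.Agent.H185.EE Cfsg.Agent.H931.KC

variable {D : ChevalleyDatum} {l : ℕ} {M : CoxeterMatrix (Fin l)} {hp : IsType D l M} {p : ℕ} [Fact p.Prime]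

/-- finite elementary abelian `r`-group -/
structure EL (p : ℕ) [Fact p.Prime] (r : ℕ) (E : Subgroup (YY D p)) : Prop where
  prime : r.Prime
  ne : r ≠ p
  fin : Finite E
  comm : ∀ x ∈ E, ∀ y ∈ E, x * y = y * x
  pow : ∀ x ∈ E, x ^ r = 1

theorem EA.el {r : ℕ} {E : Subgroup (YY D p)} (h : EA p r E) : EL p r E := ⟨h.prime, h.ne, h.fin, h.comm, h.pow⟩

theorem EA.mono {r : ℕ} {E A : Subgroup (YY D p)} (h : EA p r E) (hA : A ≤ E) : EA p r A where
  prime := h.prime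
  ne := h.ne
  fin := by
    have := h.fin
    exact Finite.of_injective _ (Subgroup.inclusion_injective hA)
  comm x hx y hy := h.comm x (hA hx) y (hA hy)
  pow x hx := h.pow x (hA hx)
  tp x hx y hy := h.tp x (hA hx) y (hA hy)

theorem EL.isPGroup {r : ℕ} {E : Subgroup (YY D p)} (h : EL p r E) : IsPGroup r E :=
  fun x => ⟨1, Subtype.ext (by rw [pow_one]; exact h.pow x x.2)⟩

theorem EL.exists_card {r : ℕ} {E : Subgroup (YY D p)} (h : EL p r E) : ∃ n, Nat.card E = r ^ n := by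
  have := h.fin
  have := Fact.mk h.prime
  exact IsPGroup.iff_card.1 h.isPGroup

/-! ### eigenspace counts -/

section Count

variable {r : ℕ} {E : Subgroup (YY D p)}

theorem dvd_two (hp : IsType D l M) (h : EL p 2 E) (T : Finset ℤ)
    (hT : ∀ e ∈ E, e ≠ 1 → 2 * (dd p e : ℤ) - (l + D.nroots : ℕ) ∈ T) :
    (Nat.card E : ℤ) ∣ ∏ t ∈ T, (((l + D.nroots : ℕ) : ℤ) - t) := by
  have := h.fin
  have := Fintype.ofFinite E
  have h1 := NT.blichfeldt_two ((ad D p).comp E.subtype) (cast_ne_zero h.prime h.ne)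
    (fun x y => Subtype.ext (h.comm x x.2 y y.2)) (fun x => Subtype.ext (h.pow x x.2)) rfl T (fun e he => by
      rw [finrank_ad hp]
      exact hT e e.2 fun h2 => he (Subtype.ext h2))
  rwa [finrank_ad hp, ← Nat.card_eq_fintype_card] at h1

theorem dvd_three (hp : IsType D l M) (h : EL p 3 E) (T : Finset ℤ)
    (hT : ∀ e ∈ E, e ≠ 1 → ∃ t ∈ T, 2 * t = 3 * (dd p e : ℤ) - (l + D.nroots : ℕ)) :
    (Nat.card E : ℤ) ∣ ∏ t ∈ T, (((l + D.nroots : ℕ) : ℤ) - t) := by
  have := h.fin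
  have := Fintype.ofFinite E
  have h1 := NT.blichfeldt_three ((ad D p).comp E.subtype) (cast_ne_zero h.prime h.ne)
    (fun x y => Subtype.ext (h.comm x x.2 y y.2)) (fun x => Subtype.ext (h.pow x x.2)) rfl T (fun e he => by
      rw [finrank_ad hp]
      exact hT e e.2 fun h2 => he (Subtype.ext h2)) (fun e _ w hw _ => by
      obtain ⟨g, hg⟩ := exists_conj_T hp h.prime h.ne (n := 1) (x := (e : YY D p)) (by rw [pow_one]; exact h.pow e e.2)
      have h2 : w ^ 2 = w⁻¹ := eq_inv_of_mul_eq_one_left (by rw [← pow_succ, hw])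
      rw [h2]
      exact (ev_inv hp hg w).symm)
  rwa [finrank_ad hp, ← Nat.card_eq_fintype_card] at h1

theorem pure_eq (hp : IsType D l M) (h : EL p r E) {d : ℕ} (hd : ∀ e ∈ E, e ≠ 1 → dd p e = d) :
    ((r : ℤ) - 1) * Nat.card E * Module.finrank (KK p) (Fx p (E : Set (YY D p))) =
      Nat.card E * (r * d - (l + D.nroots : ℕ)) + r * ((l + D.nroots : ℕ) - d) := by
  have := h.fin
  have := Fintype.ofFinite E
  have h1 := NT.dim_pure ((ad D p).comp E.subtype) h.prime (cast_ne_zero h.prime h.ne)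
    (fun x y => Subtype.ext (h.comm x x.2 y y.2)) (fun x => Subtype.ext (h.pow x x.2)) (Fx p (E : Set (YY D p)))
    (fun v => ⟨fun hv e => hv e e.2, fun hv e he => hv ⟨e, he⟩⟩) (d := d)
    (fun e he => hd e e.2 fun h2 => he (Subtype.ext h2))
  rwa [finrank_ad hp, ← Nat.card_eq_fintype_card] at h1

theorem pure_dvd (hp : IsType D l M) (h : EL p r E) {d : ℕ} (hd : ∀ e ∈ E, e ≠ 1 → dd p e = d) :
    (Nat.card E : ℤ) ∣ r * ((l + D.nroots : ℕ) - d) := by
  have h1 := pure_eq hp h hd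
  exact ⟨((r : ℤ) - 1) * Module.finrank (KK p) (Fx p (E : Set (YY D p))) - (r * d - (l + D.nroots : ℕ)), by
    linear_combination -h1⟩

theorem card_le_of_dvd (h : EL p r E) {N : ℤ} (hN : (Nat.card E : ℤ) ∣ N) {k : ℕ} (hk : ¬ ((r : ℤ) ^ (k + 1) ∣ N)) :
    Nat.card E ≤ r ^ k := by
  obtain ⟨n, hn⟩ := h.exists_card
  rw [hn] at hN ⊢
  refine Nat.pow_le_pow_right h.prime.pos ?_
  by_contra h1
  rw [Nat.cast_pow] at hN
  exact hk ((pow_dvd_pow _ (by omega)).trans hN)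

end Count

/-! ### toral subgroups -/

theorem Toral.mono {A B : Subgroup (YY D p)} (h : Toral p B) (hA : A ≤ B) : Toral p A := by
  obtain ⟨g, hg⟩ := h
  exact ⟨g, fun a ha => hg a (hA ha)⟩

theorem toral_bot : Toral p (⊥ : Subgroup (YY D p)) :=
  ⟨1, fun a ha => by rw [Subgroup.mem_bot.1 ha, mul_one, mul_inv_cancel]; exact one_mem _⟩

theorem EA.toral_of_card {r : ℕ} {E : Subgroup (YY D p)} (h : EA p r E) (hc : Nat.card E ≤ r ^ 2) : Toral p E := by
  have := h.fin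
  have := Fact.mk h.prime
  by_cases h1 : E = ⊥
  · rw [h1]
    exact toral_bot
  obtain ⟨⟨x, hx⟩, hx1⟩ := (Subgroup.ne_bot_iff_exists_ne_one).1 h1
  have hx1' : x ≠ 1 := fun e => hx1 (Subtype.ext e)
  by_cases h2 : E ≤ Subgroup.zpowers x
  · obtain ⟨g, hg, -⟩ := h.tp x hx x hx
    refine ⟨g, fun a ha => ?_⟩
    obtain ⟨n, rfl⟩ := h2 ha
    show g * x ^ n * g⁻¹ ∈ _
    rw [← conj_zpow]
    exact zpow_mem hg n
  obtain ⟨y, hy, hyx⟩ := SetLike.not_le_iff_exists.1 h2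
  obtain ⟨g, hg, hg'⟩ := h.tp x hx y hy
  let K : Subgroup (YY D p) := E ⊓ (TT D (KK p)).comap (MulAut.conj g).toMonoidHom
  have hK : EA p r K := h.mono inf_le_left
  have := hK.fin
  have h3 : Subgroup.zpowers x < K := lt_of_le_of_ne ((Subgroup.zpowers_le).2 ⟨hx, hg⟩) fun e => hyx (by
    rw [e]
    exact ⟨hy, hg'⟩)
  have h4 : Nat.card (Subgroup.zpowers x) = r := by
    rw [Nat.card_zpowers]
    exact orderOf_eq_prime (h.pow x hx) hx1'
  have h5 : r < Nat.card K := by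
    rw [← h4]
    by_contra h6
    exact h3.ne (Subgroup.eq_of_le_of_card_ge h3.le (not_lt.1 h6))
  obtain ⟨n, hn⟩ := hK.el.exists_card
  have h6 : r ^ 2 ≤ Nat.card K := by
    rw [hn] at h5 ⊢
    refine Nat.pow_le_pow_right h.prime.pos ?_
    by_contra h7
    have h8 : r ^ n ≤ r ^ 1 := Nat.pow_le_pow_right h.prime.pos (by omega)
    rw [pow_one] at h8
    omega
  have h7 : K = E := Subgroup.eq_of_le_of_card_ge inf_le_left (hc.trans h6)
  exact ⟨g, fun a ha => (h7.ge ha).2⟩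

theorem EL.exists_sub {r : ℕ} {E : Subgroup (YY D p)} (h : EL p r E) {k : ℕ} (hk : r ^ k ≤ Nat.card E) :
    ∃ A ≤ E, Nat.card A = r ^ k := by
  have := h.fin
  have := Fact.mk h.prime
  obtain ⟨n, hn⟩ := h.exists_card
  have h1 : r ^ k ∣ Nat.card E := by
    rw [hn] at hk ⊢
    exact pow_dvd_pow _ ((Nat.pow_le_pow_iff_right h.prime.one_lt).1 hk)
  obtain ⟨K, hK⟩ := Sylow.exists_subgroup_card_pow_prime r h1
  refine ⟨K.map E.subtype, Subgroup.map_subtype_le K, ?_⟩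
  rw [Subgroup.card_map_of_injective E.subtype_injective, hK]

theorem EA.exists_plane {r : ℕ} {E : Subgroup (YY D p)} (h : EA p r E) (hn : ¬ Toral p E) :
    ∃ A ≤ E, Toral p A ∧ Nat.card A = r ^ 2 := by
  obtain ⟨A, hA, hc⟩ := h.el.exists_sub (k := 2) (by
    by_contra h1
    exact hn (h.toral_of_card (not_le.1 h1).le))
  exact ⟨A, hA, (h.mono hA).toral_of_card hc.le, hc⟩

theorem exists_max_toral {E : Subgroup (YY D p)} [Finite E] :
    ∃ A ≤ E, Toral p A ∧ ∀ B ≤ E, Toral p B → A ≤ B → B = A := by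
  have hb : ∀ B ≤ E, Nat.card B ≤ Nat.card E := fun B hB => Subgroup.card_le_of_le hB
  have hex : ∃ n, ∃ A ≤ E, Toral p A ∧ Nat.card E - Nat.card A = n := ⟨_, ⊥, bot_le, toral_bot, rfl⟩
  classical
  obtain ⟨A, hA, hT, hn⟩ := Nat.find_spec hex
  refine ⟨A, hA, hT, fun B hB hT' hAB => ?_⟩
  have : Finite B := Finite.of_injective _ (Subgroup.inclusion_injective hB)
  have h1 := Nat.find_min' hex ⟨B, hB, hT', rfl⟩
  have h2 := hb B hB
  have h3 := hb A hA
  exact (Subgroup.eq_of_le_of_card_ge hAB (by omega)).symm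

/-- the conjugate of a subgroup as a set -/
def cS (g : YY D p) (A : Subgroup (YY D p)) : Set (YY D p) := (fun a => g * a * g⁻¹) '' (A : Set (YY D p))

theorem cS_finite (g : YY D p) (A : Subgroup (YY D p)) [Finite A] : (cS g A).Finite :=
  (Set.toFinite (A : Set (YY D p))).image _

theorem cS_sub {g : YY D p} {A : Subgroup (YY D p)} (h : ∀ a ∈ A, g * a * g⁻¹ ∈ TT D (KK p)) :
    cS g A ⊆ TT D (KK p) := by
  rintro _ ⟨a, ha, rfl⟩
  exact h a ha

theorem mem_cS {g y : YY D p} {A : Subgroup (YY D p)} : g * y * g⁻¹ ∈ cS g A ↔ y ∈ A :=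
  ⟨fun ⟨a, ha, e⟩ => by
    have h : a = y := mul_left_cancel (mul_right_cancel e)
    rwa [← h], fun h => ⟨y, h, rfl⟩⟩

theorem cS_comm {g c : YY D p} {A : Subgroup (YY D p)} (h : ∀ a ∈ A, c * a = a * c) :
    ∀ t ∈ cS g A, (g * c * g⁻¹) * t = t * (g * c * g⁻¹) := by
  rintro _ ⟨a, ha, rfl⟩
  exact conj_comm (h a ha)

theorem cS_pow {g : YY D p} {A : Subgroup (YY D p)} {r : ℕ} (h : ∀ a ∈ A, a ^ r = 1) :
    ∀ t ∈ cS g A, ∃ n : ℕ, t ^ r ^ n = 1 := by
  rintro _ ⟨a, ha, rfl⟩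
  exact ⟨1, by rw [pow_one, conj_pow, h a ha, mul_one, mul_inv_cancel]⟩

theorem toral_sup (hp : IsType D l M) {r : ℕ} {E A : Subgroup (YY D p)} (h : EL p r E) (hA : A ≤ E) {g z : YY D p}
    (hg : ∀ a ∈ A, g * a * g⁻¹ ∈ TT D (KK p)) (hz : z ∈ E) (hzD : g * z * g⁻¹ ∈ DZ hp p (cS g A)) :
    Toral p (A ⊔ Subgroup.zpowers z) := by
  have := h.fin
  have : Finite A := Finite.of_injective _ (Subgroup.inclusion_injective hA)
  have hle : A ⊔ Subgroup.zpowers z ≤ E := sup_le hA ((Subgroup.zpowers_le).2 hz)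
  obtain ⟨g', hg'⟩ := toral_step (n := 1) h.prime h.ne (cS_finite g A) (cS_sub hg) hzD
    (by rw [pow_one, conj_pow, h.pow z hz, mul_one, mul_inv_cancel])
    (Q := (A ⊔ Subgroup.zpowers z).map (MulAut.conj g).toMonoidHom)
    ((h.isPGroup.to_le hle).map _) (by
      rw [Subgroup.map_le_iff_le_comap]
      refine sup_le (fun a ha => Subgroup.subset_closure (Or.inr ⟨a, ha, rfl⟩)) ((Subgroup.zpowers_le).2 ?_)
      exact Subgroup.subset_closure (Or.inl rfl))
  refine ⟨g' * g, fun a ha => ?_⟩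
  have e : g' * g * a * (g' * g)⁻¹ = g' * (g * a * g⁻¹) * g'⁻¹ := by group
  rw [e]
  exact hg' _ ⟨a, ha, rfl⟩

/-- a group generated by elements of subgroups of its centraliser generated by `p`-elements is toral -/
theorem toral_of_gen (hp : IsType D l M) {r : ℕ} {E : Subgroup (YY D p)} (h : EL p r E) {O : Set (YY D p)}
    (hO : Subgroup.closure O = E) (hz : ∀ z ∈ O, ∀ K : Subgroup (YY D p),
      (∀ u : YY D p, (∀ e ∈ E, u * e = e * u) → (∃ n : ℕ, u ^ p ^ n = 1) → u ∈ K) → z ∈ K) : Toral p E := by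
  have := h.fin
  obtain ⟨A, hA, ⟨g, hg⟩, hmax⟩ := exists_max_toral (E := E)
  have : Finite A := Finite.of_injective _ (Subgroup.inclusion_injective hA)
  have h1 : E ≤ A := by
    rw [← hO, Subgroup.closure_le]
    intro z hzO
    have hzE : z ∈ E := hO.le (Subgroup.subset_closure hzO)
    have h2 : z ∈ (Mz hp p (cS g A)).comap (MulAut.conj g).toMonoidHom := hz z hzO _ fun u hu ⟨n, hn⟩ =>
      pel_mem_Mz (cS_finite g A) (cS_sub hg) h.prime h.ne (cS_pow fun a ha => h.pow a (hA ha))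
        (cS_comm fun a ha => hu a (hA ha)) ⟨n, by
          show (g * u * g⁻¹) ^ p ^ n = 1
          rw [conj_pow, hn, mul_one, mul_inv_cancel]⟩
    have h3 := hmax _ (sup_le hA ((Subgroup.zpowers_le).2 hzE)) (toral_sup hp h hA hg hzE (Mz_le_DZ h2)) le_sup_left
    exact h3.le (Subgroup.mem_sup_right (Subgroup.mem_zpowers z))
  exact ⟨g, fun a ha => hg a (h1 ha)⟩

/-! ### toral subgroups without roots -/

theorem Ps_empty (hp : IsType D l M) {A : Subgroup (YY D p)} {g : YY D p} (hg : ∀ a ∈ A, g * a * g⁻¹ ∈ TT D (KK p))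
    (hF : Module.finrank (KK p) (Fx p (A : Set (YY D p))) = l) : ∀ a, a ∉ Ps hp p (cS g A) := by
  classical
  have h1 := finrank_Fx hp (cS_sub hg)
  rw [finrank_Fx_conj g (Z := (A : Set (YY D p))) (fun y => mem_cS), hF] at h1
  have h2 : (Finset.univ.filter fun s : Fin D.nroots => vec D l s ∈ Ps hp p (cS g A)) = ∅ := by
    rw [← Finset.card_eq_zero]
    omega
  intro a ha
  obtain ⟨s, hs, rfl⟩ := (isRoot_iff hp M.toCoxeterSystem a).1 ha.1
  exact Finset.filter_eq_empty_iff.1 h2 (Finset.mem_univ (⟨s, hs⟩ : Fin D.nroots)) ha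

/-- **The centraliser of a toral subgroup without roots.** -/
theorem exists_hom_W (hp : IsType D l M) {r : ℕ} {A : Subgroup (YY D p)} (h : EL p r A) (hT : Toral p A)
    (hF : Module.finrank (KK p) (Fx p (A : Set (YY D p))) = l) :
    ∃ (P : Subgroup M.Group) (f : Subgroup.centralizer (A : Set (YY D p)) →* P), IsPGroup r P ∧
      ∀ x y, f x = 1 → f y = 1 → x * y = y * x := by
  have := finW hp
  have := h.fin
  obtain ⟨g, hg⟩ := hT
  have hPs := Ps_empty hp hg hF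
  have hMz : Mz hp p (cS g A) ≤ ⊥ := Mz_le fun a ha => absurd ha (hPs a)
  have hex : ∀ c : Subgroup.centralizer (A : Set (YY D p)),
      ∃ w : PPZ M.toCoxeterSystem hp.isCartan (ch hp) (cS g A), RP hp p w (g * c * g⁻¹) := fun c => by
    obtain ⟨m, hm, w, hw, k, h1, -, h2⟩ := form hp (cS_finite g A) (cS_sub hg) (c := g * c * g⁻¹)
      (cS_comm fun a ha => (Subgroup.mem_centralizer_iff.1 c.2 a ha).symm)
    rw [Subgroup.mem_bot.1 (hMz hm), one_mul] at h2
    exact ⟨⟨w, hw⟩, by rw [h2]; exact h1⟩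
  choose f hf using hex
  refine ⟨_, MonoidHom.mk' f fun a b => Subtype.ext ((hf (a * b)).unique ?_), fun w => ?_, fun x y hx hy => ?_⟩
  · have h1 := (hf a).mul (hf b)
    have e : g * (a : YY D p) * g⁻¹ * (g * b * g⁻¹) = g * ((a * b : Subgroup.centralizer (A : Set (YY D p))) : YY D p) * g⁻¹ := by
      rw [Subgroup.coe_mul]
      group
    rwa [e] at h1
  · obtain ⟨n, hn⟩ := pp_pow (cS_sub hg) h.prime (cS_pow h.pow) w.2
    exact ⟨n, Subtype.ext hn⟩
  · have h1 := hf x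
    have h2 := hf y
    rw [show f x = 1 from hx] at h1
    rw [show f y = 1 from hy] at h2
    have h3 := TT_comm hp _ h1.mem_T _ h2.mem_T
    apply Subtype.ext
    have h4 := comm_of_conj h3
    have e : g⁻¹ * (g * (x : YY D p) * g⁻¹) * g = x := by group
    rwa [e] at h4

theorem derivedSeries_bot_of_hom {X P : Type*} [Group X] [Group P] (f : X →* P) {c : ℕ} (hP : derivedSeries P c = ⊥)
    (hf : ∀ x y, f x = 1 → f y = 1 → x * y = y * x) : derivedSeries X (c + 1) = ⊥ := by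
  have h1 : ∀ x ∈ derivedSeries X c, f x = 1 := fun x hx => by
    have h2 := map_derivedSeries_le_derivedSeries f c ⟨x, hx, rfl⟩
    rwa [hP, Subgroup.mem_bot] at h2
  rw [derivedSeries_succ, Subgroup.commutator_eq_bot_iff_le_centralizer]
  intro x hx
  exact Subgroup.mem_centralizer_iff.2 fun y hy => hf y x (h1 y hy) (h1 x hx)

theorem derivedSeries_pgroup {W : Type*} [Group W] [Finite W] {r : ℕ} (hr' : r.Prime) {P : Subgroup W}
    (hP : IsPGroup r P) {c : ℕ} (hW : ¬ r ^ (2 ^ c + c) ∣ Nat.card W) : derivedSeries P c = ⊥ := by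
  have := Fact.mk hr'
  by_contra h
  have h1 := Ord.hall_sum hP h c 0 (zero_add c)
  obtain ⟨n, hn⟩ := IsPGroup.iff_card.1 hP
  rw [derivedSeries_zero, Subgroup.card_top, hn, ← pow_add, Nat.pow_le_pow_iff_right hr'.one_lt] at h1
  refine hW ((pow_dvd_pow r (show 2 ^ c + c ≤ n by omega)).trans ?_)
  rw [← hn]
  exact P.card_subgroup_dvd_card

/-! ### the group `BB` -/

/-- the elements of order `s` of `C(E)` commuting with all elements of order `s` of `C(E)` -/
def BB (E : Subgroup (YY D p)) (s : ℕ) : Subgroup (YY D p) where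
  carrier := {b | b ^ s = 1 ∧ (∀ e ∈ E, b * e = e * b) ∧
    ∀ c : YY D p, c ^ s = 1 → (∀ e ∈ E, c * e = e * c) → b * c = c * b}
  one_mem' := ⟨one_pow _, fun e _ => by rw [one_mul, mul_one], fun c _ _ => by rw [one_mul, mul_one]⟩
  mul_mem' := by
    rintro a b ⟨h1, h2, h3⟩ ⟨h4, h5, h6⟩
    refine ⟨?_, fun e he => ?_, fun c hc hc' => ?_⟩
    · rw [(show Commute a b from h3 b h4 h5).mul_pow, h1, h4, one_mul]
    · rw [mul_assoc, h5 e he, ← mul_assoc, h2 e he, mul_assoc]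
    · rw [mul_assoc, h6 c hc hc', ← mul_assoc, h3 c hc hc', mul_assoc]
  inv_mem' := by
    rintro a ⟨h1, h2, h3⟩
    exact ⟨by rw [inv_pow, h1, inv_one], fun e he => (show Commute a e from h2 e he).inv_left,
      fun c hc hc' => (show Commute a c from h3 c hc hc').inv_left⟩

theorem noL_of_BB {E : Subgroup (YY D p)} {s : ℕ} (h : BB E s = ⊥) : NoL p E s :=
  fun _ h1 h2 h3 => Subgroup.mem_bot.1 (h.le ⟨h1, h2, h3⟩)

theorem finite_of_bound {G : Type*} [Group G] {B : Subgroup G} {s N : ℕ} (hs : 0 < s)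
    (hc : ∀ x ∈ B, ∀ y ∈ B, x * y = y * x) (hpow : ∀ x ∈ B, x ^ s = 1)
    (hN : ∀ Q ≤ B, Finite Q → Nat.card Q ≤ N) : Finite B := by
  classical
  have hex : ∃ n, ∃ Q ≤ B, Finite Q ∧ N - Nat.card Q = n := ⟨_, ⊥, bot_le, inferInstance, rfl⟩
  obtain ⟨Q, hQ, hfin, hn⟩ := Nat.find_spec hex
  have h1 : B ≤ Q := by
    intro b hb
    let Q' : Subgroup G :=
      { carrier := {y | ∃ q ∈ Q, ∃ i : ℕ, y = q * b ^ i}
        one_mem' := ⟨1, one_mem _, 0, by rw [pow_zero, mul_one]⟩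
        mul_mem' := by
          rintro _ _ ⟨q, hq, i, rfl⟩ ⟨q', hq', j, rfl⟩
          refine ⟨q * q', mul_mem hq hq', i + j, ?_⟩
          rw [pow_add, mul_assoc, ← mul_assoc (b ^ i), hc _ (pow_mem hb i) q' (hQ hq')]
          group
        inv_mem' := by
          rintro _ ⟨q, hq, i, rfl⟩
          refine ⟨q⁻¹, inv_mem hq, i * (s - 1), ?_⟩
          rw [mul_inv_rev, hc _ (inv_mem (pow_mem hb i)) _ (inv_mem (hQ hq))]
          congr 1
          have e : i + i * (s - 1) = s * i := by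
            obtain ⟨t, rfl⟩ := Nat.exists_eq_succ_of_ne_zero hs.ne'
            simp only [Nat.succ_eq_add_one, Nat.add_sub_cancel]
            ring
          rw [inv_eq_iff_mul_eq_one, ← pow_add, e, pow_mul, hpow b hb, one_pow] }
    have h2 : Q' ≤ B := by
      rintro _ ⟨q, hq, i, rfl⟩
      exact mul_mem (hQ hq) (pow_mem hb i)
    have h3 : Finite Q' := by
      refine Finite.of_surjective (fun x : Q × Fin s => (⟨x.1 * b ^ (x.2 : ℕ), x.1, x.1.2, x.2, rfl⟩ : Q')) ?_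
      rintro ⟨_, q, hq, i, rfl⟩
      refine ⟨(⟨q, hq⟩, ⟨i % s, Nat.mod_lt i hs⟩), Subtype.ext ?_⟩
      show q * b ^ (i % s) = q * b ^ i
      rw [← pow_eq_pow_mod i (hpow b hb)]
    have h4 : Q ≤ Q' := fun q hq => ⟨q, hq, 0, by rw [pow_zero, mul_one]⟩
    have h5 := Nat.find_min' hex ⟨Q', h2, h3, rfl⟩
    have h6 := hN Q' h2 h3
    have h7 := hN Q hQ hfin
    have h8 : Q = Q' := Subgroup.eq_of_le_of_card_ge h4 (by omega)
    rw [h8]
    exact ⟨1, one_mem _, 1, by rw [pow_one, one_mul]⟩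
  exact Finite.of_injective _ (Subgroup.inclusion_injective h1)

theorem eqF4 {M : CoxeterMatrix (Fin 4)} (hp : IsType chevF4 4 M) : M = CoxeterMatrix.F₄ := by
  simp only [IsType, typeList, List.mem_cons, List.not_mem_nil, or_false, Prod.mk.injEq] at hp
  rcases hp with ⟨h1, h⟩ | ⟨h1, h⟩ | ⟨h1, h⟩ | ⟨h1, h⟩ | ⟨h1, h⟩ | ⟨h1, h⟩ | ⟨h1, h⟩
  · exact absurd (congrArg Sigma.fst h) (by simp)
  · exact absurd (congrArg Sigma.fst h) (by simp)
  · exact absurd (congrArg ChevalleyDatum.nroots h1) (by decide +kernel)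
  · simpa using h
  · exact absurd (congrArg Sigma.fst h) (by simp)
  · exact absurd (congrArg Sigma.fst h) (by simp)
  · exact absurd (congrArg Sigma.fst h) (by simp)

theorem eqE7 {M : CoxeterMatrix (Fin 7)} (hp : IsType chevE7 7 M) : M = CoxeterMatrix.E₇ := by
  simp only [IsType, typeList, List.mem_cons, List.not_mem_nil, or_false, Prod.mk.injEq] at hp
  rcases hp with ⟨h1, h⟩ | ⟨h1, h⟩ | ⟨h1, h⟩ | ⟨h1, h⟩ | ⟨h1, h⟩ | ⟨h1, h⟩ | ⟨h1, h⟩
  · exact absurd (congrArg Sigma.fst h) (by simp)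
  · exact absurd (congrArg Sigma.fst h) (by simp)
  · exact absurd (congrArg Sigma.fst h) (by simp)
  · exact absurd (congrArg Sigma.fst h) (by simp)
  · exact absurd (congrArg Sigma.fst h) (by simp)
  · simpa using h
  · exact absurd (congrArg Sigma.fst h) (by simp)

theorem eqE8 {M : CoxeterMatrix (Fin 8)} (hp : IsType chevE8 8 M) : M = CoxeterMatrix.E₈ := by
  simp only [IsType, typeList, List.mem_cons, List.not_mem_nil, or_false, Prod.mk.injEq] at hp
  rcases hp with ⟨h1, h⟩ | ⟨h1, h⟩ | ⟨h1, h⟩ | ⟨h1, h⟩ | ⟨h1, h⟩ | ⟨h1, h⟩ | ⟨h1, h⟩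
  · exact absurd (congrArg Sigma.fst h) (by simp)
  · exact absurd (congrArg Sigma.fst h) (by simp)
  · exact absurd (congrArg Sigma.fst h) (by simp)
  · exact absurd (congrArg Sigma.fst h) (by simp)
  · exact absurd (congrArg Sigma.fst h) (by simp)
  · exact absurd (congrArg Sigma.fst h) (by simp)
  · simpa using h

theorem card_W (hp : IsType D l M) : (D = chevF4 → Nat.card M.Group = 1152) ∧ (D = chevE6 → Nat.card M.Group = 51840) ∧
    (D = chevE7 → Nat.card M.Group = 2903040) ∧ (D = chevE8 → Nat.card M.Group = 696729600) := by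
  have h := typ_l hp
  refine ⟨?_, ?_, ?_, ?_⟩ <;> rintro rfl
  · obtain rfl := h.1 rfl
    rw [eqF4 hp]
    exact Rank.wF4
  · obtain rfl := h.2.1 rfl
    rw [eqE6 hp]
    exact Rank.wE6
  · obtain rfl := h.2.2.1 rfl
    rw [eqE7 hp]
    exact Rank.wE7
  · obtain rfl := h.2.2.2 rfl
    rw [eqE8 hp]
    exact Rank.wE8

theorem card_W_dvd (hp : IsType D l M) (hD : Typ D) : Nat.card M.Group ∣ 696729600 := by
  have h := card_W hp
  rcases hD with e | e | e | e
  · rw [h.1 e]; norm_num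
  · rw [h.2.1 e]; norm_num
  · rw [h.2.2.1 e]; norm_num
  · rw [h.2.2.2 e]

theorem not_dvd_W (hp : IsType D l M) (hD : Typ D) {s : ℕ} (hs : s.Prime) (h7 : 7 < s) : ¬ s ∣ Nat.card M.Group := by
  intro h
  have h1 : s ∣ 210 ^ 14 := (h.trans (card_W_dvd hp hD)).trans (by norm_num)
  have h2 : s ∣ 2 * 3 * 5 * 7 := hs.dvd_of_dvd_pow h1
  rcases (Nat.Prime.dvd_mul hs).1 h2 with h3 | h3
  · rcases (Nat.Prime.dvd_mul hs).1 h3 with h4 | h4
    · rcases (Nat.Prime.dvd_mul hs).1 h4 with h5 | h5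
      · have := Nat.le_of_dvd (by norm_num) h5
        omega
      · have := Nat.le_of_dvd (by norm_num) h5
        omega
    · have := Nat.le_of_dvd (by norm_num) h4
      omega
  · have := Nat.le_of_dvd (by norm_num) h3
    omega

theorem toral_BB (hp : IsType D l M) (hD : Typ D) (E : Subgroup (YY D p)) {s : ℕ} (hs : Lp p s) : Toral p (BB E s) := by
  have hT : ∀ Q ≤ BB E s, Finite Q → Toral p Q := fun Q hQ _ =>
    H795.TorSub.exists_toral_of_not_dvd hp p (locFin p) hs.1 hs.2.2 (not_dvd_W hp hD hs.1 hs.2.1)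
      fun x => ⟨1, Subtype.ext (by rw [pow_one]; exact (hQ x.2).1)⟩
  refine hT _ le_rfl (finite_of_bound (N := s ^ l) hs.1.pos (fun x hx y hy => hx.2.2 y hy.1 hy.2.1)
    (fun x hx => hx.1) fun Q hQ hfin => ?_)
  obtain ⟨g, hg⟩ := hT Q hQ hfin
  exact Rank.card_toral_le hp hs.1.pos Q g hg fun x hx => (hQ hx).1

theorem exists_Lp (p : ℕ) : ∃ s, Lp p s := by
  by_cases h : p = 11
  · exact ⟨13, by norm_num, by norm_num, by omega⟩
  · exact ⟨11, by norm_num, by norm_num, fun e => h e.symm⟩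

end Cfsg.Agent.DS.Nt
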