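import Cfsg.Agent.DS.Nt.JGen
import Cfsg.Agent.TitsThree.KExcRT
import Cfsg.Agent.CTFrame.Hom

/-!
# S5881, the non-toral local case: the subgroups `J z ≅ SL₃(k)` of `E₇(k)` and `E₈(k)` (helper55)

* `exists_psi3` : the homomorphism of a block of type `A₂`;
* `pos_three` : the positive roots of the block;
* `boxJ3`.
-/

set_option autoImplicit false
set_option linter.unusedSectionVars false

namespace Cfsg.Agent.DS.Nt

open CoxeterSystem Cfsg Cfsg.Lie Cfsg.Lie.ChevalleyDatum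
open Cfsg.Agent.ChevalleyStructure Cfsg.Agent.ChevalleyStructure.Elts Cfsg.Agent.ChevalleyStructure.CoxeterGeom
  Cfsg.Agent.ChevalleyStructure.CoxeterGeomTypes Cfsg.Agent.ChevalleyStructure.RootVec
open Cfsg.Agent.Tits.Roots Cfsg.Agent.Tits.Core Cfsg.Agent.Nodes Cfsg.Agent.Nodes.RGDChev
open Cfsg.Agent.H469.Exc Cfsg.Agent.H469.Exc.SigFr Cfsg.Agent.H129.TorusChar Cfsg.Agent.DS.Ex
open Cfsg.Agent.H81.TorOrth Cfsg.Agent.Nodes.RGDFoldSL Cfsg.Agent.TitsThree.KExcRT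
open Cfsg.Agent.ChevalleyStructure.SL2Hom (up lo)
open Matrix.SpecialLinearGroup (transvection)

section

variable {D : ChevalleyDatum} {l : ℕ} {M : CoxeterMatrix (Fin l)} (hp : IsType D l M)

theorem hS_mul' {k : Type*} [Field k] {a b : k} (ha : a ≠ 0) (hb : b ≠ 0) : hS a * hS b = hS (a * b) := by
  apply Subtype.ext
  rw [Matrix.SpecialLinearGroup.coe_mul, coe_hS ha, coe_hS hb, coe_hS (mul_ne_zero ha hb), Matrix.mul_fin_two, mul_inv]
  simp

include hp in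
/-- the homomorphism of a block of type `A₂` -/
theorem exists_psi3 (k : Type) [Field k] {ρ : Fin 3 → Fin 3 → ℕ} (ha : RTa D ρ) (hb : RTb D ρ fun _ _ => 1)
    (hc : RTc D ρ) (hneg : ∀ a b, a ≠ b → ρ b a = D.neg (ρ a b)) :
    ∃ ψ : Matrix.SpecialLinearGroup (Fin 3) k →* ↥(D.group k), ∀ a b (hab : a ≠ b) c,
      ψ (transvection hab c) = xs hp.inList (ρ a b) c := by
  have hS' := stein (F := k) hp.inList (r := ρ) (s := fun _ _ => 1) ha hb hc fun _ _ => rfl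
  have e : xr (F := k) hp.inList ρ (fun _ _ => 1) = fun a b c => xG hp.inList (ρ a b) c := by
    funext a b c
    unfold xr
    rw [Int.cast_one, one_mul]
  rw [e] at hS'
  have hSt : AGraded.SteinRel fun a b (c : k) => xs hp.inList (ρ a b) c :=
    ⟨fun i j hij a b => Subtype.ext (hS'.add i j hij a b),
      fun i j k l hij hkl hjk hil a b => Subtype.ext (hS'.comm i j k l hij hkl hjk hil a b),
      fun i j k hij hjk hik a b => Subtype.ext (hS'.br i j k hij hjk hik a b)⟩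
  have hH : CTFrame.Torus.HRel fun a b (c : k) => xs hp.inList (ρ a b) c := by
    intro i j hij
    have e3 : ∀ u : k, CTFrame.Weyl.t (fun a b (c : k) => xs hp.inList (ρ a b) c) i j u = ps hp (ha i j hij) (hS u) := by
      intro u
      unfold CTFrame.Weyl.t CTFrame.Weyl.w hS wS
      simp only [map_mul, ps_up, ps_lo, hneg i j hij, mul_assoc]
    intro a b ha0 hb0
    rw [e3, e3, e3, ← map_mul, hS_mul' ha0 hb0]
  obtain ⟨φ, hφ, -⟩ := CTFrame.Hom.exists_hom hSt hH (by simp)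
  exact ⟨φ, hφ⟩

include hp in
theorem pos_three {i : Fin l} {ρ : Fin 3 → Fin 3 → ℕ} {cf : List (ℕ × ℤ)} (T : Tab D 3 i ρ cf)
    (h1 : 0 ≤ vec D l (ρ 0 1)) (h2 : 0 ≤ vec D l (ρ 1 2)) (h3 : vec D l (ρ 0 2) = vec D l (ρ 0 1) + vec D l (ρ 1 2))
    (h4 : ρ 0 1 ≠ ρ 1 2) (g : (Fin l → ℤ) ≃+ (Fin l → ℤ)) (hg : ∀ x ∈ SR D l ρ, g x ∈ SR D l ρ)
    (hpos : ∀ x ∈ SR D l ρ, 0 ≤ x → 0 ≤ g x) :
    g (vec D l (ρ 0 2)) = vec D l (ρ 0 2) ∧ ∀ x ∈ SR D l ρ, g^[2] x = x := by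
  have m1 : vec D l (ρ 0 1) ∈ SR D l ρ := ⟨0, 1, by decide, rfl⟩
  have m2 : vec D l (ρ 1 2) ∈ SR D l ρ := ⟨1, 2, by decide, rfl⟩
  have m3 : vec D l (ρ 0 2) ∈ SR D l ρ := ⟨0, 2, by decide, rfl⟩
  have hne : vec D l (ρ 0 1) ≠ vec D l (ρ 1 2) := fun e => h4 (vec_inj hp (T.lt (by decide)) (T.lt (by decide)) e)
  have n1 : vec D l (ρ 1 0) = -vec D l (ρ 0 1) := by rw [T.neg (by decide), vec_neg hp (T.lt (by decide))]
  have n2 : vec D l (ρ 2 1) = -vec D l (ρ 1 2) := by rw [T.neg (by decide), vec_neg hp (T.lt (by decide))]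
  have n3 : vec D l (ρ 2 0) = -vec D l (ρ 0 2) := by rw [T.neg (by decide), vec_neg hp (T.lt (by decide))]
  have r1 := T.root hp m1
  have r2 := T.root hp m2
  have r3 := T.root hp m3
  have h5 : 0 ≤ vec D l (ρ 0 2) := by rw [h3]; exact add_nonneg h1 h2
  have hall : ∀ x ∈ SR D l ρ, x = vec D l (ρ 0 1) ∨ x = vec D l (ρ 1 2) ∨ x = vec D l (ρ 0 2) ∨
      x = -vec D l (ρ 0 1) ∨ x = -vec D l (ρ 1 2) ∨ x = -vec D l (ρ 0 2) := by
    rintro _ ⟨a, b, hab, rfl⟩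
    have h6 : ∀ a b : Fin 3, a ≠ b → (a = 0 ∧ b = 1) ∨ (a = 1 ∧ b = 2) ∨ (a = 0 ∧ b = 2) ∨ (a = 1 ∧ b = 0) ∨
      (a = 2 ∧ b = 1) ∨ (a = 2 ∧ b = 0) := by decide
    rcases h6 a b hab with ⟨rfl, rfl⟩ | ⟨rfl, rfl⟩ | ⟨rfl, rfl⟩ | ⟨rfl, rfl⟩ | ⟨rfl, rfl⟩ | ⟨rfl, rfl⟩
    · exact Or.inl rfl
    · exact Or.inr (Or.inl rfl)
    · exact Or.inr (Or.inr (Or.inl rfl))
    · exact Or.inr (Or.inr (Or.inr (Or.inl n1)))
    · exact Or.inr (Or.inr (Or.inr (Or.inr (Or.inl n2))))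
    · exact Or.inr (Or.inr (Or.inr (Or.inr (Or.inr n3))))
  generalize vec D l (ρ 0 1) = α at *
  generalize vec D l (ρ 1 2) = β at *
  generalize vec D l (ρ 0 2) = θ at *
  subst h3
  have hP : ∀ x ∈ SR D l ρ, 0 ≤ x → g x = α ∨ g x = β ∨ g x = α + β := by
    intro x hx h0
    have h6 := hpos x hx h0
    rcases hall _ (hg x hx) with h | h | h | h | h | h
    · exact Or.inl h
    · exact Or.inr (Or.inl h)
    · exact Or.inr (Or.inr h)
    · rw [h] at h6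
      exact (r1.not_pos_neg h1 (neg_nonneg.1 h6)).elim
    · rw [h] at h6
      exact (r2.not_pos_neg h2 (neg_nonneg.1 h6)).elim
    · rw [h] at h6
      exact (r3.not_pos_neg h5 (neg_nonneg.1 h6)).elim
  have p1 : 0 < Slope.htHom α := BNOf.RGD.ht_pos r1 h1
  have p2 : 0 < Slope.htHom β := BNOf.RGD.ht_pos r2 h2
  have hgne : g α ≠ g β := fun e => hne (g.injective e)
  have hle : Slope.htHom (g α) + Slope.htHom (g β) ≤ Slope.htHom α + Slope.htHom β := by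
    rw [← map_add, ← map_add]
    rcases hP _ m3 h5 with h | h | h
    · rw [h]; omega
    · rw [h]; omega
    · rw [h, map_add]
  have key : (g α = α ∧ g β = β) ∨ (g α = β ∧ g β = α) := by
    rcases hP _ m1 h1 with a1 | a1 | a1 <;> rcases hP _ m2 h2 with a2 | a2 | a2
    · exact absurd (a1.trans a2.symm) hgne
    · exact Or.inl ⟨a1, a2⟩
    · rw [a1, a2, map_add] at hle; omega
    · exact Or.inr ⟨a1, a2⟩
    · exact absurd (a1.trans a2.symm) hgne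
    · rw [a1, a2, map_add] at hle; omega
    · rw [a1, a2, map_add] at hle; omega
    · rw [a1, a2, map_add] at hle; omega
    · exact absurd (a1.trans a2.symm) hgne
  have k1 : g (α + β) = α + β := by
    rcases key with ⟨a1, a2⟩ | ⟨a1, a2⟩
    · rw [map_add, a1, a2]
    · rw [map_add, a1, a2, add_comm]
  have k2 : g (g α) = α ∧ g (g β) = β := by
    rcases key with ⟨a1, a2⟩ | ⟨a1, a2⟩
    · rw [a1, a2, a1, a2]; exact ⟨rfl, rfl⟩
    · rw [a1, a2, a1]; exact ⟨rfl, rfl⟩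
  refine ⟨k1, fun x hx => ?_⟩
  show g (g x) = x
  rcases hall x hx with h | h | h | h | h | h
  · rw [h, k2.1]
  · rw [h, k2.2]
  · rw [h, k1, k1]
  · rw [h, map_neg, map_neg, k2.1]
  · rw [h, map_neg, map_neg, k2.2]
  · rw [h, map_neg, map_neg, k1, k1]

theorem js_three (p : ℕ) [Fact p.Prime] (h3p : p ≠ 3) {i : Fin l} {ρ : Fin 3 → Fin 3 → ℕ} {cf : List (ℕ × ℤ)}
    (T : Tab D 3 i ρ cf) (hb : RTb D ρ fun _ _ => 1) (hc : RTc D ρ)
    (h : ∀ j < D.rank, 0 ≤ rt D (ρ 0 1) j ∧ 0 ≤ rt D (ρ 1 2) j ∧ rt D (ρ 0 2) j = rt D (ρ 0 1) j + rt D (ρ 1 2) j)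
    (h4 : ρ 0 1 ≠ ρ 1 2) : ∃ J, JS hp p 3 i J := by
  obtain ⟨ψ, hψ⟩ := exists_psi3 hp (KK p) (fun _ _ hab => T.lt hab) hb hc fun _ _ hab => T.neg hab
  have J : JD hp p 3 i ρ cf ψ := ⟨Nat.prime_three, h3p.symm, by norm_num, T, hψ, 0, 2, by decide, 2, by norm_num,
    pos_three hp T (fun j => (h j (lt_rank hp j)).1) (fun j => (h j (lt_rank hp j)).2.1)
      (funext fun j => (h j (lt_rank hp j)).2.2) h4⟩
  exact ⟨_, J.js fun _ h => absurd h (by norm_num)⟩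

end

theorem tab_E7_3 : Tab chevE7 3 2 (rho3 chevE7 93 124) [(93, 1), (124, 2)] :=
  ⟨by decide +kernel, by decide +kernel, by decide +kernel, by decide +kernel⟩

theorem tab_E8_3 : Tab chevE8 3 6 (rho3 chevE8 120 238) [(120, 1), (238, 2)] :=
  ⟨by decide +kernel, by decide +kernel, by decide +kernel, by decide +kernel⟩

/-- **[J3]** -/
theorem boxJ3 : BoxJ3 := by
  intro D l M hp p _ h3 i hD
  rcases hD with ⟨rfl, hi⟩ | ⟨rfl, hi⟩
  · exact js_three hp p h3 (ρ := rho3 chevE7 93 124) (cf := [(93, 1), (124, 2)]) (by rw [hi]; exact tab_E7_3)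
      (by decide +kernel) (by decide +kernel) (by decide +kernel) (by decide +kernel)
  · exact js_three hp p h3 (ρ := rho3 chevE8 120 238) (cf := [(120, 1), (238, 2)]) (by rw [hi]; exact tab_E8_3)
      (by decide +kernel) (by decide +kernel) (by decide +kernel) (by decide +kernel)

end Cfsg.Agent.DS.Nt
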