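import Cfsg.Agent.DS.Nt.Defs
import Cfsg.Agent.H952.F4.TabClosed
import Cfsg.Agent.H952.F4.JMod

/-!
# The box `BoxP4` (helper54): on the module of dimension `27` an involution of type `B₄` has trace `-5`
-/

set_option autoImplicit false

namespace Cfsg.Agent.DS.Nt.P4

open Cfsg Cfsg.Lie Cfsg.Agent.DS.Ex Cfsg.Agent.H469.Exc Cfsg.Agent.BpExc Module

/-- a group of order less than eight whose pairs are toral -/
theorem toral_of_card {D : ChevalleyDatum} {p : ℕ} [Fact p.Prime] {E : Subgroup (YY D p)} (h : EA p 2 E)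
    (hc : Nat.card E < 8) : Toral p E := by
  classical
  have := h.fin
  by_cases h1 : ∃ x ∈ E, ∃ y ∈ E, x ≠ 1 ∧ y ≠ 1 ∧ x ≠ y
  · obtain ⟨x, hx, y, hy, hx1, hy1, hxy⟩ := h1
    obtain ⟨g, h2, h3⟩ := h.tp x hx y hy
    let K : Subgroup E := (KFacts.RgdChevCoord.TT D (KK p)).comap ((MulAut.conj g).toMonoidHom.comp E.subtype)
    let x' : K := ⟨⟨x, hx⟩, h2⟩
    let y' : K := ⟨⟨y, hy⟩, h3⟩
    have hv : ∀ a b : K, ((a : E) : YY D p) ≠ ((b : E) : YY D p) → a ≠ b := fun a b h4 h5 => h4 (by rw [h5])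
    have h4 : 4 ≤ Nat.card K := by
      have := Fintype.ofFinite K
      have h5 : ({1, x', y', x' * y'} : Finset K).card = 4 := by
        rw [Finset.card_eq_four]
        refine ⟨1, x', y', x' * y', hv _ _ hx1.symm, hv _ _ hy1.symm, hv _ _ fun h5 => hxy ?_, hv _ _ hxy,
          hv _ _ fun h5 => hy1 (left_eq_mul.1 h5), hv _ _ fun h5 => hx1 (right_eq_mul.1 h5), rfl⟩
        have h6 : x * x = x * y := by rw [← pow_two, h.pow x hx]; exact h5
        exact mul_left_cancel h6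
      rw [Nat.card_eq_fintype_card, ← h5]
      exact Finset.card_le_univ _
    have h5 : K = ⊤ := by
      rw [← Subgroup.index_eq_one]
      have h6 := K.card_mul_index
      have h7 : K.index ≠ 0 := Subgroup.index_ne_zero_of_finite
      by_contra h8
      have h9 : 2 ≤ K.index := by omega
      nlinarith
    exact ⟨g, fun a ha => (h5.ge (Subgroup.mem_top (⟨a, ha⟩ : E)) : _ ∈ K)⟩
  by_cases h2 : ∃ x ∈ E, x ≠ 1
  · obtain ⟨x, hx, hx1⟩ := h2
    obtain ⟨g, h2, -⟩ := h.tp x hx x hx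
    refine ⟨g, fun a ha => ?_⟩
    by_cases h3 : a = 1
    · rw [h3, mul_one, mul_inv_cancel]
      exact one_mem _
    · rwa [not_not.1 fun h4 => h1 ⟨a, ha, x, hx, h3, hx1, h4⟩]
  · refine ⟨1, fun a ha => ?_⟩
    rw [not_not.1 fun h4 => h2 ⟨a, ha, h4⟩, mul_one, mul_inv_cancel]
    exact one_mem _

theorem boxP4 : BoxP4 := by
  intro p _ E h hd
  have := h.fin
  have := Fintype.ofFinite E
  obtain ⟨ρ, hρ⟩ := H952.F4.JMod.exists_isJ (KK p)
  have hT := H952.F4.Tor.tab_closed p (TorAll.hAlg_of_isAlgebraic p _) hρ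
  have h2 : ((2 : ℕ) : KK p) ≠ 0 := fun h0 =>
    h.ne ((Nat.prime_dvd_prime_iff_eq Fact.out Nat.prime_two).1 ((CharP.cast_eq_zero_iff (KK p) p 2).1 h0)).symm
  let σ := MonoidHom.comp (H952.F4.JK ρ) E.subtype
  have h3 := NT.dim_pure σ Nat.prime_two h2 (fun x y => Subtype.ext (h.comm x x.2 y y.2))
    (fun x => Subtype.ext (h.pow x x.2)) (Representation.invariants σ) (fun _ => Iff.rfl) (d := 11) fun e he => by
      have h3 : (e : YY chevF4 p) ≠ 1 := fun h4 => he (Subtype.ext h4)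
      rcases hT.two h.ne.symm e h3 (by rw [← pow_two, h.pow e e.2]) with h4 | h4
      · exact absurd ((hd e e.2 h3).symm.trans h4.2.1) (by norm_num)
      · exact h4.1
  rw [finrank_fintype_fun_eq_card, show Fintype.card I27 = 27 from rfl] at h3
  refine toral_of_card h ?_
  rw [Nat.card_eq_fintype_card]
  have h4 : (0 : ℤ) ≤ Fintype.card E * finrank (KK p) (Representation.invariants σ) := by positivity
  push_cast at h3
  have h5 : (Fintype.card E : ℤ) < 8 := by linarith
  exact_mod_cast h5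

end Cfsg.Agent.DS.Nt.P4
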