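import Cfsg.Agent.DS.Nt.P8Comb
import Cfsg.Agent.DS.Nt.Base
import Cfsg.Agent.DS.Nt.P4
import Cfsg.Agent.H167.KKL.AsmE8
import Cfsg.Agent.H387.KKL.P4b
import Cfsg.Agent.H582.KKL.TraceN

/-!
# The box `BoxP8` (helper54): groups of order at most `16` of involutions of type `D₈` are toral

* `toral8` : order `8`, by the boxes of `H167.KKL`;
* `fx_ge` : a monomial involution without fixed roots has a big fixed space;
* `toral16`, `boxP8`.
-/

set_option autoImplicit false

namespace Cfsg.Agent.DS.Nt.P8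

open CoxeterSystem Cfsg Cfsg.Lie Cfsg.Lie.ChevalleyDatum Module
open Cfsg.Agent.ChevalleyStructure Cfsg.Agent.ChevalleyStructure.Elts Cfsg.Agent.ChevalleyStructure.CoxeterGeom
  Cfsg.Agent.ChevalleyStructure.CoxeterGeomTypes
open Cfsg.Agent.Tits.Roots Cfsg.Agent.Tits.Core Cfsg.Agent.Nodes Cfsg.Agent.Nodes.RGDChev Cfsg.Agent.Nodes.Coroot
open Cfsg.Agent.KFacts.RgdField Cfsg.Agent.KFacts.RgdChevCoord Cfsg.Agent.BpExc.TowChev
open Cfsg.Agent.H469.Exc Cfsg.Agent.H129.TorusChar Cfsg.Agent.DS.Ex Cfsg.Agent.H167.KKL Cfsg.Agent.H582.KKL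

/-- the Coxeter system -/
local notation "cs₈" => CoxeterMatrix.toCoxeterSystem CoxeterMatrix.E₈

variable {p : ℕ} [Fact p.Prime]

theorem fr248 : finrank (KK p) (chevE8.Idx → KK p) = 248 := finrank_ad KindE.isType8

/-- pure groups -/
structure Pu (E : Subgroup (YY chevE8 p)) : Prop where
  ea : EA p 2 E
  dd : ∀ e ∈ E, e ≠ 1 → dd p e = 120

namespace Pu

variable {E : Subgroup (YY chevE8 p)} (h : Pu E)

include h

theorem ne : p ≠ 2 := h.ea.ne.symm

theorem two : (2 : KK p) ≠ 0 := two_ne p h.ne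

theorem sq {x : YY chevE8 p} (hx : x ∈ E) : x * x = 1 := by rw [← pow_two, h.ea.pow x hx]

theorem le {A : Subgroup (YY chevE8 p)} (hA : A ≤ E) : Pu A :=
  have := h.ea.fin
  ⟨⟨h.ea.prime, h.ea.ne, Finite.of_injective _ (Subgroup.inclusion_injective hA),
    fun x hx y hy => h.ea.comm x (hA hx) y (hA hy), fun x hx => h.ea.pow x (hA hx),
    fun x hx y hy => h.ea.tp x (hA hx) y (hA hy)⟩, fun x hx => h.dd x (hA hx)⟩

theorem conj (g : YY chevE8 p) : Pu (E.map (MulAut.conj g).toMonoidHom) := by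
  have := h.ea.fin
  refine ⟨⟨h.ea.prime, h.ea.ne, Finite.of_surjective _ (MonoidHom.subgroupMap_surjective _ E), ?_, ?_, ?_⟩, ?_⟩
  · rintro _ ⟨x, hx, rfl⟩ _ ⟨y, hy, rfl⟩
    rw [← map_mul, h.ea.comm x hx y hy, map_mul]
  · rintro _ ⟨x, hx, rfl⟩
    rw [← map_pow, h.ea.pow x hx, map_one]
  · rintro _ ⟨x, hx, rfl⟩ _ ⟨y, hy, rfl⟩
    exact (h.ea.tp x hx y hy).conj g
  · rintro _ ⟨x, hx, rfl⟩ h1
    exact (dd_conj g x).trans (h.dd x hx fun h2 => h1 (by rw [h2, map_one]))

theorem fx : Nat.card E * finrank (KK p) (Fx p (E : Set (YY chevE8 p))) + 8 * Nat.card E = 256 := by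
  have := h.ea.fin
  have := Fintype.ofFinite E
  have h3 := NT.dim_pure ((ad chevE8 p).comp E.subtype) Nat.prime_two (by exact_mod_cast h.two)
    (fun x y => Subtype.ext (h.ea.comm x x.2 y y.2)) (fun x => Subtype.ext (h.ea.pow x x.2))
    (Fx p (E : Set (YY chevE8 p))) (fun _ => ⟨fun h1 e => h1 e e.2, fun h1 e he => h1 ⟨e, he⟩⟩) (d := 120)
    fun e he => h.dd e e.2 fun h4 => he (Subtype.ext h4)
  rw [fr248] at h3
  rw [Nat.card_eq_fintype_card]
  push_cast at h3
  zify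
  linarith

theorem tr {x : YY chevE8 p} (hx : x ∈ E) (h1 : x ≠ 1) : trL chevE8 x = -8 := by
  have h2 : ∀ v, ad chevE8 p x (ad chevE8 p x v) = v := fun v => by rw [← ad_mul, h.sq hx, ad_one]
  have h3 : LinearMap.IsProj (End.eigenspace (ad chevE8 p x) 1) ((2 : KK p)⁻¹ • (1 + ad chevE8 p x)) := by
    constructor
    · intro v
      rw [End.mem_eigenspace_iff, one_smul, LinearMap.smul_apply, LinearMap.add_apply, map_smul, map_add, h2,
        End.one_apply, add_comm]
    · intro v hv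
      rw [End.mem_eigenspace_iff, one_smul] at hv
      rw [LinearMap.smul_apply, LinearMap.add_apply, hv, End.one_apply, ← two_smul (KK p), smul_smul,
        inv_mul_cancel₀ h.two, one_smul]
  have h4 := h3.trace
  have h5 : LinearMap.trace (KK p) _ (ad chevE8 p x) = trL chevE8 x := Matrix.trace_toLin'_eq _
  rw [map_smul, map_add, LinearMap.trace_one, h5, fr248,
    show finrank (KK p) (End.eigenspace (ad chevE8 p x) 1) = 120 from h.dd x hx h1, smul_eq_mul,
    inv_mul_eq_iff_eq_mul₀ h.two] at h4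
  push_cast at h4
  linear_combination h4

theorem exists_le {n : ℕ} (hn : 2 ^ n ≤ Nat.card E) : ∃ A ≤ E, Nat.card A = 2 ^ n := by
  obtain ⟨K, hK⟩ := Sylow.exists_subgroup_card_pow_prime_of_le_card (G := E) Nat.prime_two
    (fun x => ⟨1, Subtype.ext (by rw [pow_one]; exact h.ea.pow x x.2)⟩) hn
  exact ⟨K.map E.subtype, Subgroup.map_subtype_le _, by rw [Subgroup.card_subtype, hK]⟩

end Pu

theorem card_conj (g : YY chevE8 p) (E : Subgroup (YY chevE8 p)) :
    Nat.card (E.map (MulAut.conj g).toMonoidHom) = Nat.card E :=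
  Subgroup.card_map_of_injective (MulAut.conj g).injective

theorem toral_of_conj {g : YY chevE8 p} {E : Subgroup (YY chevE8 p)} (h : Toral p (E.map (MulAut.conj g).toMonoidHom)) :
    Toral p E := by
  obtain ⟨z, hz⟩ := h
  refine ⟨z * g, fun a ha => ?_⟩
  have e : z * g * a * (z * g)⁻¹ = z * (g * a * g⁻¹) * z⁻¹ := by group
  rw [e]
  exact hz _ ⟨a, ha, rfl⟩

/-- the shape reached by the reduction -/
structure Sh (hp : IsType chevE8 8 CoxeterMatrix.E₈) (E A : Subgroup (YY chevE8 p)) (w : CoxeterMatrix.E₈.Group)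
    (n : YY chevE8 p) : Prop where
  pu : Pu E
  le : A ≤ E
  tor : ∀ a ∈ A, a ∈ TT chevE8 (KK p)
  mem : n ∈ E
  nmem : n ∉ A
  cov : ∀ x ∈ E, x ∈ A ∨ n * x ∈ A
  rp : RP hp p w n
  res : Res hp.isCartan w
  neg : ∀ b, IsRoot cs₈ hp.isCartan b → rep cs₈ hp.isCartan w b = -b → ∃ a ∈ A, ch hp b a ≠ 1

variable (hp : IsType chevE8 8 CoxeterMatrix.E₈)

/-- **The reduction.** -/
theorem step {E A : Subgroup (YY chevE8 p)} (h : Pu E) (hA : A ≤ E) (hc : Nat.card E = 2 * Nat.card A) (hT : Toral p A)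
    (core : ∀ (E' A' : Subgroup (YY chevE8 p)) w n, Nat.card E' = Nat.card E → Nat.card A' = Nat.card A →
      Sh hp E' A' w n → w = 1) : Toral p E := by
  have := h.ea.fin
  have hfA := (h.le hA).ea.fin
  have hi : (A.subgroupOf E).index = 2 := by
    have h1 := (A.subgroupOf E).card_mul_index
    rw [Nat.card_congr (Subgroup.subgroupOfEquivOfLe hA).toEquiv, hc, mul_comm 2] at h1
    exact Nat.eq_of_mul_eq_mul_left Nat.card_pos h1
  obtain ⟨e, he⟩ := Subgroup.index_eq_two_iff'.1 hi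
  have heA : (e : YY chevE8 p) ∉ A := fun h1 => by
    rcases he 1 with h2 | h2
    · exact h2.2 (one_mem _)
    · exact h2.2 (by rw [mul_one]; exact h1)
  obtain ⟨g1, hg1⟩ := hT
  have h1 := h.conj g1
  obtain ⟨g2, w, n, h2, hn, -, e1, hres, hb⟩ := red hp p (locFin p) h.ne
    (Z := (A.map (MulAut.conj g1).toMonoidHom : Set (YY chevE8 p))) ((h.le hA).conj g1).ea.fin
    (by rintro _ ⟨a, ha, rfl⟩; exact hg1 a ha) (x := g1 * e * g1⁻¹) (h1.sq ⟨e, e.2, rfl⟩)
    (by rintro _ ⟨a, ha, rfl⟩; exact h1.ea.comm _ ⟨e, e.2, rfl⟩ _ ⟨a, hA ha, rfl⟩)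
  have hcj : ∀ y, g2 * (g1 * y * g1⁻¹) * g2⁻¹ = (MulAut.conj (g2 * g1)).toMonoidHom y := fun y => by
    show _ = g2 * g1 * y * (g2 * g1)⁻¹
    group
  rw [hcj] at e1
  have S : Sh hp (E.map (MulAut.conj (g2 * g1)).toMonoidHom) (A.map (MulAut.conj (g2 * g1)).toMonoidHom) w n := by
    refine ⟨h.conj _, Subgroup.map_mono hA, ?_, ⟨e, e.2, e1⟩, ?_, ?_, hn, hres, fun b hb1 hb2 => ?_⟩
    · rintro _ ⟨a, ha, rfl⟩
      rw [← hcj]
      exact h2 _ ⟨a, ha, rfl⟩
    · rintro ⟨a, ha, e2⟩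
      rw [← e1] at e2
      exact heA ((MulAut.conj (g2 * g1)).injective e2 ▸ ha)
    · rintro _ ⟨x, hx, rfl⟩
      rcases he ⟨x, hx⟩ with h3 | h3
      · exact Or.inr ⟨e * x, h3.1, by rw [map_mul, e1]⟩
      · exact Or.inl ⟨x, h3.1, rfl⟩
    · obtain ⟨_, ⟨a, ha, rfl⟩, h3⟩ := hb b hb1 hb2
      exact ⟨_, ⟨a, ha, rfl⟩, by rw [← hcj]; exact h3⟩
  obtain rfl := core _ _ w n (card_conj _ _) (card_conj _ _) S
  refine toral_of_conj (g := g2 * g1) ⟨1, fun x hx => ?_⟩
  rw [one_mul, inv_one, mul_one]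
  rcases S.cov x hx with h3 | h3
  · exact S.tor x h3
  · exact (mul_mem_cancel_left S.rp.mem_T).1 (S.tor _ h3)

variable {hp}

namespace Sh

variable {E A : Subgroup (YY chevE8 p)} {w : CoxeterMatrix.E₈.Group} {n : YY chevE8 p} (S : Sh hp E A w n)

include S

theorem mul_ne {a : YY chevE8 p} (ha : a ∈ A) : n * a ≠ 1 := fun h =>
  S.nmem (by rw [eq_inv_of_mul_eq_one_left h]; exact inv_mem ha)

theorem core4 (hc : Nat.card A = 4) : w = 1 := by
  classical
  have hA := S.pu.le S.le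
  have := hA.ea.fin
  have := Fintype.ofFinite A
  obtain ⟨z, z', h1, h2, h3⟩ : ∃ z z' : A, z ≠ 1 ∧ z' ≠ 1 ∧ z' ≠ z := by
    obtain ⟨z, hz⟩ := Finset.exists_mem_notMem_of_card_lt_card (s := ({1} : Finset A)) (t := Finset.univ)
      (by rw [Finset.card_univ, ← Nat.card_eq_fintype_card, hc, Finset.card_singleton]; norm_num)
    obtain ⟨z', hz'⟩ := Finset.exists_mem_notMem_of_card_lt_card (s := ({1, z} : Finset A)) (t := Finset.univ)
      (lt_of_le_of_lt Finset.card_le_two (by rw [Finset.card_univ, ← Nat.card_eq_fintype_card, hc]; norm_num))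
    simp only [Finset.mem_insert, Finset.mem_singleton, not_or] at hz hz'
    exact ⟨z, z', hz.2, hz'.2.1, hz'.2.2⟩
  have h4 : z * z' ≠ 1 := fun h => h3 (mul_left_cancel (h.trans (Subtype.ext (hA.sq z.2)).symm))
  have h5 : ∀ a : A, a = 1 ∨ a = z ∨ a = z' ∨ a = z * z' := by
    have h6 : ({1, z, z', z * z'} : Finset A) = Finset.univ := by
      refine Finset.eq_univ_of_card _ ?_
      rw [← Nat.card_eq_fintype_card, hc, Finset.card_eq_four]
      exact ⟨1, z, z', z * z', h1.symm, h2.symm, h4.symm, h3.symm, fun h => h2 (left_eq_mul.1 h),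
        fun h => h1 (right_eq_mul.1 h), rfl⟩
    intro a
    have h7 := Finset.mem_univ a
    rw [← h6] at h7
    simpa only [Finset.mem_insert, Finset.mem_singleton] using h7
  have hz := S.tor z z.2
  have hz' := S.tor z' z'.2
  have hneg : ∀ b, rt' hp.isCartan b → wv hp.isCartan w b = -b →
      ch hp b (z : YY chevE8 p) ≠ 1 ∨ ch hp b (z' : YY chevE8 p) ≠ 1 := by
    intro b hb hwb
    obtain ⟨a, ha, h6⟩ := S.neg b hb hwb
    by_contra h7
    rw [not_or, not_not, not_not, ← cX_root hp cs₈ hz hb, ← cX_root hp cs₈ hz' hb] at h7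
    rw [← cX_root hp cs₈ (S.tor a ha) hb] at h6
    rcases h5 ⟨a, ha⟩ with h8 | h8 | h8 | h8 <;> refine h6 ?_ <;> rw [show a = _ from congrArg Subtype.val h8]
    · exact cX_one hp b
    · exact h7.1
    · exact h7.2
    · rw [Subgroup.coe_mul, cX_mul hp hz hz', h7.1, h7.2, mul_one]
  obtain ⟨f, hf⟩ := exists_sgn hp p (locFin p) hz (hA.sq z.2)
  obtain ⟨f', hf'⟩ := exists_sgn hp p (locFin p) hz' (hA.sq z'.2)
  refine (H387.KKL.P3 hp S.res f f'
    (sgn_eq hp p (locFin p) hA.ne S.rp hz (S.pu.ea.comm _ S.mem _ (S.le z.2)) hf)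
    (sgn_eq hp p (locFin p) hA.ne S.rp hz' (S.pu.ea.comm _ S.mem _ (S.le z'.2)) hf') fun b hb hwb => ?_).resolve_right
    fun h6 => ?_
  · refine (hneg b hb hwb).imp (fun h7 h0 => h7 ?_) fun h7 h0 => h7 ?_
    · rw [hf b hb, h0]
      rfl
    · rw [hf' b hb, h0]
      rfl
  · have ht : ∀ a : A, a ≠ 1 → trL chevE8 (a : YY chevE8 p) = -8 := fun a ha => hA.tr a.2 fun h => ha (Subtype.ext h)
    have ht' : ∀ a : A, trL chevE8 (n * (a : YY chevE8 p)) = -8 := fun a => S.pu.tr (mul_mem S.mem (S.le a.2)) (S.mul_ne a.2)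
    have h7 := H387.KKL.P4b hp p hA.ne h6 hz hz' (hA.sq z.2) (hA.sq z'.2) hneg (ht z h1) (ht z' h2)
      (by rw [← Subgroup.coe_mul]; exact ht _ h4)
    have h8 := H582.KKL.P4 hp p (locFin p) hA.ne S.rp h6 hz hz' (hA.sq z.2) (hA.sq z'.2) h7
    have h9 := ht' 1
    rw [Subgroup.coe_one, mul_one] at h9
    rw [h9, ht' z, ht' z', ← Subgroup.coe_mul, ht'] at h8
    exact hA.two (pow_eq_zero_iff (n := 5) (by norm_num) |>.1 (by linear_combination -h8))

/-- **A monomial involution without fixed roots.** -/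
theorem fx_ge (hfix : ∀ b ∈ Ps hp p (A : Set (YY chevE8 p)), rep cs₈ hp.isCartan w b ≠ b) {i j : Fin chevE8.rank}
    (hij : ((rep cs₈ hp.isCartan w (sr (f8 i)) (f8 j) + (sr (f8 i) : Fin 8 → ℤ) (f8 j) : ℤ) : KK p) ≠ 0) :
    finrank (KK p) (Fx p (A : Set (YY chevE8 p))) ≤ 2 * finrank (KK p) (Fx p (E : Set (YY chevE8 p))) + 6 := by
  classical
  have hZ : (A : Set (YY chevE8 p)) ⊆ TT chevE8 (KK p) := S.tor
  have hm := mono_of_rp hp p (locFin p) S.rp
  have hnn := S.pu.sq S.mem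
  have hc : ∀ a ∈ A, n * a = a * n := fun a ha => S.pu.ea.comm _ S.mem _ (S.le ha)
  choose σ hσ using fun s : Fin chevE8.nroots => (show ∃ s' : Fin chevE8.nroots,
    vec chevE8 8 s' = rep cs₈ hp.isCartan w (vec chevE8 8 s) from
      let ⟨r, hr, e⟩ := (isRoot_iff hp cs₈ _).1 ((isRoot_vec hp cs₈ s.2).act w); ⟨⟨r, hr⟩, e⟩)
  have hinj : ∀ s s' : Fin chevE8.nroots, vec chevE8 8 s = vec chevE8 8 s' → s = s' := fun s s' h =>
    Fin.ext (vec_inj hp s.2 s'.2 h)
  have hσσ : ∀ s, σ (σ s) = s := fun s => hinj _ _ (by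
    rw [hσ, hσ, ← rep_mul_apply, S.res.sq, map_one, End.one_apply])
  set R := Finset.univ.filter fun s : Fin chevE8.nroots => vec chevE8 8 s ∈ Ps hp p (A : Set (YY chevE8 p)) with hR
  set P := R.filter fun s => s < σ s with hP
  have h1 : R.card ≤ 2 * P.card := by
    have h2 : R ⊆ P ∪ P.image σ := by
      intro s hs
      have h3 := (Finset.mem_filter.1 hs).2
      rcases lt_trichotomy s (σ s) with h | h | h
      · exact Finset.mem_union_left _ (Finset.mem_filter.2 ⟨hs, h⟩)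
      · exact absurd (by rw [← hσ, ← h]) (hfix _ h3)
      · refine Finset.mem_union_right _ (Finset.mem_image.2 ⟨σ s, Finset.mem_filter.2 ⟨Finset.mem_filter.2
          ⟨Finset.mem_univ _, ?_⟩, by rw [hσσ]; exact h⟩, hσσ s⟩)
        rw [hσ, mem_Ps hZ]
        rw [mem_Ps hZ] at h3
        exact ⟨h3.1.act w, fun t ht => by rw [S.rp.cX_of_comm (hZ ht) (hc t ht), h3.2 t ht]⟩
    have h3 := (Finset.card_le_card h2).trans (Finset.card_union_le _ _)
    have h4 := Finset.card_image_le (s := P) (f := σ)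
    omega
  let q : chevE8.Idx → Prop := Sum.elim (fun a => a = i) fun s => s ∈ P
  let U : Submodule (KK p) (chevE8.Idx → KK p) :=
    { carrier := {v | ∀ x, ¬ q x → v x = 0}
      zero_mem' := fun _ _ => rfl
      add_mem' := fun {u v} hu hv x hx => by rw [Pi.add_apply, hu x hx, hv x hx, add_zero]
      smul_mem' := fun c v hv x hx => by rw [Pi.smul_apply, hv x hx, smul_zero] }
  have h2 : finrank (KK p) U = 1 + P.card := by
    rw [finrank_of_coord q U fun _ => Iff.rfl, card_sum_filter]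
    congr 1
    · exact Finset.card_eq_one.2 ⟨i, Finset.ext fun a => by
        rw [Finset.mem_filter, Finset.mem_singleton]
        exact ⟨fun h => h.2, fun h => ⟨Finset.mem_univ _, h⟩⟩⟩
    · exact congrArg Finset.card (Finset.ext fun s => by
        rw [Finset.mem_filter]
        exact ⟨fun h => h.2, fun h => ⟨Finset.mem_univ _, h⟩⟩)
  have h3 : ∀ v ∈ U, ∀ a ∈ A, ad chevE8 p a v = v := by
    intro v hv a ha
    funext x
    rw [ad_tor (hp := hp) (hZ ha)]
    by_cases hx : q x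
    · rcases x with x | x
      · exact one_mul _
      · have h4 := ((mem_Ps hZ).1 (Finset.mem_filter.1 (Finset.mem_filter.1 hx).1).2).2 a ha
        rw [show wtc hp a (Sum.inr x) = 1 from h4, one_mul]
    · rw [hv x hx, mul_zero]
  have h4 : ∀ v : U, ((1 + ad chevE8 p n) ∘ₗ U.subtype) v ∈ Fx p (E : Set (YY chevE8 p)) := by
    intro v y hy
    have h5 : ∀ a ∈ A, ad chevE8 p a (v + ad chevE8 p n v) = v + ad chevE8 p n v := fun a ha => by
      rw [map_add, ← ad_mul, ← hc a ha, ad_mul, h3 v v.2 a ha]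
    show ad chevE8 p y (v + ad chevE8 p n v) = v + ad chevE8 p n v
    rcases S.cov y hy with h | h
    · exact h5 y h
    · rw [show y = n * (n * y) by rw [← mul_assoc, hnn, one_mul], ad_mul, h5 _ h, map_add, ← ad_mul, hnn, ad_one, add_comm]
  have h5 : Function.Injective (LinearMap.codRestrict _ _ h4) := by
    rw [injective_iff_map_eq_zero]
    rintro ⟨v, hv⟩ h
    have h6 : ∀ x, v x + ∑ y, ((n : GL chevE8.Idx (KK p)) : Matrix chevE8.Idx chevE8.Idx (KK p)) x y * v y = 0 :=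
      fun x => congrFun (congrArg Subtype.val h) x
    have h7 : ∀ s, v (Sum.inr s) = 0 := by
      intro s
      by_cases hs : s ∈ P
      · have h8 := h6 (Sum.inr s)
        rwa [Finset.sum_eq_zero, add_zero] at h8
        rintro (y | y) -
        · rw [hm.rl, zero_mul]
        · by_cases hy : vec chevE8 8 s = rep cs₈ hp.isCartan w (vec chevE8 8 y)
          · rw [hv (Sum.inr y) fun hy' => ?_, mul_zero]
            have h9 : s = σ y := hinj _ _ (by rw [hσ, hy])
            have h10 := (Finset.mem_filter.1 hs).2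
            rw [h9, hσσ] at h10
            exact lt_asymm h10 (Finset.mem_filter.1 hy').2
          · rw [hm.rr s y hy, zero_mul]
      · exact hv (Sum.inr s) hs
    have h8 : v (Sum.inl i) = 0 := by
      have h9 := h6 (Sum.inl j)
      rw [Finset.sum_eq_single (Sum.inl i), hm.ll] at h9
      · refine (mul_eq_zero.1 ?_).resolve_left hij
        rw [Int.cast_add, add_mul, add_comm, ← h9]
        congr 1
        by_cases h10 : j = i
        · rw [h10, sr_self, Int.cast_one, one_mul]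
        · rw [sr_ne fun h11 => h10 (f8_inj h11), Int.cast_zero, zero_mul, hv (Sum.inl j) h10]
      · rintro (y | y) - hy
        · rw [hv (Sum.inl y) fun h10 => hy (congrArg Sum.inl h10), mul_zero]
        · rw [h7, mul_zero]
      · exact fun h10 => absurd (Finset.mem_univ _) h10
    refine Subtype.ext (funext fun x => ?_)
    rcases x with x | x
    · by_cases hx : x = i
      · rw [hx]
        exact h8
      · exact hv (Sum.inl x) hx
    · exact h7 x
  have h6 := LinearMap.finrank_le_finrank_of_injective h5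
  rw [finrank_Fx hp hZ, ← hR]
  omega

theorem core8 (hc : Nat.card A = 8) (hE : Nat.card E = 16) : w = 1 := by
  classical
  have := finW hp
  have hA := S.pu.le S.le
  have := hA.ea.fin
  have := Fintype.ofFinite A
  have hZ : (A : Set (YY chevE8 p)) ⊆ TT chevE8 (KK p) := S.tor
  have h1 := hA.fx
  have h2 := S.pu.fx
  rw [hc] at h1
  rw [hE] at h2
  choose f hf using fun a : A => exists_sgn hp p (locFin p) (S.tor a a.2) (hA.sq a.2)
  have hsg : ∀ x y : ZMod 2, (sg x : KK p) = sg y → x = y := fun x y h => by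
    have h3 := sg_eq_one (k := KK p) hA.two x
    rw [h, sg_eq_one hA.two] at h3
    exact (by decide : ∀ x y : ZMod 2, (y = 0 ↔ x = 0) → x = y) x y h3
  have hz : ∀ (a : A) b, IsRoot cs₈ hp.isCartan b → (cX hp (a : YY chevE8 p) b = 1 ↔ f a b = 0) := fun a b hb => by
    rw [cX_root hp cs₈ (S.tor a a.2) hb, hf a b hb, sg_eq_one hA.two]
  have hPs : ∀ b, b ∈ Ps hp p (A : Set (YY chevE8 p)) ↔ IsRoot cs₈ hp.isCartan b ∧ ∀ a, f a b = 0 := fun b => by
    rw [mem_Ps hZ]
    exact and_congr_right fun hb => ⟨fun h a => (hz a b hb).1 (h a a.2), fun h a ha => (hz ⟨a, ha⟩ b hb).2 (h _)⟩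
  have h16 : (Finset.univ.filter fun s : Fin chevE8.nroots => ∀ a, f a (vec chevE8 8 s) = 0).card = 16 := by
    have h3 := finrank_Fx hp hZ
    rw [Finset.filter_congr (q := fun s : Fin chevE8.nroots => ∀ a, f a (vec chevE8 8 s) = 0) fun s _ => by
      rw [hPs, and_iff_right (isRoot_vec hp cs₈ s.2)]] at h3
    omega
  have hadd : ∀ a b : A, ∃ c, f c = f a + f b := fun a b => ⟨a * b, by
    obtain ⟨F, hF⟩ := exists_hasM (f a + f b)
    refine HasM.ext ⟨hF.1, fun i => ?_⟩ hF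
    rw [← hF.2]
    refine hsg _ _ ?_
    have h3 := isRoot_sr cs₈ hp.isCartan i
    rw [AddMonoidHom.add_apply, sg_add, ← hf _ _ h3, ← hf _ _ h3, ← hf _ _ h3, ← cX_sr, ← cX_sr, ← cX_sr,
      Subgroup.coe_mul, cX_mul hp (S.tor a a.2) (S.tor b b.2)]⟩
  have hinj : Function.Injective f := fun a b h => Subtype.ext (cX_inj hp (S.tor a a.2) (S.tor b b.2) fun i => by
    have h3 := isRoot_sr cs₈ hp.isCartan i
    rw [cX_sr, cX_sr, hf _ _ h3, hf _ _ h3, h])
  have hS : ∀ a, f a ≠ 0 → Sing (f a) := by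
    intro a ha
    have h3 := hA.dd a a.2 fun h => ha (by
      refine HasM.ext (F := 0) ⟨by norm_num, fun i => ?_⟩ ⟨by norm_num, fun i => by rw [Nat.zero_testBit]; rfl⟩
      rw [Nat.zero_testBit]
      exact (hz a _ (isRoot_sr cs₈ hp.isCartan i)).1 (by rw [h, cX_one]))
    rw [dd_tor hp (S.tor a a.2), Finset.filter_congr (q := fun s : Fin chevE8.nroots => f a (vec chevE8 8 s) = 0)
      fun s _ => hz a _ (isRoot_vec hp cs₈ s.2)] at h3
    unfold Sing
    omega
  refine (key hp hadd hS (by rw [← Nat.card_eq_fintype_card, hc]) hinj h16 (fun a =>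
    sgn_eq hp p (locFin p) hA.ne S.rp (S.tor a a.2) (S.pu.ea.comm _ S.mem _ (S.le a.2)) (hf a)) S.res
    fun b hb hwb => ?_).resolve_right fun h => ?_
  · obtain ⟨a, ha, h3⟩ := S.neg b hb hwb
    exact ⟨⟨a, ha⟩, fun h4 => h3 (by rw [← cX_root hp cs₈ (S.tor a ha) hb]; exact (hz ⟨a, ha⟩ b hb).2 h4)⟩
  by_cases h3 : ∃ i j, ((rep cs₈ hp.isCartan w (sr i) j + (sr i : Fin 8 → ℤ) j : ℤ) : KK p) ≠ 0
  · obtain ⟨i, j, hij⟩ := h3
    have h4 := S.fx_ge (i := i) (j := j) (fun b hb => (h b ((hPs b).1 hb).1 ((hPs b).1 hb).2).1) hij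
    omega
  · obtain ⟨s, hs⟩ := Finset.card_pos.1 (by rw [h16]; norm_num :
      0 < (Finset.univ.filter fun s : Fin chevE8.nroots => ∀ a, f a (vec chevE8 8 s) = 0).card)
    have hb := isRoot_vec hp cs₈ s.2
    have h4 := (h _ hb (Finset.mem_filter.1 hs).2).2
    generalize vec chevE8 8 s = b at hb h4
    have h5 := cpr_add cs₈ hp.isCartan (rep cs₈ hp.isCartan w b) b hb
    rw [h4, cpr_self cs₈ hp.isCartan hb, cpr_sum hp _ hb] at h5
    have h6 : ∀ j, (((rep cs₈ hp.isCartan w b + b) j : ℤ) : KK p) = 0 := fun j => by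
      have h7 := rep_eq_sum hp 1 b j
      simp only [map_one, End.one_apply] at h7
      rw [Pi.add_apply, rep_eq_sum hp, h7, ← Finset.sum_add_distrib, Int.cast_sum]
      exact Finset.sum_eq_zero fun i _ => by
        rw [← add_mul, Int.cast_mul, not_not.1 fun h8 => h3 ⟨i, j, h8⟩, zero_mul]
    have h7 := congrArg (Int.cast : ℤ → KK p) h5
    rw [Int.cast_sum, Finset.sum_eq_zero fun j _ => by rw [Int.cast_mul, h6, zero_mul]] at h7
    exact hA.two (by exact_mod_cast h7.symm)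

end Sh

theorem toral8 {E : Subgroup (YY chevE8 p)} (h : Pu E) (hc : Nat.card E = 8) : Toral p E := by
  obtain ⟨A, hA, h1⟩ := h.exists_le (n := 2) (by rw [hc]; norm_num)
  exact step KindE.isType8 h hA (by rw [hc, h1]; rfl) (P4.toral_of_card (h.le hA).ea (by rw [h1]; norm_num))
    fun _ _ _ _ _ h2 S => S.core4 (h2.trans h1)

theorem toral16 {E : Subgroup (YY chevE8 p)} (h : Pu E) (hc : Nat.card E = 16) : Toral p E := by
  obtain ⟨A, hA, h1⟩ := h.exists_le (n := 3) (by rw [hc]; norm_num)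
  exact step KindE.isType8 h hA (by rw [hc, h1]; rfl) (toral8 (h.le hA) h1)
    fun _ _ _ _ h3 h2 S => S.core8 (h2.trans h1) (h3.trans hc)

theorem boxP8 : BoxP8 := by
  intro p _ E h hd
  have H : Pu E := ⟨h, hd⟩
  rcases Nat.lt_or_ge (Nat.card E) 8 with h1 | h1
  · exact Or.inl (P4.toral_of_card h h1)
  rcases Nat.lt_or_ge (Nat.card E) 16 with h2 | h2
  · obtain ⟨A, hA, h3⟩ := H.exists_le (n := 3) h1
    obtain ⟨c, hc⟩ := Subgroup.card_dvd_of_le hA
    rw [h3] at hc
    exact Or.inl (toral8 H (by omega))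
  · obtain ⟨A, hA, h3⟩ := H.exists_le (n := 4) h2
    exact Or.inr ⟨A, hA, toral16 (H.le hA) h3, h3⟩

end Cfsg.Agent.DS.Nt.P8
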