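import Cfsg.Agent.DS.Nt.P8Tab
import Cfsg.Agent.H230.X3.Comb
import Cfsg.Agent.H387.KKL.P3

/-!
# The box `BoxP8` (helper54): the totally singular 3-spaces of the lattice of `E₈` modulo two

`gr b` : the functional modulo two of the root `b`.

* `exists_gr`, `zero_of_gr`, `eq_of_gr` : singular functionals and roots;
* `coset` : the functionals of the sixteen roots annihilated by a singular 3-space form one coset;
* `key` : a residual involution fixing the space is trivial or moves these roots to orthogonal ones.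
-/

set_option autoImplicit false

namespace Cfsg.Agent.DS.Nt.P8

open CoxeterSystem Cfsg Cfsg.Lie Cfsg.Lie.ChevalleyDatum
open Cfsg.Agent.ChevalleyStructure Cfsg.Agent.ChevalleyStructure.Elts Cfsg.Agent.ChevalleyStructure.CoxeterGeom
  Cfsg.Agent.ChevalleyStructure.CoxeterGeomTypes Cfsg.Agent.ChevalleyStructure.RootVec
open Cfsg.Agent.Tits.Roots Cfsg.Agent.Tits.Core Cfsg.Agent.Nodes Cfsg.Agent.Nodes.RGDChev Cfsg.Agent.Nodes.Coroot
open Cfsg.Agent.H167.KKL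

/-- the Coxeter system -/
local notation "cs₈" => CoxeterMatrix.toCoxeterSystem CoxeterMatrix.E₈

/-- functionals modulo two -/
abbrev Fn : Type := (Fin 8 → ℤ) →+ ZMod 2

theorem bt_cast (x : ℤ) : (x : ZMod 2) = bt (decide (x % 2 ≠ 0)) := by
  rw [← ZMod.intCast_mod x 2]
  rcases Int.emod_two_eq_zero_or_one x with h | h
  · rw [show x % ((2 : ℕ) : ℤ) = 0 from h, h]
    rfl
  · rw [show x % ((2 : ℕ) : ℤ) = 1 from h, h]
    rfl

theorem bt_and : ∀ a b : Bool, bt (a && b) = bt b * bt a := by decide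

theorem bt_xor : ∀ a b : Bool, bt (a ^^ b) = bt a + bt b := by decide

theorem bt_inj : ∀ a b : Bool, bt a = bt b → a = b := by decide

theorem bt_dec : ∀ x : ZMod 2, x = bt (decide (x ≠ 0)) := by decide

theorem fn_apply (f : Fn) (x : Fin 8 → ℤ) : f x = ∑ i, (x i : ZMod 2) * f (sr i) := by
  conv_lhs => rw [SimplyLaced.eq_sum_sr x, map_sum]
  exact Finset.sum_congr rfl fun i _ => by rw [map_zsmul, zsmul_eq_mul]

/-- the mask of a functional -/
def HasM (f : Fn) (F : ℕ) : Prop := F < 256 ∧ ∀ i : Fin 8, f (sr i) = bt (F.testBit i)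

theorem exists_hasM (f : Fn) : ∃ F, HasM f F := by
  obtain ⟨F, h1, h2⟩ := H387.KKL.exists_mask fun i => decide (f (sr i) ≠ 0)
  exact ⟨F, h1, fun i => by rw [h2]; exact bt_dec _⟩

theorem HasM.add {f g : Fn} {F G : ℕ} (h : HasM f F) (h' : HasM g G) : HasM (f + g) (F ^^^ G) :=
  ⟨Nat.xor_lt_two_pow (n := 8) h.1 h'.1, fun i => by
    rw [AddMonoidHom.add_apply, h.2, h'.2, Nat.testBit_xor, bt_xor]⟩

theorem HasM.ext {f g : Fn} {F : ℕ} (h : HasM f F) (h' : HasM g F) : f = g := by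
  refine AddMonoidHom.ext fun x => ?_
  rw [fn_apply f, fn_apply g]
  exact Finset.sum_congr rfl fun i _ => by rw [h.2, h'.2]

theorem HasM.inj {f : Fn} {F G : ℕ} (h : HasM f F) (h' : HasM f G) : F = G := by
  refine Nat.eq_of_testBit_eq fun i => ?_
  rcases Nat.lt_or_ge i 8 with hi | hi
  · exact bt_inj _ _ ((h.2 ⟨i, hi⟩).symm.trans (h'.2 ⟨i, hi⟩))
  · have h1 : 2 ^ 8 ≤ 2 ^ i := Nat.pow_le_pow_right (by norm_num) hi
    rw [Nat.testBit_lt_two_pow (lt_of_lt_of_le h.1 h1), Nat.testBit_lt_two_pow (lt_of_lt_of_le h'.1 h1)]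

theorem HasM.vec {f : Fn} {F : ℕ} (h : HasM f F) {r : ℕ} (hr : r < 240) :
    f (vec chevE8 8 r) = bt (PT.testBit (F &&& mr r)) := by
  rw [fn_apply, ← PT_spec _ (lt_of_le_of_lt Nat.and_le_left h.1)]
  exact Finset.sum_congr rfl fun i _ => by rw [h.2, bt_cast, ← mr_spec r hr, Nat.testBit_and, bt_and]

/-- the functional of a root -/
def gr (b : Fin 8 → ℤ) : Fn where
  toFun x := ((∑ k, x k * pairing (cartanOf chevE8 8) k b : ℤ) : ZMod 2)
  map_zero' := by simp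
  map_add' x y := by
    rw [← Int.cast_add, ← Finset.sum_add_distrib]
    exact congrArg _ (Finset.sum_congr rfl fun k _ => by rw [Pi.add_apply, add_mul])

/-- singular functionals -/
def Sing (f : Fn) : Prop := (Finset.univ.filter fun s : Fin chevE8.nroots => f (vec chevE8 8 s) = 0).card = 112

theorem Sing.sb {f : Fn} (h : Sing f) {F : ℕ} (hF : HasM f F) : SB.testBit F = true := by
  refine tab0 F hF.1 ?_
  rw [sumLT_eq, ← Fin.sum_univ_eq_sum_range (fun r => cond (PT.testBit (F &&& mr r)) 0 1) 240, ← h, Finset.card_filter]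
  refine Finset.sum_congr rfl fun s _ => ?_
  rw [hF.vec s.2]
  cases PT.testBit (F &&& mr s) <;> rfl

variable (hp : IsType chevE8 8 CoxeterMatrix.E₈)

include hp

theorem cpr_sum (x : Fin 8 → ℤ) {b : Fin 8 → ℤ} (hb : IsRoot cs₈ hp.isCartan b) :
    cpr cs₈ hp.isCartan x b = ∑ k, x k * pairing (cartanOf chevE8 8) k b := by
  have := finite_W hp cs₈
  exact SimplyLaced.cpr_eq_sum cs₈ hp.isCartan H230.X3.Comb.no4 H230.X3.Comb.no6 x hb

theorem gr_apply (x : Fin 8 → ℤ) {b : Fin 8 → ℤ} (hb : IsRoot cs₈ hp.isCartan b) :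
    gr b x = (cpr cs₈ hp.isCartan x b : ZMod 2) := by
  rw [cpr_sum hp x hb]
  rfl

theorem hasM_gr {r : ℕ} (hr : r < 240) : HasM (gr (vec chevE8 8 r)) (cr r) := by
  refine ⟨Nat.mod_lt _ (by norm_num), fun i => ?_⟩
  have h1 : ∑ k, (sr i : Fin 8 → ℤ) k * pairing (cartanOf chevE8 8) k (vec chevE8 8 r) = chevE8.cartan i r := by
    rw [Finset.sum_eq_single i (fun j _ hj => by rw [sr_ne hj, zero_mul]) (fun h => absurd (Finset.mem_univ _) h),
      sr_self, one_mul, pairing_vec hp i hr]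
  rw [cr_spec hr, ← bt_cast, ← h1]
  rfl

theorem gr_neg {b : Fin 8 → ℤ} (hb : IsRoot cs₈ hp.isCartan b) : gr (-b) = gr b := by
  have := finite_W hp cs₈
  refine AddMonoidHom.ext fun x => ?_
  rw [gr_apply hp x hb, gr_apply hp x hb.neg, cpr_neg_right cs₈ hp.isCartan x hb, Int.cast_neg, ZMod.neg_eq_self_mod_two]

theorem gr_rep (w : CoxeterMatrix.E₈.Group) {b : Fin 8 → ℤ} (hb : IsRoot cs₈ hp.isCartan b) (x : Fin 8 → ℤ) :
    gr (rep cs₈ hp.isCartan w b) (rep cs₈ hp.isCartan w x) = gr b x := by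
  have := finite_W hp cs₈
  rw [gr_apply hp x hb, gr_apply hp _ (hb.act w), cpr_rep cs₈ hp.isCartan w x hb]

theorem exists_gr {f : Fn} (hf : Sing f) {b : Fin 8 → ℤ} (hb : IsRoot cs₈ hp.isCartan b) (h : f b = 0) :
    ∃ c, IsRoot cs₈ hp.isCartan c ∧ gr c = gr b + f := by
  obtain ⟨r, hr, rfl⟩ := (isRoot_iff hp cs₈ b).1 hb
  obtain ⟨F, hF⟩ := exists_hasM f
  have h1 := (hasM_gr hp hr).add hF
  have h2 := tab1 F hF.1 (hf.sb hF) r hr
  rw [hF.vec hr] at h
  rw [bt_inj _ false h] at h2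
  obtain ⟨h3, h4⟩ := tab2 _ h1.1 (by simpa using h2)
  refine ⟨_, isRoot_vec hp cs₈ h3, HasM.ext ?_ h1⟩
  have h5 := hasM_gr hp h3
  rwa [h4] at h5

theorem zero_of_gr {f : Fn} (hf : Sing f) {b c : Fin 8 → ℤ} (hb : IsRoot cs₈ hp.isCartan b)
    (hc : IsRoot cs₈ hp.isCartan c) (h : gr c = gr b + f) : f b = 0 := by
  obtain ⟨r, hr, rfl⟩ := (isRoot_iff hp cs₈ b).1 hb
  obtain ⟨s, hs, rfl⟩ := (isRoot_iff hp cs₈ c).1 hc
  obtain ⟨F, hF⟩ := exists_hasM f
  have h1 := (hasM_gr hp hr).add hF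
  rw [← h] at h1
  rw [hF.vec hr, tab1 F hF.1 (hf.sb hF) r hr, h1.inj (hasM_gr hp hs), (tab3 s hs).1]
  rfl

theorem eq_of_gr {b c : Fin 8 → ℤ} (hb : IsRoot cs₈ hp.isCartan b) (hc : IsRoot cs₈ hp.isCartan c)
    (h : gr c = gr b) : c = b ∨ c = -b := by
  obtain ⟨r, hr, rfl⟩ := (isRoot_iff hp cs₈ b).1 hb
  obtain ⟨s, hs, rfl⟩ := (isRoot_iff hp cs₈ c).1 hc
  have h1 := hasM_gr hp hr
  rw [← h] at h1
  have h2 := (tab3 r hr).2.1
  rw [h1.inj (hasM_gr hp hs), (tab3 s hs).2.1] at h2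
  have hr' : r < 240 := hr
  have hs' : s < 240 := hs
  rcases (by omega : s = r ∨ s = 239 - r) with h3 | h3
  · exact Or.inl (by rw [h3])
  · exact Or.inr (by rw [h3, ← (tab3 r hr).2.2, vec_neg hp hr])

section Space

variable {ι : Type} [Fintype ι] {f : ι → Fn} (hadd : ∀ i j, ∃ k, f k = f i + f j) (hS : ∀ i, f i ≠ 0 → Sing (f i))

include hadd hS

omit [Fintype ι] in
theorem exists_shift {b : Fin 8 → ℤ} (hb : IsRoot cs₈ hp.isCartan b) (h0 : ∀ j, f j b = 0) (i : ι) :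
    ∃ c, IsRoot cs₈ hp.isCartan c ∧ (∀ j, f j c = 0) ∧ gr c = gr b + f i := by
  have h1 : ∀ k, ∃ c, IsRoot cs₈ hp.isCartan c ∧ gr c = gr b + f k := by
    intro k
    by_cases h : f k = 0
    · exact ⟨b, hb, by rw [h, add_zero]⟩
    · exact exists_gr hp (hS k h) hb (h0 k)
  obtain ⟨c, hc, e⟩ := h1 i
  refine ⟨c, hc, fun j => ?_, e⟩
  by_cases h : f j = 0
  · rw [h]
    rfl
  · obtain ⟨k, hk⟩ := hadd i j
    obtain ⟨d, hd, e'⟩ := h1 k
    exact zero_of_gr hp (hS j h) hc hd (by rw [e', e, hk, add_assoc])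

variable (h8 : Fintype.card ι = 8) (hinj : Function.Injective f)
  (h16 : (Finset.univ.filter fun s : Fin chevE8.nroots => ∀ i, f i (vec chevE8 8 s) = 0).card = 16)

include h8 hinj h16

theorem coset {b c : Fin 8 → ℤ} (hb : IsRoot cs₈ hp.isCartan b) (hb0 : ∀ j, f j b = 0)
    (hc : IsRoot cs₈ hp.isCartan c) (hc0 : ∀ j, f j c = 0) : ∃ i, gr c = gr b + f i := by
  classical
  set S := Finset.univ.filter fun s : Fin chevE8.nroots => ∀ i, f i (vec chevE8 8 s) = 0 with hSd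
  have hm : ∀ d, IsRoot cs₈ hp.isCartan d → (∀ j, f j d = 0) → gr d ∈ S.image fun s : Fin chevE8.nroots => gr (vec chevE8 8 s) := by
    intro d hd hd0
    obtain ⟨r, hr, rfl⟩ := (isRoot_iff hp cs₈ d).1 hd
    exact Finset.mem_image.2 ⟨⟨r, hr⟩, Finset.mem_filter.2 ⟨Finset.mem_univ _, hd0⟩, rfl⟩
  have h1 : 2 * (S.image fun s : Fin chevE8.nroots => gr (vec chevE8 8 s)).card ≤ S.card := by
    refine Finset.mul_card_image_le_card S 2 fun y hy => ?_
    obtain ⟨s, hs, rfl⟩ := Finset.mem_image.1 hy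
    have h2 := isRoot_vec hp cs₈ s.2
    obtain ⟨s', h3⟩ : ∃ s' : Fin chevE8.nroots, vec chevE8 8 s' = -vec chevE8 8 s :=
      let ⟨r, hr, e⟩ := (isRoot_iff hp cs₈ _).1 h2.neg; ⟨⟨r, hr⟩, e⟩
    refine Finset.one_lt_card.2 ⟨s, Finset.mem_filter.2 ⟨hs, rfl⟩, s',
      Finset.mem_filter.2 ⟨Finset.mem_filter.2 ⟨Finset.mem_univ _, fun i => ?_⟩, ?_⟩, fun h => ?_⟩
    · rw [h3, map_neg, (Finset.mem_filter.1 hs).2 i, neg_zero]
    · rw [h3, gr_neg hp h2]
    · rw [← h] at h3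
      exact h2.ne_zero (self_eq_neg.1 h3)
  have h2 : (Finset.univ.image fun i => gr b + f i) = S.image fun s : Fin chevE8.nroots => gr (vec chevE8 8 s) := by
    refine Finset.eq_of_subset_of_card_le (fun y hy => ?_) ?_
    · obtain ⟨i, -, rfl⟩ := Finset.mem_image.1 hy
      obtain ⟨d, hd, hd0, e⟩ := exists_shift hp hadd hS hb hb0 i
      rw [← e]
      exact hm d hd hd0
    · rw [Finset.card_image_of_injective _ fun i j h => hinj (add_left_cancel h), Finset.card_univ, h8]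
      omega
  have h3 := hm c hc hc0
  rw [← h2] at h3
  obtain ⟨i, -, e⟩ := Finset.mem_image.1 h3
  exact ⟨i, e.symm⟩

/-- **A residual involution fixing the space.** -/
theorem key {w : CoxeterMatrix.E₈.Group} (hw : ∀ i x, f i (rep cs₈ hp.isCartan w x) = f i x) (hres : Res hp.isCartan w)
    (hneg : ∀ b, IsRoot cs₈ hp.isCartan b → rep cs₈ hp.isCartan w b = -b → ∃ i, f i b ≠ 0) :
    w = 1 ∨ ∀ b, IsRoot cs₈ hp.isCartan b → (∀ j, f j b = 0) →
      rep cs₈ hp.isCartan w b ≠ b ∧ cpr cs₈ hp.isCartan (rep cs₈ hp.isCartan w b) b = 0 := by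
  have := finite_W hp cs₈
  have hn : ∀ b, IsRoot cs₈ hp.isCartan b → (∀ j, f j b = 0) → rep cs₈ hp.isCartan w b ≠ -b := fun b hb hb0 h => by
    obtain ⟨i, hi⟩ := hneg b hb h
    exact hi (hb0 i)
  by_cases h1 : ∃ b, IsRoot cs₈ hp.isCartan b ∧ (∀ j, f j b = 0) ∧ rep cs₈ hp.isCartan w b = b
  · obtain ⟨b, hb, hb0, e⟩ := h1
    have h2 : ∀ c, IsRoot cs₈ hp.isCartan c → (∀ j, f j c = 0) → rep cs₈ hp.isCartan w c = c := by
      intro c hc hc0
      obtain ⟨i, hi⟩ := coset hp hadd hS h8 hinj h16 hb hb0 hc hc0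
      refine (eq_of_gr hp hc (hc.act w) ?_).resolve_right (hn c hc hc0)
      refine AddMonoidHom.ext fun x => ?_
      rw [← rep_apply_inv cs₈ hp.isCartan w x, gr_rep hp w hc, hi, AddMonoidHom.add_apply, AddMonoidHom.add_apply, hw,
        ← gr_rep hp w hb, e]
    left
    by_contra hne
    obtain ⟨i, hi⟩ := CoxeterSystem.exists_rightDescent_of_ne_one cs₈ hne
    have h3 : rep cs₈ hp.isCartan w (sr i) = -sr i := hres.neg i (nonpos_of_lt cs₈ hp.isCartan w i hi)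
    have h4 : ∀ c, IsRoot cs₈ hp.isCartan c → (∀ j, f j c = 0) → gr c (sr i) = 0 := by
      intro c hc hc0
      have h5 := cpr_rep cs₈ hp.isCartan w (sr i) hc
      rw [h2 c hc hc0, h3, cpr_neg cs₈ hp.isCartan _ hc] at h5
      rw [gr_apply hp _ hc, show cpr cs₈ hp.isCartan (sr i) c = 0 by omega, Int.cast_zero]
    refine hn _ (isRoot_sr _ _ i) (fun j => ?_) h3
    obtain ⟨c, hc, hc0, e'⟩ := exists_shift hp hadd hS hb hb0 j
    have h5 := h4 c hc hc0
    rwa [e', AddMonoidHom.add_apply, h4 b hb hb0, zero_add] at h5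
  · refine Or.inr fun b hb hb0 => ⟨fun h => h1 ⟨b, hb, hb0, h⟩, ?_⟩
    have h2 := SimplyLaced.abs_cpr_le_one cs₈ hp.isCartan H230.X3.Comb.no4 H230.X3.Comb.no6 (hb.act w) hb
      (fun h => h1 ⟨b, hb, hb0, h⟩) (hn b hb hb0)
    have h3 : ∀ j, f j (rep cs₈ hp.isCartan w b) = 0 := fun j => by rw [hw, hb0]
    obtain ⟨i, hi⟩ := coset hp hadd hS h8 hinj h16 (hb.act w) h3 hb hb0
    have h4 := congrArg (fun g : Fn => g (rep cs₈ hp.isCartan w b)) hi
    simp only [AddMonoidHom.add_apply] at h4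
    rw [h3, add_zero, gr_apply hp _ hb, gr_apply hp _ (hb.act w), cpr_self cs₈ hp.isCartan (hb.act w),
      ZMod.intCast_eq_intCast_iff_dvd_sub] at h4
    rw [abs_le] at h2
    omega

end Space

end Cfsg.Agent.DS.Nt.P8
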