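import Cfsg.Agent.DS.Nt.Base
import Cfsg.Agent.ChevalleyStructure.RootCombGood

/-!
# S5881, exceptional groups, the non-toral local case: the tables for the subgroups `J z ≅ SL_r` (helper55)

`ρ a b` (`a ≠ b` in `Fin r`) are the indices of the roots of a subsystem `S₀` of type `A_{r-1}` of
`Ψ = {a | r ∣ a i}`.

* `Tab D l r i ρ cf` : the decidable conditions;
* `Q8` : the classes of the involutions of the torus of `E₈`;
* `rho2`, `rho3` : the tables of roots for `r = 2`, `r = 3`.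
-/

set_option autoImplicit false

namespace Cfsg.Agent.DS.Nt

open Cfsg Cfsg.Lie Cfsg.Lie.ChevalleyDatum
open Cfsg.Agent.ChevalleyStructure Cfsg.Agent.ChevalleyStructure.RootVec Cfsg.Agent.Nodes.RGDChev
open Cfsg.Agent.KFacts.RgdField Cfsg.Agent.KFacts.RgdChevCoord
open Cfsg.Agent.H469.Exc Cfsg.Agent.H129.TorusChar Cfsg.Agent.DS.Ex

/-- pairs `(s, u)`, `u = q + s`, `s ∈ Ψ`, read off the chain table -/
def wit (D : ChevalleyDatum) (r i q : ℕ) : List (ℕ × ℕ) :=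
  (((D.chain.getD q #[]).toList.map fun e => (e.1, (e.2.getD 0 (0, 0)).1)).filter
    fun e => decide ((r : ℤ) ∣ rt D e.1 i)).take (r * r - r + 1)

/-- `q` is one of the roots of the block -/
def InS {r : ℕ} (ρ : Fin r → Fin r → ℕ) (q : ℕ) : Prop := ∃ a b, a ≠ b ∧ q = ρ a b

instance instDecInS {r : ℕ} (ρ : Fin r → Fin r → ℕ) (q : ℕ) : Decidable (InS ρ q) := by
  unfold InS; infer_instance

/-- the roots of the block lie in `Ψ` -/
def TabA (D : ChevalleyDatum) (r i : ℕ) (ρ : Fin r → Fin r → ℕ) : Prop :=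
  ∀ a b, a ≠ b → ρ a b < D.nroots ∧ ρ b a = D.neg (ρ a b) ∧ (r : ℤ) ∣ rt D (ρ a b) i

/-- the other roots of `Ψ` are strongly orthogonal to the block -/
def TabB (D : ChevalleyDatum) (r i : ℕ) (ρ : Fin r → Fin r → ℕ) : Prop :=
  ∀ q < D.nroots, (r : ℤ) ∣ rt D q i → InS ρ q ∨ ∀ a b, a ≠ b → D.commTerms (ρ a b) q = []

/-- the other roots of `Ψ` have many neighbours in `Ψ` -/
def TabC (D : ChevalleyDatum) (r i : ℕ) (ρ : Fin r → Fin r → ℕ) : Prop :=
  ∀ q < D.nroots, (r : ℤ) ∣ rt D q i → InS ρ q ∨ (((wit D r i q).map Prod.fst).Nodup ∧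
    (wit D r i q).length = r * r - r + 1 ∧ ∀ e ∈ wit D r i q, e.1 < D.nroots ∧ e.2 < D.nroots ∧ (r : ℤ) ∣ rt D e.1 i ∧
      ∀ j < D.rank, rt D e.2 j = rt D q j + rt D e.1 j)

/-- the standard element is `∏ h_{e.1}(ζ ^ e.2)`, `e ∈ cf` -/
def TabD (D : ChevalleyDatum) (r i : ℕ) (ρ : Fin r → Fin r → ℕ) (cf : List (ℕ × ℤ)) : Prop :=
  (∀ e ∈ cf, InS ρ e.1) ∧ ∀ j < D.rank,
    (r : ℤ) ∣ (cf.map fun e => e.2 * RootCombGood.car D e.1 (D.simple j)).sum - if j = i then 1 else 0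

instance instDecTabA (D : ChevalleyDatum) (r i : ℕ) (ρ : Fin r → Fin r → ℕ) : Decidable (TabA D r i ρ) := by
  unfold TabA; infer_instance

instance instDecTabB (D : ChevalleyDatum) (r i : ℕ) (ρ : Fin r → Fin r → ℕ) : Decidable (TabB D r i ρ) := by
  unfold TabB; infer_instance

instance instDecTabC (D : ChevalleyDatum) (r i : ℕ) (ρ : Fin r → Fin r → ℕ) : Decidable (TabC D r i ρ) := by
  unfold TabC; infer_instance

instance instDecTabD (D : ChevalleyDatum) (r i : ℕ) (ρ : Fin r → Fin r → ℕ) (cf : List (ℕ × ℤ)) :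
    Decidable (TabD D r i ρ cf) := by
  unfold TabD; infer_instance

/-- all the tables -/
structure Tab (D : ChevalleyDatum) (r i : ℕ) (ρ : Fin r → Fin r → ℕ) (cf : List (ℕ × ℤ)) : Prop where
  a : TabA D r i ρ
  b : TabB D r i ρ
  c : TabC D r i ρ
  d : TabD D r i ρ cf

/-- `r = 2` : the highest root and its negative -/
def rho2 (D : ChevalleyDatum) : Fin 2 → Fin 2 → ℕ := ![![0, D.nroots - 1], ![0, 0]]

/-- `r = 3` : the roots `a`, `b`, `a + b` the highest root -/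
def rho3 (D : ChevalleyDatum) (a b : ℕ) : Fin 3 → Fin 3 → ℕ :=
  ![![0, a, D.nroots - 1], ![D.neg a, 0, b], ![0, D.neg b, 0]]

/-- the classes of the involutions of the torus (for `E₈`, `i = 7`); `vec D l (D.nroots - 1)` is the highest root -/
def Q8 {D : ChevalleyDatum} {l : ℕ} {M : CoxeterMatrix (Fin l)} (hp : IsType D l M) (p : ℕ) [Fact p.Prime]
    (i : Fin l) : Prop :=
  ∀ (ζ : KK p) (t : YY D p), IsPrimitiveRoot ζ 2 → Std hp p ζ i t → ∀ x ∈ TT D (KK p), x ^ 2 = 1 →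
    (cX hp x (vec D l (D.nroots - 1)) = 1 → (dd p (x * t) = 136 ↔ dd p x ≠ 136)) ∧
    (cX hp x (vec D l (D.nroots - 1)) ≠ 1 → (dd p (x * t) = 136 ↔ dd p x = 136))

end Cfsg.Agent.DS.Nt
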