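import Cfsg.Agent.DS.Nt.J2Q8
import Cfsg.Agent.DS.Nt.JTab

/-!
# The box `BoxJ2` (helper98): the hypothesis `Q8`
-/

set_option autoImplicit false

namespace Cfsg.Agent.DS.Nt.J2

open CoxeterSystem Cfsg Cfsg.Lie Cfsg.Lie.ChevalleyDatum
open Cfsg.Agent.ChevalleyStructure Cfsg.Agent.ChevalleyStructure.Elts Cfsg.Agent.ChevalleyStructure.CoxeterGeom
  Cfsg.Agent.ChevalleyStructure.CoxeterGeomTypes
open Cfsg.Agent.Tits.Roots Cfsg.Agent.Tits.Core Cfsg.Agent.Nodes Cfsg.Agent.Nodes.Reps Cfsg.Agent.Nodes.BNOf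
  Cfsg.Agent.Nodes.RGDChev Cfsg.Agent.Nodes.Bruhat

theorem q8_E8 {M : CoxeterMatrix (Fin 8)} (hp : IsType chevE8 8 M) (p : ℕ) [Fact p.Prime] (_h2 : p ≠ 2) : Q8 hp p 7 :=
  fun _ _ hζ ht _ hx hx2 => q8_std hp hζ ht hx hx2

end Cfsg.Agent.DS.Nt.J2
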