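import Cfsg.Agent.DS.Nt.JTwo
import Cfsg.Agent.DS.Nt.JThree
import Cfsg.Agent.DS.Nt.J2E8

/-!
# S5881, the non-toral local case: the boxes `BoxJ2`, `BoxJ3` (helper55, helper98)
-/

set_option autoImplicit false

namespace Cfsg.Agent.DS.Nt

/-- **[J2]** -/
theorem boxJ2 : BoxJ2 := boxJ2_of fun _ hp p _ h2 => J2.q8_E8 hp p h2

end Cfsg.Agent.DS.Nt
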