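import Cfsg.Agent.DS.Nt.Main
import Cfsg.Agent.DS.Nt.JBox
import Cfsg.Agent.DS.Nt.P4
import Cfsg.Agent.DS.Nt.P8

/-!
# S5881, exceptional groups: the non-toral local case (helper86)
-/

set_option autoImplicit false

namespace Cfsg.Agent.DS.Nt

open Cfsg Cfsg.Lie Cfsg.Agent.DS.Ex Cfsg.Agent.ChevalleyStructure Cfsg.Agent.Nodes.RGDChev

/-- **The non-toral case.** -/
theorem boxNonTor : BoxNonTor := boxNonTor_of boxJ2 boxJ3 P4.boxP4 P8.boxP8

/-- **The structure of `E`**, without hypotheses -/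
theorem loc_struct {D : ChevalleyDatum} {l : ℕ} {M : CoxeterMatrix (Fin l)} {hp : IsType D l M} {p : ℕ} [Fact p.Prime]
    {G : Type} [Group G] [Finite G] {S H E : Subgroup G} {L : Lift hp p S} {r : ℕ} (C : Ctx L H) (hL : Loc S H E r)
    (hE : EA p r (im L E)) : OutA L E r ∨ OutB L E r :=
  loc_cases boxJ2 boxJ3 P4.boxP4 P8.boxP8 C hL hE

end Cfsg.Agent.DS.Nt
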