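import Cfsg.Agent.DS.Nt.Inv
import Cfsg.Agent.DS.NT.AC

/-!
# S5881, exceptional groups, the non-toral local case: between `G` and `Y` (helper86)

* `im L E`, `pb L A` : the image in `Y` of a subgroup of `S`, the preimage in `S` of a subgroup of `Y`;
* `Ctx L H` : the hypotheses of the box; `Ctx.noL`, `Ctx.not_toral`, `min_inv`;
* `stepC` : the centraliser of `E` when a toral subgroup of `E` has no roots;
* `stepD` : the centraliser of `E` is abelian when `E` contains elements with a subgroup `J z`.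
-/

set_option autoImplicit false
set_option linter.unusedSectionVars false

namespace Cfsg.Agent.DS.Nt

open CoxeterSystem Cfsg Cfsg.Lie Cfsg.Lie.ChevalleyDatum
open Cfsg.Agent.ChevalleyStructure Cfsg.Agent.ChevalleyStructure.Elts Cfsg.Agent.ChevalleyStructure.CoxeterGeom
  Cfsg.Agent.ChevalleyStructure.CoxeterGeomTypes
open Cfsg.Agent.Tits.Roots Cfsg.Agent.Tits.Core Cfsg.Agent.Nodes Cfsg.Agent.Nodes.Reps Cfsg.Agent.Nodes.BNOf
  Cfsg.Agent.Nodes.RGDChev Cfsg.Agent.Nodes.Bruhat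
open Cfsg.Agent.KFacts.RgdField Cfsg.Agent.KFacts.RgdChevCoord
open Cfsg.Agent.BpExc Cfsg.Agent.BpExc.TorCent Cfsg.Agent.BpExc.TorChev Cfsg.Agent.BpExc.Tow
  Cfsg.Agent.BpExc.TowChev Cfsg.Agent.BpExc.Fr Cfsg.Agent.BpExc.LangFr
open Cfsg.Agent.H469.Exc Cfsg.Agent.H795.SetCent Cfsg.Agent.H129.TorusChar Cfsg.Agent.DS.Ex
open Cfsg.Agent.H185.EE Cfsg.Agent.H931.KC

variable {D : ChevalleyDatum} {l : ℕ} {M : CoxeterMatrix (Fin l)} {hp : IsType D l M} {p : ℕ} [Fact p.Prime]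
  {G : Type} [Group G] [Finite G] {S H E : Subgroup G} (L : Lift hp p S)

/-- the image in `Y` of a subgroup of `S` -/
noncomputable def im (E : Subgroup G) : Subgroup (YY D p) := (E.subgroupOf S).map L.ι

/-- the preimage in `S` of a subgroup of `Y` -/
noncomputable def pb (A : Subgroup (YY D p)) : Subgroup G := (A.comap L.ι).map S.subtype

variable {L}

theorem mem_im {y : YY D p} : y ∈ im L E ↔ ∃ x : S, (x : G) ∈ E ∧ L.ι x = y := Iff.rfl

theorem ι_mem_im {x : S} : L.ι x ∈ im L E ↔ (x : G) ∈ E :=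
  ⟨fun ⟨_, h1, h2⟩ => by rwa [← L.inj h2], fun h => ⟨x, h, rfl⟩⟩

theorem mem_pb {A : Subgroup (YY D p)} {x : G} : x ∈ pb L A ↔ ∃ h : x ∈ S, L.ι ⟨x, h⟩ ∈ A :=
  ⟨fun ⟨y, h1, h2⟩ => by
    subst h2
    exact ⟨y.2, h1⟩, fun ⟨h, h1⟩ => ⟨⟨x, h⟩, h1, rfl⟩⟩

theorem coe_mem_pb {A : Subgroup (YY D p)} {x : S} : (x : G) ∈ pb L A ↔ L.ι x ∈ A :=
  mem_pb.trans ⟨fun ⟨_, h⟩ => h, fun h => ⟨x.2, h⟩⟩

theorem pb_le (A : Subgroup (YY D p)) : pb L A ≤ S := fun _ hx => (mem_pb.1 hx).1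

theorem card_im (hE : E ≤ S) : Nat.card (im L E) = Nat.card E := by
  unfold im
  rw [Subgroup.card_map_of_injective L.inj]
  exact Nat.card_congr (Subgroup.subgroupOfEquivOfLe hE).toEquiv

theorem finite_im (L : Lift hp p S) (E : Subgroup G) : Finite (im L E) :=
  Finite.of_surjective (fun x : E.subgroupOf S => (⟨L.ι x, x, x.2, rfl⟩ : im L E)) (by
    rintro ⟨_, x, hx, rfl⟩
    exact ⟨⟨x, hx⟩, rfl⟩)

theorem im_ne_bot (hE : E ≤ S) (h0 : E ≠ ⊥) : im L E ≠ ⊥ := by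
  intro h
  refine h0 (eq_bot_iff.2 fun x hx => ?_)
  have h1 : L.ι ⟨x, hE hx⟩ ∈ im L E := ι_mem_im.2 hx
  rw [h, Subgroup.mem_bot, ← map_one L.ι] at h1
  exact Subgroup.mem_bot.2 (congrArg Subtype.val (L.inj h1))

theorem isPGroup_im {r : ℕ} (h : IsPGroup r E) : IsPGroup r (im L E) := by
  rintro ⟨_, x, hx, rfl⟩
  obtain ⟨n, hn⟩ := h ⟨x, hx⟩
  refine ⟨n, Subtype.ext ?_⟩
  show L.ι x ^ r ^ n = 1
  have h1 : (x : G) ^ r ^ n = 1 := congrArg Subtype.val hn
  rw [← map_pow, show x ^ r ^ n = 1 from Subtype.ext h1, map_one]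

theorem act' (hS : S.Normal) (φ : L.Γ) (x : S) :
    (φ : MulAut (YY D p)) (L.ι x) = L.ι ⟨L.π φ * x * (L.π φ)⁻¹, hS.conj_mem _ x.2 _⟩ := L.act φ x _ rfl

theorem inv_im (hS : S.Normal) (hH : H ≤ Subgroup.normalizer (E : Set G)) : L.Inv H (im L E) := by
  rintro φ hφ _ ⟨x, hx, rfl⟩
  rw [act' hS]
  exact ι_mem_im.2 ((Subgroup.mem_normalizer_iff.1 (hH hφ) x).1 hx)

theorem norm_pb (hS : S.Normal) {A : Subgroup (YY D p)} (hA : L.Inv H A) :
    H ≤ Subgroup.normalizer (pb L A : Set G) := by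
  refine Red.le_normalizer_of_conj fun g hg x hx => ?_
  obtain ⟨hx1, hx2⟩ := mem_pb.1 hx
  obtain ⟨φ, rfl⟩ := L.surj g
  have h1 := hA φ hg _ hx2
  rw [act' hS] at h1
  exact mem_pb.2 ⟨_, h1⟩

theorem min_inv {r : ℕ} (hL : Loc S H E r) {A : Subgroup (YY D p)} (hA : A ≤ im L E) (hI : L.Inv H A) :
    A = ⊥ ∨ A = im L E := by
  rcases hL.min (pb L A) (fun x hx => by
    obtain ⟨h1, h2⟩ := mem_pb.1 hx
    exact (ι_mem_im (x := ⟨x, h1⟩)).1 (hA h2)) (norm_pb hL.normal hI) with h | h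
  · refine Or.inl (eq_bot_iff.2 fun a ha => ?_)
    obtain ⟨x, -, rfl⟩ := hA ha
    have h1 : (x : G) ∈ pb L A := coe_mem_pb.2 ha
    rw [h, Subgroup.mem_bot] at h1
    rw [show x = 1 from Subtype.ext h1, map_one]
    exact one_mem _
  · refine Or.inr (le_antisymm hA ?_)
    rintro _ ⟨x, hx, rfl⟩
    exact coe_mem_pb.1 (h.ge hx)

theorem π_inv {φ : L.Γ} (h : L.π φ ∈ H) : L.π φ⁻¹ ∈ H := by
  rw [map_inv]
  exact inv_mem h

theorem app_inv (φ : L.Γ) (y : YY D p) : (φ : MulAut (YY D p)) (((φ⁻¹ : L.Γ) : MulAut (YY D p)) y) = y :=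
  MulAut.apply_inv_self _ _ _

theorem inv_app (φ : L.Γ) (y : YY D p) : ((φ⁻¹ : L.Γ) : MulAut (YY D p)) ((φ : MulAut (YY D p)) y) = y :=
  MulAut.inv_apply_self _ _ _

theorem comm_app (φ : L.Γ) {x y : YY D p}
    (h : x * ((φ⁻¹ : L.Γ) : MulAut (YY D p)) y = ((φ⁻¹ : L.Γ) : MulAut (YY D p)) y * x) :
    (φ : MulAut (YY D p)) x * y = y * (φ : MulAut (YY D p)) x := by
  have h1 := congrArg (φ : MulAut (YY D p)) h
  rwa [map_mul, map_mul, app_inv] at h1

theorem inv_closure {O : Set (YY D p)} (h : ∀ φ : L.Γ, L.π φ ∈ H → ∀ z ∈ O, (φ : MulAut (YY D p)) z ∈ O) :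
    L.Inv H (Subgroup.closure O) := by
  intro φ hφ a ha
  have h1 : Subgroup.closure O ≤ (Subgroup.closure O).comap (φ : MulAut (YY D p)).toMonoidHom :=
    (Subgroup.closure_le _).2 fun z hz => Subgroup.subset_closure (h φ hφ z hz)
  exact h1 ha

theorem inv_BB {A : Subgroup (YY D p)} (hA : L.Inv H A) (s : ℕ) : L.Inv H (BB A s) := by
  rintro φ hφ b ⟨h1, h2, h3⟩
  refine ⟨by rw [← map_pow, h1, map_one], fun e he => comm_app φ (h2 _ (hA φ⁻¹ (π_inv hφ) e he)), fun c hc hc' => ?_⟩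
  refine comm_app φ (h3 _ (by rw [← map_pow, hc, map_one]) fun e he => comm_app φ⁻¹ ?_)
  rw [inv_inv]
  exact hc' _ (hA φ hφ e he)

theorem rank_S (hD : Typ D) (L : Lift hp p S) {s : ℕ} (hs : s.Prime) (hsp : s ≠ p) (h2 : s ≠ 2) : NT.RankLe S s 15 := by
  have hW : ¬ s ^ (5 + 1) ∣ Nat.card M.Group := fun h =>
    Rank.not_pow_dvd (N := 696729600) hs [2, 3, 5, 7] Rank.pr_list 14 (by norm_num) (fun a ha e => by
      simp only [List.mem_cons, List.not_mem_nil, or_false] at ha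
      rcases ha with rfl | rfl | rfl | rfl
      · exact absurd e.symm h2
      · norm_num
      · norm_num
      · norm_num) (h.trans (card_W_dvd hp hD))
  have hl : l ≤ 8 := by
    have h := typ_l hp
    rcases hD with e | e | e | e
    · rw [h.1 e]; norm_num
    · rw [h.2.1 e]; norm_num
    · rw [h.2.2.1 e]; norm_num
    · rw [h.2.2.2 e]
  exact Rank.rankLe_mono hs.pos (NT.RankLe.of_inj L.ι L.inj
    (Rank.rank_alg hp (TorAll.hAlg_of_isAlgebraic p _) hs hsp hW)) (by omega)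

/-- the hypotheses of the box -/
structure Ctx (L : Lift hp p S) (H : Subgroup G) : Prop where
  typ : Typ D
  setup : Setup S H
  fr : ∃ g : (Fin l → ℤ) ≃+ (Fin l → ℤ), Fr M.toCoxeterSystem hp.isCartan (TT D (KK p)) (XX D l (KK p)) L.σ g
  noP : ∀ Q : Subgroup G, Q ≤ S → IsPGroup p Q → H ≤ Subgroup.normalizer (Q : Set G) → Q = ⊥
  noT : ∀ A₀ : Subgroup (YY D p), Toral p A₀ → L.Inv H A₀ → A₀ = ⊥

theorem exists_Lp' (p r : ℕ) : ∃ s, Lp p s ∧ r ≠ s := by
  by_cases h1 : p ≠ 11 ∧ r ≠ 11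
  · exact ⟨11, ⟨by norm_num, by norm_num, h1.1.symm⟩, h1.2⟩
  by_cases h2 : p ≠ 13 ∧ r ≠ 13
  · exact ⟨13, ⟨by norm_num, by norm_num, h2.1.symm⟩, h2.2⟩
  exact ⟨17, ⟨by norm_num, by norm_num, by omega⟩, by omega⟩

theorem Ctx.noL (C : Ctx L H) {A : Subgroup (YY D p)} (hA : L.Inv H A) {s : ℕ} (hs : Lp p s) : NoL p A s :=
  noL_of_BB (C.noT _ (toral_BB hp C.typ A hs) (inv_BB hA s))

theorem Ctx.not_toral (C : Ctx L H) {r : ℕ} (hL : Loc S H E r) : ¬ Toral p (im L E) := fun h =>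
  im_ne_bot hL.le_S hL.ne_bot (C.noT _ h (inv_im hL.normal hL.norm.ge))

theorem Ctx.iso' (C : Ctx L H) {r : ℕ} {A : Subgroup (YY D p)} (hI : L.Inv H A) (hA : EA p r A) {e : YY D p}
    (he : e ∈ A) (h1 : e ≠ 1) : ∃ i, hr D l i = r ∧ e ∈ Om hp p r i := by
  obtain ⟨s, hs, hrs⟩ := exists_Lp' p r
  exact iso_of_noL hp C.typ hA hs hrs (C.noL hI hs) he h1

theorem Ctx.iso (C : Ctx L H) {r : ℕ} (hL : Loc S H E r) (hE : EA p r (im L E)) {e : YY D p} (he : e ∈ im L E)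
    (h1 : e ≠ 1) : ∃ i, hr D l i = r ∧ e ∈ Om hp p r i :=
  C.iso' (inv_im hL.normal hL.norm.ge) hE he h1

theorem dd_app {r : ℕ} (h2 : D = chevF4 → p ≠ 2) {A : Subgroup (YY D p)} (hA : EA p r A) (φ : L.Γ) {e : YY D p}
    (he : e ∈ A) : dd p ((φ : MulAut (YY D p)) e) = dd p e := by
  obtain ⟨g, hg, -⟩ := hA.tp e he e he
  exact dd_sfr (L.sfr h2 φ φ.2) hg

/-! ### Step C -/

theorem ι_comm {c : S} (hc : (c : G) ∈ Subgroup.centralizer (E : Set G)) {e : YY D p} (he : e ∈ im L E) :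
    L.ι c * e = e * L.ι c := by
  obtain ⟨x, hx, rfl⟩ := he
  rw [← map_mul, ← map_mul]
  congr 1
  exact Subtype.ext (Subgroup.mem_centralizer_iff.1 hc x hx).symm

/-- **Step C.** -/
theorem stepC {r : ℕ} {A : Subgroup (YY D p)} (hA : EL p r A) (hAE : A ≤ im L E) (hT : Toral p A)
    (hF : Module.finrank (KK p) (Fx p (A : Set (YY D p))) = l) {c : ℕ} (hW : ¬ r ^ (2 ^ c + c) ∣ Nat.card M.Group) :
    derivedSeries ↥(Subgroup.centralizer (E : Set G) ⊓ S) (c + 1) = ⊥ := by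
  have := finW hp
  obtain ⟨P, f, hP, hf⟩ := exists_hom_W hp hA hT hF
  let j : ↥(Subgroup.centralizer (E : Set G) ⊓ S) →* Subgroup.centralizer (A : Set (YY D p)) :=
    (L.ι.comp (Subgroup.inclusion inf_le_right)).codRestrict _ fun x =>
      Subgroup.mem_centralizer_iff.2 fun a ha => by
        have h1 : ((Subgroup.inclusion inf_le_right x : S) : G) ∈ Subgroup.centralizer (E : Set G) := x.2.1
        exact (ι_comm (L := L) h1 (hAE ha)).symm
  have hj : Function.Injective j := fun x y h =>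
    Subgroup.inclusion_injective inf_le_right (L.inj (congrArg Subtype.val h))
  exact derivedSeries_bot_of_hom (f.comp j) (derivedSeries_pgroup hA.prime hP hW) fun x y hx hy =>
    hj (by rw [map_mul, map_mul]; exact hf _ _ hx hy)

/-! ### Step D -/

theorem comm_of_dec {X : Type*} [Group X] {c c' e e' : X} {K : Subgroup X} (h1 : c * e ∈ K) (h2 : c' * e' ∈ K)
    (h3 : c * e' = e' * c) (h4 : c' * e = e * c') (h5 : c' * e' = e' * c') (h6 : e * e' = e' * e) :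
    c * c' * c⁻¹ * c'⁻¹ ∈ K := by
  have a1 : Commute c e' := h3
  have a2 : Commute c' e := h4
  have a3 : Commute c' e' := h5
  have a4 : Commute e e' := h6
  have e1 : (c * e) * (c' * e') = c * c' * (e * e') := by
    rw [mul_assoc, ← mul_assoc e, ← a2.eq]
    group
  have e2 : (c' * e') * (c * e) = c' * c * (e * e') := by
    rw [mul_assoc, ← mul_assoc e', ← a1.eq, a4.eq]
    group
  have e3 : c * c' * c⁻¹ * c'⁻¹ = ((c * e) * (c' * e')) * ((c' * e') * (c * e))⁻¹ := by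
    rw [e1, e2]
    group
  rw [e3]
  exact mul_mem (mul_mem h1 h2) (inv_mem (mul_mem h2 h1))

/-- the output of Step D; `Ω` is the set of the elements `z` of `im L E` with `dd p z = d` -/
structure DOut (L : Lift hp p S) (E : Subgroup G) (r d : ℕ) (J : YY D p → Subgroup (YY D p)) : Prop where
  comm : ∀ x ∈ Subgroup.centralizer (E : Set G) ⊓ S, ∀ y ∈ Subgroup.centralizer (E : Set G) ⊓ S, x * y = y * x
  pow : ∀ x ∈ Subgroup.centralizer (E : Set G) ⊓ S, x ^ r = 1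
  clo : Subgroup.closure {z | z ∈ im L E ∧ dd p z = d} = im L E
  idx : ∀ z ∈ im L E, dd p z = d → (Subgroup.centralizer (J z : Set (YY D p))).relIndex (im L E) = r ^ 2
  dec : ∀ z ∈ im L E, dd p z = d → ∀ c : YY D p, (∀ e ∈ im L E, c * e = e * c) →
    ∃ e ∈ im L E, c * e ∈ Subgroup.centralizer (J z : Set (YY D p))
  ker : ∀ x : S, (∀ e ∈ im L E, e * L.ι x = L.ι x * e) →
    (∀ z ∈ im L E, dd p z = d → L.ι x ∈ Subgroup.centralizer (J z : Set (YY D p))) → x = 1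

/-- **Step D.** -/
theorem stepD (C : Ctx L H) {r : ℕ} (hL : Loc S H E r) (hE : EA p r (im L E)) (h2 : D = chevF4 → p ≠ 2) {i : Fin l}
    {J : YY D p → Subgroup (YY D p)} (hJ : JS hp p r i J) {d : ℕ}
    (hd : ∀ e ∈ im L E, e ∈ Om hp p r i ↔ dd p e = d) (hne : ∃ e ∈ im L E, dd p e = d) : DOut L E r d J := by
  have hS := hL.normal
  have hI : L.Inv H (im L E) := inv_im hS hL.norm.ge
  obtain ⟨s, hs, -⟩ := exists_Lp' p r
  have hN := C.noL hI hs
  have hO : ∀ φ : L.Γ, L.π φ ∈ H → ∀ z, z ∈ im L E ∧ dd p z = d →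
      (φ : MulAut (YY D p)) z ∈ im L E ∧ dd p ((φ : MulAut (YY D p)) z) = d :=
    fun φ hφ z hz => ⟨hI φ hφ z hz.1, by rw [dd_app h2 hE φ hz.1, hz.2]⟩
  have hcl : ∀ O : Set (YY D p), (∀ z ∈ O, z ∈ im L E ∧ dd p z = d) → O.Nonempty →
      (∀ φ : L.Γ, L.π φ ∈ H → ∀ z ∈ O, (φ : MulAut (YY D p)) z ∈ O) → Subgroup.closure O = im L E := by
    rintro O h1 ⟨z, hz⟩ h3
    refine (min_inv hL ((Subgroup.closure_le _).2 fun y hy => (h1 y hy).1) (inv_closure h3)).resolve_left fun h4 => ?_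
    have h5 : z ∈ Subgroup.closure O := Subgroup.subset_closure hz
    rw [h4, Subgroup.mem_bot] at h5
    have h6 := (hd z (h1 z hz).1).2 (h1 z hz).2
    rw [h5] at h6
    exact one_not_mem_Om hE.prime h6
  have hcen : ∀ φ : L.Γ, L.π φ ∈ H → ∀ z, z ∈ im L E ∧ dd p z = d → ∀ c : YY D p,
      c ∈ Subgroup.centralizer (J (((φ⁻¹ : L.Γ) : MulAut (YY D p)) z) : Set (YY D p)) →
      (φ : MulAut (YY D p)) c ∈ Subgroup.centralizer (J z : Set (YY D p)) := by
    intro φ hφ z hz c hc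
    refine Subgroup.mem_centralizer_iff.2 fun j hj => (comm_app φ ?_).symm
    have h3 := hO φ⁻¹ (π_inv hφ) z hz
    exact (Subgroup.mem_centralizer_iff.1 hc _ (hJ.inv _ (L.sfr h2 _ (φ⁻¹).2) z ((hd z hz.1).2 hz.2)
      ((hd _ h3.1).2 h3.2) j hj)).symm
  -- `E` does not centralise `J z`
  have hnc : ∀ z ∈ im L E, dd p z = d → ¬ im L E ≤ Subgroup.centralizer (J z : Set (YY D p)) := by
    intro z hz hz' h3
    have h4 := hcl {z | (z ∈ im L E ∧ dd p z = d) ∧ im L E ≤ Subgroup.centralizer (J z : Set (YY D p))}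
      (fun y hy => hy.1) ⟨z, ⟨hz, hz'⟩, h3⟩ fun φ hφ y hy => ⟨hO φ hφ y hy.1, fun e he => by
        rw [← app_inv φ e]
        refine hcen φ hφ _ (hO φ hφ y hy.1) _ ?_
        rw [inv_app]
        exact hy.2 (hI φ⁻¹ (π_inv hφ) e he)⟩
    refine C.not_toral hL (toral_of_gen hp hE.el h4 fun y hy K hK => ?_)
    have h5 := (hd y hy.1.1).2 hy.1.2
    exact hJ.gen y h5 K (fun u hu hu' => hK u (fun e he => Subgroup.mem_centralizer_iff.1 (hy.2 he) u hu) hu')
      (hJ.mem y h5)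
  have hdi := fun z hz hz' => hJ.dich s hs _ hE hN z hz ((hd z hz).2 hz') (hnc z hz hz')
  -- the kernel
  let K : Subgroup (YY D p) := Subgroup.centralizer (im L E : Set (YY D p)) ⊓
    ⨅ z : {z // z ∈ im L E ∧ dd p z = d}, Subgroup.centralizer (J z : Set (YY D p))
  have hK : ∀ c, c ∈ K ↔ (∀ e ∈ im L E, e * c = c * e) ∧
      ∀ z ∈ im L E, dd p z = d → c ∈ Subgroup.centralizer (J z : Set (YY D p)) := fun c => by
    rw [Subgroup.mem_inf, Subgroup.mem_iInf]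
    exact and_congr Iff.rfl ⟨fun h z hz hz' => h ⟨z, hz, hz'⟩, fun h z => h z z.2.1 z.2.2⟩
  have hKI : L.Inv H K := fun φ hφ c hc => by
    rw [hK] at hc ⊢
    refine ⟨fun e he => (comm_app φ (hc.1 _ (hI φ⁻¹ (π_inv hφ) e he)).symm).symm, fun z hz hz' => ?_⟩
    have h3 := hO φ⁻¹ (π_inv hφ) z ⟨hz, hz'⟩
    exact hcen φ hφ z ⟨hz, hz'⟩ c (hc.2 _ h3.1 h3.2)
  have hK0 : pb L K = ⊥ := by
    by_contra h0
    have hKS : pb L K ≠ S := fun h => hL.ne_bot (eq_bot_iff.2 fun x hx => by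
      rw [← hL.cent]
      refine Subgroup.mem_centralizer_iff.2 fun y hy => ?_
      have h3 := ((hK _).1 ((coe_mem_pb (x := ⟨y, hy⟩)).1 (h.ge hy))).1 _ ((ι_mem_im (x := ⟨x, hL.le_S hx⟩)).2 hx)
      rw [← map_mul, ← map_mul] at h3
      exact (congrArg Subtype.val (L.inj h3)).symm)
    have hNK := Gen.normalizer_eq_of_setup hL.toSetup (pb_le K) h0 hKS (norm_pb hS hKI)
    obtain ⟨z, hz, hz'⟩ := hne
    have hzO := (hd z hz).2 hz'
    obtain ⟨g, hg⟩ := C.fr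
    obtain ⟨u, huJ, hu, ⟨n, hn⟩, huc⟩ := hJ.fix L.σ L.e g L.he L.frob hg z hzO (by
      obtain ⟨x, -, rfl⟩ := hz
      exact L.fix x)
    obtain ⟨v, rfl⟩ := L.pel u hu ⟨n, hn⟩
    have hv : (v : G) ∈ H := by
      rw [← hNK]
      refine Subgroup.centralizer_le_normalizer _ (Subgroup.mem_centralizer_iff.2 fun x hx => ?_)
      obtain ⟨hx1, hx2⟩ := mem_pb.1 hx
      have h3 := Subgroup.mem_centralizer_iff.1 (((hK _).1 hx2).2 z hz hz') _ huJ
      rw [← map_mul, ← map_mul] at h3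
      exact (congrArg Subtype.val (L.inj h3)).symm
    obtain ⟨d1, d2, -⟩ := hdi z hz hz'
    have hco : Nat.Coprime (p ^ n) r :=
      Nat.Coprime.pow_left n ((Nat.coprime_primes Fact.out hE.prime).2 hE.ne.symm)
    have huE : ∀ e ∈ im L E, L.ι v * e = e * L.ι v := by
      intro e he
      have h3 : L.ι v * e * (L.ι v)⁻¹ ∈ im L E := by
        obtain ⟨x, hx, rfl⟩ := he
        rw [← map_inv, ← map_mul, ← map_mul]
        exact ι_mem_im.2 ((Subgroup.mem_normalizer_iff.1 (hL.norm.ge hv) x).1 hx)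
      have e1 : MulAut.conj e z = z := by
        rw [MulAut.conj_apply, hE.comm e he z hz, mul_inv_cancel_right]
      have h4 : e * (L.ι v)⁻¹ * e⁻¹ ∈ J z := by
        have h5 := hJ.inv (MulAut.conj e) (sfr_conj hp e) z hzO (by rwa [e1]) _ (inv_mem huJ)
        rwa [e1] at h5
      obtain ⟨k, hk⟩ : ∃ k, k = L.ι v * e * (L.ι v)⁻¹ * e⁻¹ := ⟨_, rfl⟩
      have h5 : k ∈ im L E := hk ▸ mul_mem h3 (inv_mem he)
      have h6 : k ∈ J z := by
        rw [hk, mul_assoc, mul_assoc, ← mul_assoc e]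
        exact mul_mem huJ h4
      have h7 : Commute (L.ι v) k := Subgroup.mem_centralizer_iff.1 (d2 k h5 h6) _ huJ
      have h8 : ∀ j : ℕ, L.ι v ^ j * e = k ^ j * e * L.ι v ^ j := by
        intro j
        induction j with
        | zero => rw [pow_zero, pow_zero, one_mul, mul_one]
        | succ j ih =>
          have e2 : L.ι v * e = k * e * L.ι v := by
            rw [hk]
            group
          rw [pow_succ', mul_assoc, ih, ← mul_assoc, ← mul_assoc, (h7.pow_right j).eq, mul_assoc (k ^ j), e2, pow_succ]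
          group
      have h9 := h8 (p ^ n)
      rw [hn, one_mul, mul_one] at h9
      have h10 : k ∈ (⊥ : Subgroup (YY D p)) := mem_of_pow_coprime (a := p ^ n) (b := r)
        (Subgroup.mem_bot.2 (mul_right_cancel (h9.symm.trans (one_mul e).symm))) (Subgroup.mem_bot.2 (hE.pow k h5)) hco
      rw [Subgroup.mem_bot, hk, mul_inv_eq_one, mul_inv_eq_iff_eq_mul] at h10
      exact h10
    obtain ⟨e, he, h3⟩ := d1 _ huE
    refine huc (mem_of_pow_coprime (a := p ^ n) (b := r) (by rw [hn]; exact one_mem _) ?_ hco)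
    have h4 := pow_mem h3 r
    rwa [(show Commute _ _ from huE e he).mul_pow, hE.pow e he, mul_one] at h4
  have hK1 : ∀ x : S, L.ι x ∈ K → x = 1 := fun x hx => by
    have h3 := coe_mem_pb.2 hx
    rw [hK0, Subgroup.mem_bot] at h3
    exact Subtype.ext h3
  refine ⟨fun x hx y hy => ?_, fun x hx => ?_, hcl _ (fun _ h => h) hne hO, fun z hz hz' => (hdi z hz hz').2.2,
    fun z hz hz' => (hdi z hz hz').1, fun x h3 h4 => hK1 x ((hK _).2 ⟨h3, h4⟩)⟩
  · have hx' := fun e he => ι_comm (L := L) (c := ⟨x, hx.2⟩) hx.1 (e := e) he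
    have hy' := fun e he => ι_comm (L := L) (c := ⟨y, hy.2⟩) hy.1 (e := e) he
    have h3 := hK1 (⟨x, hx.2⟩ * ⟨y, hy.2⟩ * ⟨x, hx.2⟩⁻¹ * ⟨y, hy.2⟩⁻¹) (by
      rw [map_mul, map_mul, map_mul, map_inv, map_inv, hK]
      refine ⟨fun e he => ?_, fun z hz hz' => ?_⟩
      · have a1 : Commute e _ := (hx' e he).symm
        have a2 : Commute e _ := (hy' e he).symm
        exact ((a1.mul_right a2).mul_right a1.inv_right).mul_right a2.inv_right
      · obtain ⟨e, he, a1⟩ := (hdi z hz hz').1 _ hx'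
        obtain ⟨e', he', a2⟩ := (hdi z hz hz').1 _ hy'
        exact comm_of_dec a1 a2 (hx' e' he') (hy' e he) (hy' e' he') (hE.comm e he e' he'))
    rw [mul_inv_eq_one, mul_inv_eq_iff_eq_mul] at h3
    exact congrArg Subtype.val h3
  · have hx' := fun e he => ι_comm (L := L) (c := ⟨x, hx.2⟩) hx.1 (e := e) he
    have h3 := hK1 (⟨x, hx.2⟩ ^ r) (by
      rw [map_pow, hK]
      refine ⟨fun e he => (show Commute e _ from (hx' e he).symm).pow_right r, fun z hz hz' => ?_⟩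
      obtain ⟨e, he, a1⟩ := (hdi z hz hz').1 _ hx'
      have a2 := pow_mem a1 r
      rwa [(show Commute _ _ from hx' e he).mul_pow, hE.pow e he, mul_one] at a2)
    exact congrArg Subtype.val h3

theorem DOut.rad {r d : ℕ} {J : YY D p → Subgroup (YY D p)} (h : DOut L E r d J) (hE : EA p r (im L E)) :
    ∀ x ∈ im L E, (∀ z ∈ im L E, dd p z = d → x ∈ Subgroup.centralizer (J z : Set (YY D p))) → x = 1 := by
  rintro _ ⟨x, hx, rfl⟩ h3
  rw [h.ker x (fun e he => hE.comm e he _ ⟨x, hx, rfl⟩) h3, map_one]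

end Cfsg.Agent.DS.Nt
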