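import Cfsg.Agent.H931.KC.Alcove

/-!
# The box `BoxJ2` (helper98): the table of the involutions of the torus of `E₈`
-/

set_option autoImplicit false
set_option maxRecDepth 100000

namespace Cfsg.Agent.DS.Nt.J2

open Cfsg Cfsg.Lie Cfsg.Agent.Nodes.RGDChev Cfsg.Agent.H931.KC

/-- the parities of the coefficients of the roots of `E₈`, one byte for each root -/
def mkN : ℕ := 30725595737043606787277313515037065281930860522430620594316713320445535534339729861787196554086893503217824966469915497072120451528495434523772744372940803820888507478777545665828183324293972163240195432758267732928560604481528932460445178742089605189633340087337123349461967563060541651125948829996898323434284337382519244698710122866709185693038020368026233769655178935015736783311855512023492706553582764749549722539756129118064117648989390586094730269676167874213588389300533665552090349993346475952896261360481112691148376863893037076659980198583052506897239145344975163986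

/-- the byte of the root `s` -/
def mk8 (s : ℕ) : ℕ := mkN / 256 ^ s % 256

/-- the binary digit -/
def bt (c i : ℕ) : ℕ := c / 2 ^ i % 2

theorem mk8_ok : ∀ s : Fin 240, ∀ i : Fin 8, vec chevE8 8 s i % 2 = (bt (mk8 s) i : ℤ) := by decide +kernel

/-- the product of the binary digits -/
def dot (a c : ℕ) : ℕ := bt a 0 * bt c 0 + bt a 1 * bt c 1 + bt a 2 * bt c 2 + bt a 3 * bt c 3 + bt a 4 * bt c 4 +
  bt a 5 * bt c 5 + bt a 6 * bt c 6 + bt a 7 * bt c 7

/-- the number of roots trivial on the element `c` -/
def n0 (c : ℕ) : ℕ := (Finset.univ.filter fun s : Fin 240 => dot (mk8 s) c % 2 = 0).card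

/-- the number of roots trivial on the product of the element `c` and the standard element -/
def n1 (c : ℕ) : ℕ := (Finset.univ.filter fun s : Fin 240 => (dot (mk8 s) c + bt (mk8 s) 7) % 2 = 0).card

theorem tab8 : ∀ c : Fin 256, (dot (mk8 239) c % 2 = 0 → (n1 c = 128 ↔ n0 c ≠ 128)) ∧
    (dot (mk8 239) c % 2 ≠ 0 → (n1 c = 128 ↔ n0 c = 128)) := by decide +kernel

end Cfsg.Agent.DS.Nt.J2
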