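import Cfsg.Agent.DS.Nt.Base
import Cfsg.Agent.DS.Nt.J2Tab

/-!
# The box `BoxJ2` (helper98): the classes of the involutions of `E₈`

* `cen_Sup_iff` : an element of the torus centralises `Sup X S` iff its character is trivial on `S`;
* `q8_std` : the statement `q8` for the standard element and an involution of the torus.
-/

set_option autoImplicit false
set_option linter.unusedSectionVars false

namespace Cfsg.Agent.DS.Nt.J2

open CoxeterSystem Cfsg Cfsg.Lie Cfsg.Lie.ChevalleyDatum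
open Cfsg.Agent.ChevalleyStructure Cfsg.Agent.ChevalleyStructure.Elts Cfsg.Agent.ChevalleyStructure.CoxeterGeom
  Cfsg.Agent.ChevalleyStructure.CoxeterGeomTypes
open Cfsg.Agent.Tits.Roots Cfsg.Agent.Tits.Core Cfsg.Agent.Nodes Cfsg.Agent.Nodes.Reps Cfsg.Agent.Nodes.BNOf
  Cfsg.Agent.Nodes.RGDChev Cfsg.Agent.Nodes.Bruhat
open Cfsg.Agent.KFacts.RgdField Cfsg.Agent.KFacts.RgdChevCoord
open Cfsg.Agent.BpExc Cfsg.Agent.BpExc.TorCent Cfsg.Agent.BpExc.TorChev Cfsg.Agent.BpExc.Tow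
  Cfsg.Agent.BpExc.TowChev Cfsg.Agent.BpExc.Fr Cfsg.Agent.BpExc.LangFr
open Cfsg.Agent.H469.Exc Cfsg.Agent.H795.SetCent Cfsg.Agent.H129.TorusChar Cfsg.Agent.DS.Ex
open Cfsg.Agent.H931.KC

section

variable {D : ChevalleyDatum} {l : ℕ} {M : CoxeterMatrix (Fin l)} {hp : IsType D l M} {p : ℕ} [Fact p.Prime]

/-- an element of the torus centralises the root groups of `S` iff its character is trivial on `S` -/
theorem cen_Sup_iff {S : Set (Fin l → ℤ)} (hS : ∀ a ∈ S, IsRoot M.toCoxeterSystem hp.isCartan a) {x : YY D p}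
    (hx : x ∈ TT D (KK p)) :
    x ∈ Subgroup.centralizer (RGD.Sup (XX D l (KK p)) S : Set (YY D p)) ↔ ∀ a ∈ S, cX hp x a = 1 := by
  constructor
  · intro h a ha
    exact cX_eq_one_of_comm hx (hS a ha) one_ne_zero
      (Subgroup.mem_centralizer_iff.1 h _ (RGD.le_Sup ha (xc_mem (hS a ha) 1))).symm
  · intro h
    have h1 : RGD.Sup (XX D l (KK p)) S ≤ Subgroup.centralizer {x} := RGD.Sup_le fun a ha y hy =>
      Subgroup.mem_centralizer_singleton_iff.2 (comm_X hx (hS a ha) (h a ha) hy).symm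
    exact Subgroup.mem_centralizer_iff.2 fun y hy => Subgroup.mem_centralizer_singleton_iff.1 (h1 hy)

theorem eq_neg_one {k : Type*} [Field k] {ζ : k} (hζ : IsPrimitiveRoot ζ 2) : ζ = -1 := hζ.eq_neg_one_of_two_right

/-- the character of an involution of the torus -/
theorem exists_bits {ζ : KK p} (hζ : IsPrimitiveRoot ζ 2) {x : YY D p} (hx : x ∈ TT D (KK p)) (hx2 : x ^ 2 = 1) :
    ∃ b : Fin l → ℕ, (∀ i, b i < 2) ∧ ∀ v, cX hp x v = ζ ^ psi (fun i => (b i : ℤ)) v := by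
  have h1 : ∀ i, ∃ b : ℕ, b < 2 ∧ cX hp x (sr i) = ζ ^ b := by
    intro i
    have h2 : cX hp x (sr i) ^ 2 = 1 := by rw [← cX_pow hp hx, hx2, cX_one]
    obtain ⟨b, hb, e⟩ := hζ.eq_pow_of_pow_eq_one h2
    exact ⟨b, hb, e.symm⟩
  choose b hb e using h1
  refine ⟨b, hb, (isMC_cX hp hx).ext (isMC_zpow (hζ.ne_zero two_ne_zero) _) fun i => ?_⟩
  rw [psi_sr, zpow_natCast, e]

end

theorem exists_byte (b : Fin 8 → ℕ) (hb : ∀ i, b i < 2) : ∃ c : Fin 256, ∀ i : Fin 8, bt c i = b i := by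
  have h0 := hb 0
  have h1 := hb 1
  have h2 := hb 2
  have h3 := hb 3
  have h4 := hb 4
  have h5 := hb 5
  have h6 := hb 6
  have h7 := hb 7
  refine ⟨⟨b 0 + 2 * b 1 + 4 * b 2 + 8 * b 3 + 16 * b 4 + 32 * b 5 + 64 * b 6 + 128 * b 7, by omega⟩, fun i => ?_⟩
  fin_cases i
  · show (b 0 + 2 * b 1 + 4 * b 2 + 8 * b 3 + 16 * b 4 + 32 * b 5 + 64 * b 6 + 128 * b 7) / 1 % 2 = b 0
    omega
  · show (b 0 + 2 * b 1 + 4 * b 2 + 8 * b 3 + 16 * b 4 + 32 * b 5 + 64 * b 6 + 128 * b 7) / 2 % 2 = b 1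
    omega
  · show (b 0 + 2 * b 1 + 4 * b 2 + 8 * b 3 + 16 * b 4 + 32 * b 5 + 64 * b 6 + 128 * b 7) / 4 % 2 = b 2
    omega
  · show (b 0 + 2 * b 1 + 4 * b 2 + 8 * b 3 + 16 * b 4 + 32 * b 5 + 64 * b 6 + 128 * b 7) / 8 % 2 = b 3
    omega
  · show (b 0 + 2 * b 1 + 4 * b 2 + 8 * b 3 + 16 * b 4 + 32 * b 5 + 64 * b 6 + 128 * b 7) / 16 % 2 = b 4
    omega
  · show (b 0 + 2 * b 1 + 4 * b 2 + 8 * b 3 + 16 * b 4 + 32 * b 5 + 64 * b 6 + 128 * b 7) / 32 % 2 = b 5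
    omega
  · show (b 0 + 2 * b 1 + 4 * b 2 + 8 * b 3 + 16 * b 4 + 32 * b 5 + 64 * b 6 + 128 * b 7) / 64 % 2 = b 6
    omega
  · show (b 0 + 2 * b 1 + 4 * b 2 + 8 * b 3 + 16 * b 4 + 32 * b 5 + 64 * b 6 + 128 * b 7) / 128 % 2 = b 7
    omega

theorem dot_eq (a c : ℕ) : dot a c = ∑ i : Fin 8, bt a i * bt c i := by
  rw [Fin.sum_univ_eight]
  rfl

theorem vec_modEq (s : Fin 240) (i : Fin 8) : vec chevE8 8 s i ≡ (bt (mk8 s) i : ℤ) [ZMOD 2] := by
  have h := mk8_ok s i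
  unfold Int.ModEq
  rw [← h, Int.emod_emod]

theorem psi_modEq (c : ℕ) (s : Fin 240) :
    psi (fun i : Fin 8 => (bt c i : ℤ)) (vec chevE8 8 s) ≡ (dot (mk8 s) c : ℤ) [ZMOD 2] := by
  rw [psi_apply, dot_eq, Nat.cast_sum]
  refine Int.ModEq.sum fun i _ => ?_
  rw [Nat.cast_mul]
  exact (vec_modEq s i).mul_right _

theorem dvd_iff_of_modEq {x : ℤ} {n : ℕ} (h : x ≡ (n : ℤ) [ZMOD 2]) : ((2 : ℕ) : ℤ) ∣ x ↔ n % 2 = 0 := by
  unfold Int.ModEq at h
  omega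

/-- **The classes of the involutions of the torus of `E₈`.** -/
theorem q8_std {M : CoxeterMatrix (Fin 8)} (hp : IsType chevE8 8 M) {p : ℕ} [Fact p.Prime] {ζ : KK p}
    (hζ : IsPrimitiveRoot ζ 2) {t x : YY chevE8 p} (ht : Std hp p ζ 7 t) (hx : x ∈ TT chevE8 (KK p)) (hx2 : x ^ 2 = 1) :
    (cX hp x (hr chevE8 8) = 1 → (dd p (x * t) = 136 ↔ dd p x ≠ 136)) ∧
    (cX hp x (hr chevE8 8) ≠ 1 → (dd p (x * t) = 136 ↔ dd p x = 136)) := by
  obtain ⟨b, hb, e⟩ := exists_bits (hp := hp) hζ hx hx2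
  obtain ⟨c, hc⟩ := exists_byte b hb
  have hb' : (fun i : Fin 8 => (b i : ℤ)) = fun i : Fin 8 => (bt c i : ℤ) := funext fun i => by rw [hc]
  rw [hb'] at e
  have h0 : dd p x = 8 + n0 c := by
    rw [dd_tor_zpow hp hx hζ e]
    congr 1
    unfold n0
    exact congrArg Finset.card (Finset.filter_congr fun s _ => dvd_iff_of_modEq (psi_modEq c s))
  have h1 : dd p (x * t) = 8 + n1 c := by
    rw [dd_tor_zpow hp (mul_mem hx ht.1) hζ (f := fun v => psi (fun i : Fin 8 => (bt c i : ℤ)) v + v 7) fun v => by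
      rw [cX_mul hp hx ht.1, e, ht.2, zpow_add₀ (hζ.ne_zero two_ne_zero)]]
    congr 1
    unfold n1
    refine congrArg Finset.card (Finset.filter_congr fun s _ => dvd_iff_of_modEq ?_)
    rw [Nat.cast_add]
    exact (psi_modEq c s).add (vec_modEq s 7)
  have h2 : cX hp x (hr chevE8 8) = 1 ↔ dot (mk8 239) c % 2 = 0 := by
    rw [e, hζ.zpow_eq_one_iff_dvd]
    exact dvd_iff_of_modEq (psi_modEq c 239)
  have h3 := tab8 c
  rw [h0, h1, Ne, Ne, h2]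
  omega

theorem cen_conj_iff {G : Type*} [Group G] {J J0 : Subgroup G} {g : G} (h : ∀ y, y ∈ J ↔ g * y * g⁻¹ ∈ J0) (x : G) :
    x ∈ Subgroup.centralizer (J : Set G) ↔ g * x * g⁻¹ ∈ Subgroup.centralizer (J0 : Set G) := by
  rw [Subgroup.mem_centralizer_iff, Subgroup.mem_centralizer_iff]
  constructor
  · intro h1 y hy
    have h2 := h1 (g⁻¹ * y * g) ((h _).2 (by
      have e : g * (g⁻¹ * y * g) * g⁻¹ = y := by group
      rwa [e]))
    calc y * (g * x * g⁻¹) = g * (g⁻¹ * y * g * x) * g⁻¹ := by group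
      _ = g * (x * (g⁻¹ * y * g)) * g⁻¹ := by rw [h2]
      _ = _ := by group
  · intro h1 y hy
    have h2 := h1 _ ((h y).1 hy)
    calc y * x = g⁻¹ * (g * y * g⁻¹ * (g * x * g⁻¹)) * g := by group
      _ = g⁻¹ * (g * x * g⁻¹ * (g * y * g⁻¹)) * g := by rw [h2]
      _ = _ := by group

/-- **The field `q8` of `JS`**: `J z` is the conjugate of a group `J0` which is centralised exactly by the elements of the
torus with trivial character on the highest root. -/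
theorem q8_of {D : ChevalleyDatum} {l : ℕ} {M : CoxeterMatrix (Fin l)} (hp : IsType D l M) {p : ℕ} [Fact p.Prime]
    {i : Fin l} (hi : D = chevE8 → i.val = 7) {J : YY D p → Subgroup (YY D p)} {J0 : Subgroup (YY D p)}
    (hJ0 : ∀ x ∈ TT D (KK p), x ∈ Subgroup.centralizer (J0 : Set (YY D p)) ↔ cX hp x (hr D l) = 1)
    (hJ : ∀ (z g : YY D p) (ζ : KK p), IsPrimitiveRoot ζ 2 → Std hp p ζ i (g * z * g⁻¹) →
      ∀ y, y ∈ J z ↔ g * y * g⁻¹ ∈ J0) (hD : D = chevE8) :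
    ∀ z ∈ Om hp p 2 i, ∀ x : YY D p, x ^ 2 = 1 → Tp p z x →
      (x ∈ Subgroup.centralizer (J z : Set (YY D p)) → (dd p (x * z) = 136 ↔ dd p x ≠ 136)) ∧
      (x ∉ Subgroup.centralizer (J z : Set (YY D p)) → (dd p (x * z) = 136 ↔ dd p x = 136)) := by
  intro z hz x hx2 hzx
  have hi' := hi hD
  subst hD
  obtain rfl := (typ_l hp).2.2.2 rfl
  obtain rfl : i = 7 := Fin.ext hi'
  obtain ⟨g, ζ, hζ, hs, hx⟩ := exists_std_pair hz hzx
  have h1 := q8_std hp hζ hs hx (by rw [conj_pow, hx2, mul_one, mul_inv_cancel])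
  have e : g * x * g⁻¹ * (g * z * g⁻¹) = g * (x * z) * g⁻¹ := by group
  rw [e, dd_conj, dd_conj, Ne, Ne, ← hJ0 _ hx, ← cen_conj_iff (hJ z g ζ hζ hs)] at h1
  exact h1

/-- the hypothesis `hJ0` of `q8_of` -/
theorem cen_hr_iff {D : ChevalleyDatum} {l : ℕ} {M : CoxeterMatrix (Fin l)} (hp : IsType D l M) {p : ℕ} [Fact p.Prime]
    {S : Set (Fin l → ℤ)} (hS : ∀ a, a ∈ S ↔ a = hr D l ∨ a = -hr D l) {x : YY D p} (hx : x ∈ TT D (KK p)) :
    x ∈ Subgroup.centralizer (RGD.Sup (XX D l (KK p)) S : Set (YY D p)) ↔ cX hp x (hr D l) = 1 := by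
  obtain ⟨Bm, hv, v, C, H⟩ := exists_ok hp
  have h1 := isRoot_hr hp H
  rw [cen_Sup_iff (hp := hp) (fun a ha => by
    rcases (hS a).1 ha with rfl | rfl
    exacts [h1, h1.neg]) hx]
  refine ⟨fun h => h _ ((hS _).2 (Or.inl rfl)), fun h a ha => ?_⟩
  rcases (hS a).1 ha with rfl | rfl
  · exact h
  · rw [(isMC_cX hp hx).neg, h, inv_one]

end Cfsg.Agent.DS.Nt.J2
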