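import Cfsg.Agent.DS.Nt.Cnt
import Cfsg.Agent.DS.Nt.J2Q8
import Cfsg.Agent.S0015

/-!
# S5881, exceptional groups, the non-toral local case: invariance and the radical (helper86)

* `dd_sfr`, `Tp.wfr` : `dd` and `Tp` are invariant under the automorphisms of `Y` that are conjugate to frame automorphisms;
* `e7_mul` : the product of two commuting involutions of type `D₆ A₁` of a torus of `E₇` is not of type `A₇`;
* `exists_rad`, `rad_bot` : the elements of `Ω₁ Z(R)` that are toral with all the elements of `Ω₁ Z(R)`.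
-/

set_option autoImplicit false
set_option linter.unusedSectionVars false

namespace Cfsg.Agent.DS.Nt

open CoxeterSystem Cfsg Cfsg.Lie Cfsg.Lie.ChevalleyDatum
open Cfsg.Agent.ChevalleyStructure Cfsg.Agent.ChevalleyStructure.Elts Cfsg.Agent.ChevalleyStructure.CoxeterGeom
  Cfsg.Agent.ChevalleyStructure.CoxeterGeomTypes
open Cfsg.Agent.Tits.Roots Cfsg.Agent.Tits.Core Cfsg.Agent.Nodes Cfsg.Agent.Nodes.Reps Cfsg.Agent.Nodes.BNOf
  Cfsg.Agent.Nodes.RGDChev Cfsg.Agent.Nodes.Bruhat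
open Cfsg.Agent.KFacts.RgdField Cfsg.Agent.KFacts.RgdChevCoord
open Cfsg.Agent.BpExc Cfsg.Agent.BpExc.TorCent Cfsg.Agent.BpExc.TorChev Cfsg.Agent.BpExc.Tow
  Cfsg.Agent.BpExc.TowChev Cfsg.Agent.BpExc.Fr Cfsg.Agent.BpExc.LangFr
open Cfsg.Agent.H469.Exc Cfsg.Agent.H795.SetCent Cfsg.Agent.H129.TorusChar Cfsg.Agent.DS.Ex
open Cfsg.Agent.H185.EE Cfsg.Agent.H931.KC

variable {D : ChevalleyDatum} {l : ℕ} {M : CoxeterMatrix (Fin l)} {hp : IsType D l M} {p : ℕ} [Fact p.Prime]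

/-! ### invariance -/

theorem cX_fr {β : MulAut (YY D p)} {g : (Fin l → ℤ) ≃+ (Fin l → ℤ)}
    (F : Fr M.toCoxeterSystem hp.isCartan (TT D (KK p)) (XX D l (KK p)) β g) {t : YY D p} (ht : t ∈ TT D (KK p))
    {a : Fin l → ℤ} (ha : IsRoot M.toCoxeterSystem hp.isCartan a) (h : cX hp t a = 1) : cX hp (β t) (g a) = 1 := by
  have ha' := (F.root a).2 ha
  refine cX_eq_one_of_comm ((F.tor t).2 ht) ha' one_ne_zero ?_
  have h1 : β⁻¹ (xc hp (g a) (1 : KK p)) ∈ XX D l (KK p) a :=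
    (F.map a ha _).1 (by rw [MulAut.apply_inv_self]; exact xc_mem ha' 1)
  have h2 := congrArg β (comm_X ht ha h h1)
  rwa [map_mul, map_mul, MulAut.apply_inv_self] at h2

theorem dd_le_fr {β : MulAut (YY D p)} {g : (Fin l → ℤ) ≃+ (Fin l → ℤ)}
    (F : Fr M.toCoxeterSystem hp.isCartan (TT D (KK p)) (XX D l (KK p)) β g) {t : YY D p} (ht : t ∈ TT D (KK p)) :
    dd p t ≤ dd p (β t) := by
  classical
  rw [dd_tor hp ht, dd_tor hp ((F.tor t).2 ht)]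
  have hex : ∀ s : Fin D.nroots, ∃ s' : Fin D.nroots, vec D l s' = g (vec D l s) := fun s => by
    obtain ⟨s', hs', e⟩ := (isRoot_iff hp M.toCoxeterSystem _).1 ((F.root _).2 (isRoot_vec hp M.toCoxeterSystem s.2))
    exact ⟨⟨s', hs'⟩, e⟩
  choose f hf using hex
  refine Nat.add_le_add_left (Finset.card_le_card_of_injOn f (fun s hs => ?_) fun s _ s' _ e => ?_) _
  · simp only [Finset.coe_filter, Finset.mem_univ, true_and, Set.mem_ofPred_eq] at hs ⊢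
    rw [hf]
    exact cX_fr F ht (isRoot_vec hp M.toCoxeterSystem s.2) hs
  · exact Fin.ext (vec_inj hp s.2 s'.2 (g.injective (by rw [← hf, ← hf, e])))

theorem dd_fr {β : MulAut (YY D p)} {g : (Fin l → ℤ) ≃+ (Fin l → ℤ)}
    (F : Fr M.toCoxeterSystem hp.isCartan (TT D (KK p)) (XX D l (KK p)) β g) {t : YY D p} (ht : t ∈ TT D (KK p)) :
    dd p (β t) = dd p t := by
  have h1 := dd_le_fr (hp := hp) F.inv ((F.tor t).2 ht)
  rw [MulAut.inv_apply_self] at h1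
  exact le_antisymm h1 (dd_le_fr (hp := hp) F ht)

theorem dd_sfr {φ : MulAut (YY D p)} (hφ : ∃ y : YY D p, SFr hp p (MulAut.conj y * φ)) {x c : YY D p}
    (hx : c * x * c⁻¹ ∈ TT D (KK p)) : dd p (φ x) = dd p x := by
  obtain ⟨y, g, F, -⟩ := hφ
  have h1 := dd_fr (hp := hp) F hx
  have e : (MulAut.conj y * φ) (c * x * c⁻¹) = (y * φ c) * φ x * (y * φ c)⁻¹ := by
    rw [conj_mul_apply, map_mul, map_mul, map_inv]
    group
  rwa [e, dd_conj, dd_conj] at h1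

theorem Tp.wfr {φ : MulAut (YY D p)} (hφ : ∃ y : YY D p, WFr hp p (MulAut.conj y * φ)) {x z : YY D p}
    (h : Tp p x z) : Tp p (φ x) (φ z) := by
  obtain ⟨y, F, -⟩ := hφ
  obtain ⟨c, h1, h2⟩ := h
  have e : ∀ u, (MulAut.conj y * φ) (c * u * c⁻¹) = (y * φ c) * φ u * (y * φ c)⁻¹ := fun u => by
    rw [conj_mul_apply, map_mul, map_mul, map_inv]
    group
  exact ⟨y * φ c, by rw [← e]; exact (F _).2 h1, by rw [← e]; exact (F _).2 h2⟩

theorem sfr_conj (hp : IsType D l M) (e : YY D p) : ∃ y : YY D p, SFr hp p (MulAut.conj y * MulAut.conj e) :=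
  ⟨e⁻¹, AddEquiv.refl _, by rw [← map_mul, inv_mul_cancel, map_one]; exact Fr.one, fun _ => rfl⟩

theorem one_not_mem_Om {r : ℕ} (hr' : r.Prime) {i : Fin l} : (1 : YY D p) ∉ Om hp p r i := by
  rintro ⟨g, ζ, hζ, h1, h2⟩
  have h3 := h2 (sr i)
  rw [mul_one, mul_inv_cancel, cX_one] at h3
  have h4 : sr i i = (1 : ℤ) := by simp [sr]
  rw [h4, zpow_one] at h3
  exact hζ.ne_one hr'.one_lt h3.symm

/-! ### the involutions of the torus of `E₇` -/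

/-- the parities of the coefficients of the roots of `E₇`, one byte for each root -/
def mkN7 : ℕ := 903638273921730702748437790743458924418247045862155428180466713455038274114864606026458309390845461264234048942816234406345141997651633218778460245016537651270117082019630394406789285460869473258068557973921432917004123571830975533425802673916164196470045589031023492458992482003169898929419543370618196

/-- the byte of the root `s` -/
def mk7b (s : ℕ) : ℕ := mkN7 / 256 ^ s % 256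

theorem mk7b_ok : ∀ s : Fin 126, ∀ i : Fin 7, vec chevE7 7 s i % 2 = (J2.bt (mk7b s) i : ℤ) := by decide +kernel

/-- the product of the binary digits -/
def dot7 (a c : ℕ) : ℕ := J2.bt a 0 * J2.bt c 0 + J2.bt a 1 * J2.bt c 1 + J2.bt a 2 * J2.bt c 2 + J2.bt a 3 * J2.bt c 3 +
  J2.bt a 4 * J2.bt c 4 + J2.bt a 5 * J2.bt c 5 + J2.bt a 6 * J2.bt c 6

/-- the number of roots trivial on the element `c` -/
def n7 (c : ℕ) : ℕ := (Finset.univ.filter fun s : Fin 126 => dot7 (mk7b s) c % 2 = 0).card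

theorem tab7 : ∀ c : Fin 128, (n7 c = 62 → (J2.bt c 1 + J2.bt c 4 + J2.bt c 6) % 2 = 0) ∧
    (n7 c = 56 → (J2.bt c 1 + J2.bt c 4 + J2.bt c 6) % 2 ≠ 0) := by decide +kernel

theorem exists_byte7 (b : Fin 7 → ℕ) (hb : ∀ i, b i < 2) : ∃ c : Fin 128, ∀ i : Fin 7, J2.bt c i = b i := by
  have h0 := hb 0
  have h1 := hb 1
  have h2 := hb 2
  have h3 := hb 3
  have h4 := hb 4
  have h5 := hb 5
  have h6 := hb 6
  refine ⟨⟨b 0 + 2 * b 1 + 4 * b 2 + 8 * b 3 + 16 * b 4 + 32 * b 5 + 64 * b 6, by omega⟩, fun i => ?_⟩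
  fin_cases i
  · show (b 0 + 2 * b 1 + 4 * b 2 + 8 * b 3 + 16 * b 4 + 32 * b 5 + 64 * b 6) / 1 % 2 = b 0
    omega
  · show (b 0 + 2 * b 1 + 4 * b 2 + 8 * b 3 + 16 * b 4 + 32 * b 5 + 64 * b 6) / 2 % 2 = b 1
    omega
  · show (b 0 + 2 * b 1 + 4 * b 2 + 8 * b 3 + 16 * b 4 + 32 * b 5 + 64 * b 6) / 4 % 2 = b 2
    omega
  · show (b 0 + 2 * b 1 + 4 * b 2 + 8 * b 3 + 16 * b 4 + 32 * b 5 + 64 * b 6) / 8 % 2 = b 3
    omega
  · show (b 0 + 2 * b 1 + 4 * b 2 + 8 * b 3 + 16 * b 4 + 32 * b 5 + 64 * b 6) / 16 % 2 = b 4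
    omega
  · show (b 0 + 2 * b 1 + 4 * b 2 + 8 * b 3 + 16 * b 4 + 32 * b 5 + 64 * b 6) / 32 % 2 = b 5
    omega
  · show (b 0 + 2 * b 1 + 4 * b 2 + 8 * b 3 + 16 * b 4 + 32 * b 5 + 64 * b 6) / 64 % 2 = b 6
    omega

theorem psi_modEq7 (c : ℕ) (s : Fin 126) :
    psi (fun i : Fin 7 => (J2.bt c i : ℤ)) (vec chevE7 7 s) ≡ (dot7 (mk7b s) c : ℤ) [ZMOD 2] := by
  have e : dot7 (mk7b s) c = ∑ i : Fin 7, J2.bt (mk7b s) i * J2.bt c i := by
    rw [Fin.sum_univ_seven]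
    rfl
  rw [psi_apply, e, Nat.cast_sum]
  refine Int.ModEq.sum fun i _ => ?_
  rw [Nat.cast_mul]
  refine Int.ModEq.mul_right _ ?_
  unfold Int.ModEq
  rw [← mk7b_ok s i, Int.emod_emod]

theorem e7_tor {M : CoxeterMatrix (Fin 7)} (hp : IsType chevE7 7 M) (h2 : 2 ≠ p) {x : YY chevE7 p}
    (hx : x ∈ TT chevE7 (KK p)) (hx2 : x ^ 2 = 1) : (dd p x = 69 → cX hp x ![0, 1, 0, 0, 1, 0, 1] = 1) ∧
      (dd p x = 63 → cX hp x ![0, 1, 0, 0, 1, 0, 1] ≠ 1) := by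
  obtain ⟨ζ, hζ⟩ := exists_prim (p := p) Nat.prime_two h2
  obtain ⟨b, hb, e⟩ := J2.exists_bits (hp := hp) hζ hx hx2
  obtain ⟨c, hc⟩ := exists_byte7 b hb
  have hb' : (fun i : Fin 7 => (b i : ℤ)) = fun i : Fin 7 => (J2.bt c i : ℤ) := funext fun i => by rw [hc]
  rw [hb'] at e
  have h0 : dd p x = 7 + n7 c := by
    rw [dd_tor_zpow hp hx hζ e]
    congr 1
    unfold n7
    exact congrArg Finset.card (Finset.filter_congr fun s _ => J2.dvd_iff_of_modEq (psi_modEq7 c s))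
  have h1 : cX hp x ![0, 1, 0, 0, 1, 0, 1] = 1 ↔ (J2.bt c 1 + J2.bt c 4 + J2.bt c 6) % 2 = 0 := by
    rw [e, hζ.zpow_eq_one_iff_dvd, psi_apply, Fin.sum_univ_seven]
    refine J2.dvd_iff_of_modEq ?_
    show (0 : ℤ) * (J2.bt c 0 : ℤ) + 1 * (J2.bt c 1 : ℤ) + 0 * (J2.bt c 2 : ℤ) + 0 * (J2.bt c 3 : ℤ) + 1 * (J2.bt c 4 : ℤ) +
      0 * (J2.bt c 5 : ℤ) + 1 * (J2.bt c 6 : ℤ) ≡ _ [ZMOD 2]
    push_cast
    simp only [zero_mul, one_mul, zero_add, add_zero]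
    rfl
  have h3 := tab7 c
  rw [h0, Ne, h1]
  exact ⟨fun h => h3.1 (by omega), fun h => h3.2 (by omega)⟩

theorem e7_mul {M : CoxeterMatrix (Fin 7)} (hp : IsType chevE7 7 M) (h2 : 2 ≠ p) {x y : YY chevE7 p} (h : Tp p x y)
    (hx2 : x ^ 2 = 1) (hy2 : y ^ 2 = 1) (hx : dd p x = 69) (hy : dd p y = 69) : dd p (x * y) ≠ 63 := by
  obtain ⟨g, h3, h4⟩ := h
  have e1 : (g * x * g⁻¹) ^ 2 = 1 := by rw [conj_pow, hx2, mul_one, mul_inv_cancel]
  have e2 : (g * y * g⁻¹) ^ 2 = 1 := by rw [conj_pow, hy2, mul_one, mul_inv_cancel]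
  have e3 : g * (x * y) * g⁻¹ = (g * x * g⁻¹) * (g * y * g⁻¹) := by group
  intro h5
  rw [← dd_conj g, e3] at h5
  refine (e7_tor hp h2 (mul_mem h3 h4) ?_).2 h5 ?_
  · rw [(show Commute _ _ from TT_comm hp _ h3 _ h4).mul_pow, e1, e2, one_mul]
  · rw [cX_mul hp h3 h4, (e7_tor hp h2 h3 e1).1 (by rw [dd_conj, hx]), (e7_tor hp h2 h4 e2).1 (by rw [dd_conj, hy]),
      one_mul]

/-! ### the radical -/

/-- `z ∈ Ω₁ Z(R)` -/
def OZ (r : ℕ) (R : Subgroup (YY D p)) (z : YY D p) : Prop := z ∈ R ∧ z ^ r = 1 ∧ ∀ y ∈ R, y * z = z * y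

theorem exists_phi (hp : IsType D l M) (hD : Typ D) {r : ℕ} (hr' : r.Prime) (hrp : r ≠ p) {R : Subgroup (YY D p)}
    (hR : IsPGroup r R) : ∃ F : Subgroup (YY D p), (∀ x, x ∈ F ↔ x ∈ R ∧ ∀ z, OZ r R z → Tp p z x) ∧
      ∀ c ∈ R, ∀ c' ∈ R, c * c' * c⁻¹ * c'⁻¹ ∈ F ∧ c ^ r ∈ F := by
  have hex : ∀ z : {z // OZ r R z}, _ := fun z => exists_DD hp hD hr' hrp z.2.2.1
  choose K h1 h2 h3 using hex
  have h4 : ∀ x ∈ R, ∃ n : ℕ, x ^ r ^ n = 1 := fun x hx => by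
    obtain ⟨n, hn⟩ := hR ⟨x, hx⟩
    exact ⟨n, congrArg Subtype.val hn⟩
  refine ⟨R ⊓ ⨅ z, K z, fun x => ?_, fun c hc c' hc' => ⟨⟨?_, ?_⟩, pow_mem hc r, ?_⟩⟩
  · rw [Subgroup.mem_inf, Subgroup.mem_iInf]
    exact and_congr_right fun hx => ⟨fun h z hz => (h1 ⟨z, hz⟩ x (hz.2.2 x hx) (h4 x hx)).2 (h ⟨z, hz⟩),
      fun h z => (h1 z x (z.2.2.2 x hx) (h4 x hx)).1 (h z z.2)⟩
  · exact R.mul_mem (R.mul_mem (R.mul_mem hc hc') (R.inv_mem hc)) (R.inv_mem hc')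
  · exact Subgroup.mem_iInf.2 fun z => (h2 z c c' (z.2.2.2 c hc) (z.2.2.2 c' hc')).1
  · exact Subgroup.mem_iInf.2 fun z => (h2 z c c' (z.2.2.2 c hc) (z.2.2.2 c' hc')).2

theorem exists_rad (hp : IsType D l M) (hD : Typ D) {r : ℕ} (hr' : r.Prime) (hrp : r ≠ p) {R : Subgroup (YY D p)}
    (hR : IsPGroup r R) : ∃ A : Subgroup (YY D p), ∀ x, x ∈ A ↔ OZ r R x ∧ ∀ z, OZ r R z → Tp p z x := by
  obtain ⟨F, hF, -⟩ := exists_phi hp hD hr' hrp hR
  let Z : Subgroup (YY D p) :=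
    { carrier := {z | OZ r R z}
      one_mem' := ⟨one_mem _, one_pow _, fun y _ => by rw [one_mul, mul_one]⟩
      mul_mem' := by
        rintro a b ⟨h1, h2, h3⟩ ⟨h4, h5, h6⟩
        refine ⟨mul_mem h1 h4, ?_, fun y hy => ?_⟩
        · rw [(show Commute a b from h6 a h1).mul_pow, h2, h5, one_mul]
        · rw [← mul_assoc, h3 y hy, mul_assoc, h6 y hy, mul_assoc]
      inv_mem' := by
        rintro a ⟨h1, h2, h3⟩
        exact ⟨inv_mem h1, by rw [inv_pow, h2, inv_one], fun y hy => (show Commute y a from h3 y hy).inv_right⟩ }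
  refine ⟨Z ⊓ F, fun x => ?_⟩
  rw [Subgroup.mem_inf, hF]
  exact ⟨fun h => ⟨h.1, h.2.2⟩, fun h => ⟨h.1, h.1.1, h.2⟩⟩

theorem nrF4 : chevF4.nroots = 48 := by decide +kernel
theorem nrE6 : chevE6.nroots = 72 := by decide +kernel
theorem nrE7 : chevE7.nroots = 126 := by decide +kernel
theorem nrE8 : chevE8.nroots = 240 := by decide +kernel

/-- **The case of a trivial radical.** -/
theorem rad_bot (hp : IsType D l M) (hD : Typ D) {r : ℕ} (hr' : r.Prime) (hrp : r ≠ p) {R : Subgroup (YY D p)}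
    [Finite R] (hR : IsPGroup r R) (h0 : R ≠ ⊥) (h : ∀ x, OZ r R x → (∀ z, OZ r R z → Tp p z x) → x = 1) :
    EL p r R ∧ (D = chevE6 ∧ r = 3 ∧ Nat.card R ≤ 3 ^ 6 ∨ D = chevE7 ∧ r = 2 ∧ Nat.card R ≤ 2 ^ 4) := by
  have := Fact.mk hr'
  obtain ⟨F, hF, hF'⟩ := exists_phi hp hD hr' hrp hR
  have hFb : F = ⊥ := by
    by_contra h1
    have hFR : F ≤ R := fun x hx => ((hF x).1 hx).1
    have hN : (F.subgroupOf R).Normal := ⟨fun x hx c => by
      rw [Subgroup.mem_subgroupOf] at hx ⊢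
      have e : ((c * x * c⁻¹ : R) : YY D p) = (c : YY D p) * x * (c : YY D p)⁻¹ * (x : YY D p)⁻¹ * x := by
        rw [inv_mul_cancel_right]
        rfl
      rw [e]
      exact mul_mem (hF' c c.2 x x.2).1 hx⟩
    have hnil := hR.isNilpotent
    obtain ⟨x, hx, hx1, hxc⟩ := S0015.exists_mem_center_of_normal (F.subgroupOf R) fun h2 => h1 (by
      rw [← Subgroup.map_subgroupOf_eq_of_le hFR, h2, Subgroup.map_bot])
    obtain ⟨n, hn⟩ := IsPGroup.iff_orderOf.1 hR x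
    obtain ⟨k, rfl⟩ : ∃ k, n = k + 1 := Nat.exists_eq_succ_of_ne_zero (by
      rintro rfl
      rw [pow_zero, orderOf_eq_one_iff] at hn
      exact hx1 hn)
    have h3 : OZ r R ((x ^ r ^ k : R) : YY D p) := ⟨(x ^ r ^ k).2, by
      rw [← Subgroup.coe_pow, ← pow_mul, ← pow_succ, ← hn, pow_orderOf_eq_one, Subgroup.coe_one], fun y hy =>
      congrArg Subtype.val (Subgroup.mem_center_iff.1 (pow_mem hxc (r ^ k)) ⟨y, hy⟩)⟩
    have h4 := h _ h3 ((hF _).1 (Subgroup.mem_subgroupOf.1 (pow_mem hx (r ^ k)))).2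
    have h5 : orderOf x ∣ r ^ k := orderOf_dvd_of_pow_eq_one (Subtype.ext h4)
    rw [hn, Nat.pow_dvd_pow_iff_le_right hr'.one_lt] at h5
    omega
  have hE : EL p r R := ⟨hr', hrp, inferInstance, fun x hx y hy => by
    have h1 := (hF' x hx y hy).1
    rw [hFb, Subgroup.mem_bot, mul_inv_eq_one, mul_inv_eq_iff_eq_mul] at h1
    exact h1, fun x hx => by
    have h1 := (hF' x hx x hx).2
    rwa [hFb, Subgroup.mem_bot] at h1⟩
  have hOZ : ∀ x ∈ R, OZ r R x := fun x hx => ⟨hx, hE.pow x hx, fun y hy => hE.comm y hy x hx⟩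
  have hdd : ∀ x ∈ R, x ≠ 1 → (D = chevE6 ∧ r = 3 ∧ (dd p x = 24 ∨ dd p x = 30)) ∨
      (D = chevE7 ∧ r = 2 ∧ (dd p x = 79 ∨ dd p x = 63)) := fun x hx hx1 => by
    obtain ⟨K, h1, -, h2⟩ := exists_DD hp hD hr' hrp (hE.pow x hx)
    refine h2.resolve_left fun h3 => hx1 (h x (hOZ x hx) fun z hz => Tp.symm ?_)
    exact (h1 z (hE.comm z hz.1 x hx) ⟨1, by rw [pow_one, hz.2.1]⟩).2 (h3 z (hE.comm z hz.1 x hx))
  refine ⟨hE, ?_⟩
  obtain ⟨⟨x, hx⟩, hx1⟩ := (Subgroup.ne_bot_iff_exists_ne_one).1 h0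
  rcases hdd x hx fun e => hx1 (Subtype.ext e) with ⟨rfl, rfl, -⟩ | ⟨rfl, rfl, -⟩
  · obtain rfl := (typ_l hp).2.1 rfl
    refine Or.inl ⟨rfl, rfl, card_le_of_dvd hE (dvd_three hp hE {-3, 6} fun e he h1 => ?_) ?_⟩
    · rw [nrE6]
      rcases hdd e he h1 with ⟨-, -, h2 | h2⟩ | ⟨-, h2, -⟩
      · exact ⟨-3, by simp, by rw [h2]; norm_num⟩
      · exact ⟨6, by simp, by rw [h2]; norm_num⟩
      · omega
    · rw [nrE6]
      decide
  · obtain rfl := (typ_l hp).2.2.1 rfl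
    refine Or.inr ⟨rfl, rfl, card_le_of_dvd hE (dvd_two hp hE {25, -7} fun e he h1 => ?_) ?_⟩
    · rw [nrE7]
      rcases hdd e he h1 with ⟨-, h2, -⟩ | ⟨-, -, h2 | h2⟩
      · omega
      · rw [h2]
        decide
      · rw [h2]
        decide
    · rw [nrE7]
      decide

end Cfsg.Agent.DS.Nt
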