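import Cfsg.Agent.DS.Nt.JRoot

/-!
# S5881, the non-toral local case: the subgroups `J z ≅ SL_r(k)` from the data `JD` (helper55)

* `JD.diag_inn`, `JD.sd` : the centraliser of the standard element acts on `J₀` by inner automorphisms;
* `JJ` : the subgroups `J z`; `JD.mem_JJ`, `JD.JJ_eq`;
* `JD.js` : the structure `JS`.
-/

set_option autoImplicit false
set_option linter.unusedSectionVars false

namespace Cfsg.Agent.DS.Nt

open CoxeterSystem Cfsg Cfsg.Lie Cfsg.Lie.ChevalleyDatum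
open Cfsg.Agent.ChevalleyStructure Cfsg.Agent.ChevalleyStructure.Elts Cfsg.Agent.ChevalleyStructure.CoxeterGeom
  Cfsg.Agent.ChevalleyStructure.CoxeterGeomTypes Cfsg.Agent.ChevalleyStructure.RootVec
open Cfsg.Agent.Tits.Roots Cfsg.Agent.Tits.Core Cfsg.Agent.Nodes Cfsg.Agent.Nodes.Reps Cfsg.Agent.Nodes.BNOf
  Cfsg.Agent.Nodes.RGDChev Cfsg.Agent.Nodes.Bruhat Cfsg.Agent.Nodes.Coroot
open Cfsg.Agent.KFacts.RgdField Cfsg.Agent.KFacts.RgdChevCoord
open Cfsg.Agent.BpExc Cfsg.Agent.BpExc.TorCent Cfsg.Agent.BpExc.TorChev Cfsg.Agent.BpExc.Tow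
  Cfsg.Agent.BpExc.TowChev Cfsg.Agent.BpExc.Fr Cfsg.Agent.BpExc.LangFr
open Cfsg.Agent.H469.Exc Cfsg.Agent.H469.Exc.SigFr Cfsg.Agent.H795.SetCent Cfsg.Agent.H129.TorusChar Cfsg.Agent.DS.Ex
open Cfsg.Agent.H185.EE Cfsg.Agent.H81.TorOrth Cfsg.Agent.H605.MX Cfsg.Agent.DS.Nt.JL
open Matrix.SpecialLinearGroup (transvection)
open scoped commutatorElement

variable {D : ChevalleyDatum} {l : ℕ} {M : CoxeterMatrix (Fin l)} (hp : IsType D l M) (p : ℕ) [Fact p.Prime]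

/-- the subgroup `J z` -/
def JJ {r : ℕ} (i : Fin l) (ψ : Matrix.SpecialLinearGroup (Fin r) (KK p) →* YY D p) (z : YY D p) :
    Subgroup (YY D p) where
  carrier := {y | ∀ (g : YY D p) (ζ : KK p), IsPrimitiveRoot ζ r → Std hp p ζ i (g * z * g⁻¹) → g * y * g⁻¹ ∈ ψ.range}
  one_mem' := fun g _ _ _ => by
    rw [mul_one, mul_inv_cancel]
    exact one_mem _
  mul_mem' := fun {a b} ha hb g ζ h1 h2 => by
    have e : g * (a * b) * g⁻¹ = g * a * g⁻¹ * (g * b * g⁻¹) := by group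
    rw [e]
    exact mul_mem (ha g ζ h1 h2) (hb g ζ h1 h2)
  inv_mem' := fun {a} ha g ζ h1 h2 => by
    have e : g * a⁻¹ * g⁻¹ = (g * a * g⁻¹)⁻¹ := by group
    rw [e]
    exact inv_mem (ha g ζ h1 h2)

variable {hp p}

theorem iter_repAut (w : M.Group) (n : ℕ) (a : Fin l → ℤ) :
    (repAut M.toCoxeterSystem hp.isCartan w)^[n] a = rep M.toCoxeterSystem hp.isCartan (w ^ n) a := by
  induction n with
  | zero => rw [pow_zero, map_one, Module.End.one_apply, Function.iterate_zero_apply]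
  | succ n ih => rw [Function.iterate_succ_apply', ih, pow_succ', rep_mul_apply, repAut_apply]

namespace JD

variable {r : ℕ} {i : Fin l} {ρ : Fin r → Fin r → ℕ} {cf : List (ℕ × ℤ)}
  {ψ : Matrix.SpecialLinearGroup (Fin r) (KK p) →* YY D p} (J : JD hp p r i ρ cf ψ)

include J

/-- an element of `N` fixing the roots of the block acts as a diagonal automorphism -/
theorem diag_inn {w : M.Group} {k : YY D p} (hk : RP hp p w k)
    (hw : ∀ a ∈ SR D l ρ, rep M.toCoxeterSystem hp.isCartan w a = a) : ∃ j, Inn ψ k j := by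
  classical
  have h1 : ∀ a b (hab : a ≠ b), ∃ κ : KK p, κ ≠ 0 ∧
      (∀ c, k * ψ (transvection hab c) * k⁻¹ = ψ (transvection hab (κ * c))) ∧
      ∀ c, k * ψ (transvection hab.symm c) * k⁻¹ = ψ (transvection hab.symm (κ⁻¹ * c)) := by
    intro a b hab
    obtain ⟨s', hs', e', κ, hκ, h2, h3⟩ :=
      act_fr hp M.toCoxeterSystem (locFin p) (r := p) (IsFrob.conj k) hk.fr (J.tab.lt hab)
    obtain rfl : s' = ρ a b := vec_inj hp hs' (J.tab.lt hab) (e'.trans (hw _ ⟨a, b, hab, rfl⟩))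
    refine ⟨κ, hκ, fun c => ?_, fun c => ?_⟩
    · have h4 := h2 c
      rw [pow_zero, pow_one] at h4
      rw [J.tv, J.tv]
      exact h4
    · have h4 := h3 c
      rw [pow_zero, pow_one] at h4
      rw [J.tv, J.tv, J.tab.neg hab]
      exact h4
  choose κ h0 h2 h3 using h1
  have h4 : ∀ a b (hab : a ≠ b), κ b a hab.symm = (κ a b hab)⁻¹ := by
    intro a b hab
    have h5 := J.tv_inj hab.symm ((h2 b a hab.symm 1).symm.trans (h3 a b hab 1))
    rwa [mul_one, mul_one] at h5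
  have h5 : ∀ a b c (hab : a ≠ b) (hbc : b ≠ c) (hac : a ≠ c), κ a c hac = κ a b hab * κ b c hbc := by
    intro a b c hab hbc hac
    have h6 := h2 a c hac (1 * 1)
    rw [← LieClassical.SLGen.commutator_transvection hac hab hbc, map_commutatorElement, conjugate_commutatorElement,
      h2, h2, ← map_commutatorElement, LieClassical.SLGen.commutator_transvection hac hab hbc] at h6
    have h7 := J.tv_inj hac h6
    rw [mul_one, mul_one, mul_one, mul_one] at h7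
    exact h7.symm
  obtain ⟨o, -⟩ : ∃ _ : Fin r, True := ⟨⟨0, J.prime.pos⟩, trivial⟩
  have h6 : ∀ a, (if h : a = o then 1 else κ a o h) ≠ 0 := by
    intro a
    split_ifs with h
    · exact one_ne_zero
    · exact h0 a o h
  obtain ⟨d, hd⟩ := exists_diag J.prime.pos (fun a => if h : a = o then 1 else κ a o h) h6
  have h7 : ∀ a b (hab : a ≠ b),
      (if h : a = o then 1 else κ a o h) * (if h : b = o then 1 else κ b o h)⁻¹ = κ a b hab := by
    intro a b hab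
    by_cases ha : a = o
    · subst ha
      rw [dif_pos rfl, dif_neg hab.symm, one_mul, h4 a b hab, inv_inv]
    · by_cases hb : b = o
      · subst hb
        rw [dif_neg hab, dif_pos rfl, inv_one, mul_one]
      · rw [dif_neg ha, dif_neg hb, h5 a b o hab hb ha, mul_inv_cancel_right₀ (h0 b o hb)]
  refine ⟨d, fun g => ?_⟩
  have := J.nontriv
  refine LieClassical.SLGen.transvection_induction (fun g => k * ψ g * k⁻¹ = ψ (d * g * d⁻¹)) (fun a b hab c => ?_)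
    (fun a b ha hb => ?_) g
  · show k * ψ (transvection hab c) * k⁻¹ = ψ (d * transvection hab c * d⁻¹)
    rw [hd a b hab c, h7 a b hab, mul_inv_cancel_right, h2]
  · show k * ψ (a * b) * k⁻¹ = ψ (d * (a * b) * d⁻¹)
    calc k * ψ (a * b) * k⁻¹ = k * ψ a * k⁻¹ * (k * ψ b * k⁻¹) := by rw [map_mul]; group
      _ = ψ (d * a * d⁻¹ * (d * b * d⁻¹)) := by rw [ha, hb, ← map_mul]
      _ = _ := by congr 1; group

/-- **The centraliser of the standard element acts by inner automorphisms.** -/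
theorem sd {ζ : KK p} (hζ : IsPrimitiveRoot ζ r) {t : YY D p} (ht : Std hp p ζ i t) : JL.SD ψ t where
  inj := J.inj hζ ht
  mem := J.std_mem hζ ht
  cen := J.std_cen hζ ht
  fac c hc := by
    have := finW hp
    have hZ : ({t} : Set (YY D p)) ⊆ TT D (KK p) := Set.singleton_subset_iff.2 ht.1
    obtain ⟨m, hm, w, hw, k, hk, hkt, rfl⟩ := form hp (Set.finite_singleton t) hZ (c := c)
      (fun s hs => by rw [hs]; exact hc)
    obtain ⟨j, hj⟩ := J.Mz_inn hζ ht hm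
    obtain ⟨n, hn⟩ := pp_pow hZ J.prime (fun s hs => ⟨1, by rw [hs, pow_one, ht.pow_eq hζ]⟩) hw
    obtain ⟨a, b, -, m', hm', hpos⟩ := J.pos
    have h1 : (MulAut.conj k) t = t := by
      show k * t * k⁻¹ = t
      rw [hkt t rfl, mul_inv_cancel_right]
    have h2 := (hpos (repAut M.toCoxeterSystem hp.isCartan w)
      (fun x hx => J.frame_S hk.fr hζ hζ ht (by rw [h1]; exact ht) hx)
      (fun x hx h0 => (mem_PPZ.1 hw).2 x ((ht.mem_Ps hζ).2 ⟨J.tab.root hp hx, J.tab.dvd hx⟩) h0)).2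
    obtain ⟨j', hj'⟩ := J.diag_inn hk fun x hx => by
      have h3 : Function.IsPeriodicPt (repAut M.toCoxeterSystem hp.isCartan w) m' x := h2 x hx
      have h4 : Function.IsPeriodicPt (repAut M.toCoxeterSystem hp.isCartan w) (r ^ n) x := by
        show (repAut M.toCoxeterSystem hp.isCartan w)^[r ^ n] x = x
        rw [iter_repAut (hp := hp), hn, map_one, Module.End.one_apply]
      have h5 := h3.gcd h4
      rw [hm'.pow_right n] at h5
      exact h5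
    exact ⟨_, hj.mul hj'⟩

theorem mem_JJ {z g : YY D p} {ζ : KK p} (hζ : IsPrimitiveRoot ζ r) (hz : Std hp p ζ i (g * z * g⁻¹)) {y : YY D p} :
    y ∈ JJ hp p i ψ z ↔ g * y * g⁻¹ ∈ ψ.range := by
  refine ⟨fun h => h g ζ hζ hz, fun h g' ζ' hζ' hz' => ?_⟩
  have e : ∀ u : YY D p, g' * g⁻¹ * (1 : MulAut (YY D p)) (g * u * g⁻¹) * (g' * g⁻¹)⁻¹ = g' * u * g'⁻¹ := by
    intro u
    rw [MulAut.one_apply]
    group
  have h1 := J.key (y := g' * g⁻¹) Fr.one hζ hζ' hz (by rw [e]; exact hz') h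
  rwa [e] at h1

theorem JJ_eq {z g : YY D p} {ζ : KK p} (hζ : IsPrimitiveRoot ζ r) (hz : Std hp p ζ i (g * z * g⁻¹)) :
    JJ hp p i ψ z = ((MulAut.conj g⁻¹).toMonoidHom.comp ψ).range := by
  ext y
  rw [J.mem_JJ hζ hz]
  constructor
  · rintro ⟨v, hv⟩
    refine ⟨v, ?_⟩
    show g⁻¹ * ψ v * g⁻¹⁻¹ = y
    rw [hv]
    group
  · rintro ⟨v, rfl⟩
    refine ⟨v, ?_⟩
    show ψ v = g * (g⁻¹ * ψ v * g⁻¹⁻¹) * g⁻¹
    group

theorem sd_conj {z g : YY D p} {ζ : KK p} (hζ : IsPrimitiveRoot ζ r) (hz : Std hp p ζ i (g * z * g⁻¹)) :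
    JL.SD ((MulAut.conj g⁻¹).toMonoidHom.comp ψ) z := by
  have h := (J.sd hζ hz).conj (MulAut.conj g⁻¹)
  have e : (MulAut.conj g⁻¹) (g * z * g⁻¹) = z := by
    show g⁻¹ * (g * z * g⁻¹) * g⁻¹⁻¹ = z
    group
  rwa [e] at h

theorem cen_JJ {z g : YY D p} {ζ : KK p} (hζ : IsPrimitiveRoot ζ r) (hz : Std hp p ζ i (g * z * g⁻¹)) {x : YY D p} :
    x ∈ Subgroup.centralizer (JJ hp p i ψ z : Set (YY D p)) ↔
      g * x * g⁻¹ ∈ Subgroup.centralizer (ψ.range : Set (YY D p)) := by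
  rw [J.JJ_eq hζ hz, mem_cen, mem_cen]
  refine forall_congr' fun v => ?_
  show g⁻¹ * ψ v * g⁻¹⁻¹ * x = x * (g⁻¹ * ψ v * g⁻¹⁻¹) ↔ _
  constructor
  · intro h
    calc ψ v * (g * x * g⁻¹) = g * (g⁻¹ * ψ v * g⁻¹⁻¹ * x) * g⁻¹ := by group
      _ = _ := by rw [h]; group
  · intro h
    calc g⁻¹ * ψ v * g⁻¹⁻¹ * x = g⁻¹ * (ψ v * (g * x * g⁻¹)) * g := by group
      _ = _ := by rw [h]; group

omit J in
theorem tv_pow {a b : Fin r} (h : a ≠ b) (c : KK p) : transvection h c ^ p = 1 := by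
  have h1 : ∀ n : ℕ, transvection h c ^ n = transvection h ((n : KK p) * c) := by
    intro n
    induction n with
    | zero => rw [pow_zero, Nat.cast_zero, zero_mul, Matrix.SpecialLinearGroup.transvection_coeff_zero]
    | succ n ih => rw [pow_succ, ih, ← Matrix.SpecialLinearGroup.transvection_add, Nat.cast_succ, add_mul, one_mul]
  rw [h1, CharP.cast_eq_zero, zero_mul, Matrix.SpecialLinearGroup.transvection_coeff_zero]

/-- a fixed `p`-element -/
theorem exists_fix {σ : MulAut (YY D p)} {e : ℕ} {g : (Fin l → ℤ) ≃+ (Fin l → ℤ)} (he : 0 < e) (hσ : IsFrob p e σ)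
    (F : Fr M.toCoxeterSystem hp.isCartan (TT D (KK p)) (XX D l (KK p)) σ g) {z : YY D p} (hz : z ∈ Om hp p r i)
    (hσz : σ z = z) : ∃ u ∈ JJ hp p i ψ z, σ u = u ∧ (∃ n : ℕ, u ^ p ^ n = 1) ∧
      u ∉ Subgroup.centralizer (JJ hp p i ψ z : Set (YY D p)) := by
  have := finW hp
  obtain ⟨y, ζ, hζ, ht⟩ := hz
  obtain ⟨t, htd⟩ : ∃ t, t = y * z * y⁻¹ := ⟨_, rfl⟩
  rw [← htd] at ht
  have htL : t ∈ TL (Tj hp (k := KK p)) := by rw [TLe hp p]; exact ht.1
  obtain ⟨z', k, g', h1, h2, F', h3, h4⟩ := Pair.pair_reduction (tw hp p) (coW hp p) (chW hp p) (GGW hp p) (σ := σ)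
    (g := g) (by rw [TLe hp p, XLe hp p]; exact F) hσz (z := y⁻¹) (t := t) (by rw [htd, inv_inv]) htL
    (fun k g' F' hk m hm => by
      have h5 := fun a => Fr.mem_Sx (coW hp p) F' htL hk a
      rw [TLe hp p, XLe hp p] at F'
      rw [XLe hp p] at hm ⊢
      exact lang_fr hp M.toCoxeterSystem he (hσ.conj_mul k) F' (fun _ ha => ha.1) (fun a ha => (h5 a).2 ha) hm)
  rw [TLe hp p, XLe hp p] at F'
  obtain ⟨a, b, hab, m, -, hpos⟩ := J.pos
  have h5 := (hpos g' (fun x hx => J.frame_S F' hζ hζ ht (by rw [h3]; exact ht) hx) fun x hx h0 =>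
    h4 x ⟨J.tab.root hp hx, by
      rw [← cX_root hp M.toCoxeterSystem ht.1 (J.tab.root hp hx), ht.2, hζ.zpow_eq_one_iff_dvd]
      exact J.tab.dvd hx⟩ h0).1
  obtain ⟨s', hs', e', d, hd, h6, -⟩ :=
    act_fr hp M.toCoxeterSystem (locFin p) (r := p) (hσ.conj_mul k) F' (J.tab.lt hab)
  obtain rfl : s' = ρ a b := vec_inj hp hs' (J.tab.lt hab) (e'.trans h5)
  have hq : 1 < p ^ e := Nat.one_lt_pow he.ne' (Fact.out : p.Prime).one_lt
  obtain ⟨c, hc⟩ := IsAlgClosed.exists_pow_nat_eq d⁻¹ (n := p ^ e - 1) (by omega)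
  have hc0 : c ≠ 0 := by
    rintro rfl
    rw [zero_pow (by omega)] at hc
    exact inv_ne_zero hd hc.symm
  have h7 : d * c ^ p ^ e = c := by
    rw [show p ^ e = p ^ e - 1 + 1 by omega, pow_succ, hc, mul_inv_cancel_left₀ hd]
  have h8 := h6 c
  rw [h7, ← J.tv a b hab] at h8
  have h9 : k * σ (ψ (transvection hab c)) * k⁻¹ = ψ (transvection hab c) := h8
  have hz' : Std hp p ζ i (z'⁻¹ * z * z'⁻¹⁻¹) := by rw [inv_inv, h1]; exact ht
  have e1 : z'⁻¹ * (z' * ψ (transvection hab c) * z'⁻¹) * z'⁻¹⁻¹ = ψ (transvection hab c) := by group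
  refine ⟨z' * ψ (transvection hab c) * z'⁻¹, ?_, ?_, ⟨1, ?_⟩, ?_⟩
  · rw [J.mem_JJ hζ hz', e1]
    exact ⟨_, rfl⟩
  · have h10 : σ z' = z' * k := by rw [← h2]; group
    rw [map_mul, map_mul, map_inv, h10]
    calc z' * k * σ (ψ (transvection hab c)) * (z' * k)⁻¹ = z' * (k * σ (ψ (transvection hab c)) * k⁻¹) * z'⁻¹ := by
          group
      _ = _ := by rw [h9]
  · rw [pow_one, conj_pow, ← map_pow, tv_pow, map_one, mul_one, mul_inv_cancel]
  · rw [J.cen_JJ hζ hz', e1]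
    intro h
    exact hc0 ((Matrix.SpecialLinearGroup.transvection_mem_center_iff hab c).1 (J.cen_of h))

/-- **The subgroups `J z`.** -/
theorem js (h8 : D = chevE8 → r = 2 → ∀ (ζ : KK p) (t : YY D p), IsPrimitiveRoot ζ r → Std hp p ζ i t →
    ∀ x ∈ TT D (KK p), x ^ 2 = 1 →
      ((∀ a ∈ SR D l ρ, cX hp x a = 1) → (dd p (x * t) = 136 ↔ dd p x ≠ 136)) ∧
      (¬ (∀ a ∈ SR D l ρ, cX hp x a = 1) → (dd p (x * t) = 136 ↔ dd p x = 136))) :
    JS hp p r i (JJ hp p i ψ) where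
  mem := fun _ _ _ _ hζ hz => J.std_mem hζ hz
  cen := by
    rintro z ⟨g, ζ, hζ, hz⟩ j hj
    exact Subgroup.mem_centralizer_iff.1 ((J.cen_JJ hζ hz).2 (J.std_cen hζ hz)) j hj
  gen := by
    rintro z ⟨g, ζ, hζ, hz⟩ K hK y hy
    have h1 : ψ.range ≤ K.comap (MulAut.conj g⁻¹).toMonoidHom := J.range_le fun a b hab c => by
      refine hK _ ?_ ⟨1, ?_⟩
      · rw [J.JJ_eq hζ hz]
        exact ⟨_, rfl⟩
      · rw [pow_one, ← map_pow, ← map_pow, tv_pow, map_one, map_one]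
    rw [J.JJ_eq hζ hz] at hy
    obtain ⟨v, rfl⟩ := hy
    exact h1 ⟨v, rfl⟩
  inv := by
    rintro φ ⟨y, g, F, -⟩ z ⟨g₁, ζ, hζ, hz⟩ - j hj g₂ ζ' hζ' hz'
    have e : ∀ u : YY D p, g₂ * (φ g₁)⁻¹ * y⁻¹ * (MulAut.conj y * φ) (g₁ * u * g₁⁻¹) * (g₂ * (φ g₁)⁻¹ * y⁻¹)⁻¹ =
        g₂ * φ u * g₂⁻¹ := by
      intro u
      rw [MulAut.mul_apply, MulAut.conj_apply, map_mul, map_mul, map_inv]
      group
    have h1 := J.key (y := g₂ * (φ g₁)⁻¹ * y⁻¹) F hζ hζ' hz (by rw [e]; exact hz') (hj g₁ ζ hζ hz)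
    rwa [e] at h1
  dich := by
    rintro s hs E hE hL z hzE ⟨g, ζ, hζ, hz⟩ hn
    obtain ⟨ν, hν⟩ := exists_prim (p := p) hs.1 hs.2.2
    have h1 : (r : KK p) ≠ 0 := by
      rw [Ne, CharP.cast_eq_zero_iff (KK p) p, Nat.prime_dvd_prime_iff_eq Fact.out J.prime]
      exact J.ne.symm
    have h2 : r.Coprime s := (Nat.coprime_primes J.prime hs.1).2 (by have := J.le; have := hs.2.1; omega)
    rw [J.JJ_eq hζ hz] at hn ⊢
    exact (J.sd_conj hζ hz).dich J.prime h1 hs.1.one_lt h2 hν.pow_eq_one (hν.ne_one hs.1.one_lt) hE.comm hE.pow hL hzE hn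
  fix := fun _ _ _ he hσ F _ hz hσz => J.exists_fix he hσ F hz hσz
  q8 := by
    intro hD hr z hz x hx htp
    obtain ⟨g, ζ, hζ, hs, hg⟩ := exists_std_pair hz htp
    have h1 := h8 hD hr ζ _ hζ hs _ hg (by rw [conj_pow, hx, mul_one, mul_inv_cancel])
    have e : g * x * g⁻¹ * (g * z * g⁻¹) = g * (x * z) * g⁻¹ := by group
    rw [e, dd_conj, dd_conj, ← J.T_cen_iff hg, ← J.cen_JJ hζ hs] at h1
    exact h1

end JD

end Cfsg.Agent.DS.Nt
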