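import Cfsg.Agent.DS.Nt.JTab
import Cfsg.Agent.DS.Nt.JAbs
import Cfsg.Agent.H605.MX.Psi
import Cfsg.Agent.H460.OT.BruConc
import Cfsg.Agent.KFacts.Mult.Chev
import Cfsg.Agent.KFacts.ChevTwoInst

/-!
# S5881, the non-toral local case: the standard subgroup `J₀ = ψ(SL_r(k))` (helper55)

* `SR D l ρ` : the roots of the block; `Tab.can` : the block is canonical in `Ψ = {a | r ∣ a i}`;
* `JD` : the data; `JD.range_eq`, `JD.comm_out`, `JD.std_mem`, `JD.inj`;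
* `JD.frame`, `JD.key` : automorphisms mapping a standard element to a standard element preserve `J₀`.
-/

set_option autoImplicit false
set_option linter.unusedSectionVars false

namespace Cfsg.Agent.DS.Nt

open CoxeterSystem Cfsg Cfsg.Lie Cfsg.Lie.ChevalleyDatum
open Cfsg.Agent.ChevalleyStructure Cfsg.Agent.ChevalleyStructure.Elts Cfsg.Agent.ChevalleyStructure.CoxeterGeom
  Cfsg.Agent.ChevalleyStructure.CoxeterGeomTypes Cfsg.Agent.ChevalleyStructure.RootVec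
open Cfsg.Agent.Tits.Roots Cfsg.Agent.Tits.Core Cfsg.Agent.Nodes Cfsg.Agent.Nodes.Reps Cfsg.Agent.Nodes.BNOf
  Cfsg.Agent.Nodes.RGDChev Cfsg.Agent.Nodes.Bruhat Cfsg.Agent.Nodes.Coroot
open Cfsg.Agent.KFacts.RgdField Cfsg.Agent.KFacts.RgdChevCoord
open Cfsg.Agent.BpExc Cfsg.Agent.BpExc.TorCent Cfsg.Agent.BpExc.TorChev Cfsg.Agent.BpExc.Tow
  Cfsg.Agent.BpExc.TowChev Cfsg.Agent.BpExc.Fr Cfsg.Agent.BpExc.LangFr
open Cfsg.Agent.H469.Exc Cfsg.Agent.H469.Exc.SigFr Cfsg.Agent.H795.SetCent Cfsg.Agent.H129.TorusChar Cfsg.Agent.DS.Ex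
open Cfsg.Agent.H185.EE Cfsg.Agent.H81.TorOrth Cfsg.Agent.H605.MX Cfsg.Agent.DS.Nt.JL
open Cfsg.Agent.Nodes.RGDFold Cfsg.Agent.Nodes.RGDFoldSL
open Matrix.SpecialLinearGroup (transvection)

/-- the roots of the block -/
def SR (D : ChevalleyDatum) (l : ℕ) {r : ℕ} (ρ : Fin r → Fin r → ℕ) : Set (Fin l → ℤ) :=
  {a | ∃ x y, x ≠ y ∧ a = vec D l (ρ x y)}

section Comb

variable {D : ChevalleyDatum} {l : ℕ} {M : CoxeterMatrix (Fin l)} (hp : IsType D l M) {r : ℕ} {i : Fin l}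
  {ρ : Fin r → Fin r → ℕ} {cf : List (ℕ × ℤ)} (T : Tab D r i ρ cf)

include T

theorem Tab.lt {a b : Fin r} (h : a ≠ b) : ρ a b < D.nroots := (T.a a b h).1

theorem Tab.neg {a b : Fin r} (h : a ≠ b) : ρ b a = D.neg (ρ a b) := (T.a a b h).2.1

theorem Tab.root {a : Fin l → ℤ} (ha : a ∈ SR D l ρ) : IsRoot M.toCoxeterSystem hp.isCartan a := by
  obtain ⟨x, y, h, rfl⟩ := ha
  exact isRoot_vec hp _ (T.lt h)

theorem Tab.dvd {a : Fin l → ℤ} (ha : a ∈ SR D l ρ) : (r : ℤ) ∣ a i := by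
  obtain ⟨x, y, h, rfl⟩ := ha
  exact (T.a x y h).2.2

theorem Tab.out {q : ℕ} (hq : q < D.nroots) (hd : (r : ℤ) ∣ vec D l q i) (hn : vec D l q ∉ SR D l ρ) {x y : Fin r}
    (h : x ≠ y) : q ≠ ρ x y ∧ q ≠ D.neg (ρ x y) ∧ D.commTerms (ρ x y) q = [] := by
  refine ⟨fun e => hn ⟨x, y, h, by rw [e]⟩, fun e => hn ⟨y, x, h.symm, by rw [e, T.neg h]⟩, ?_⟩
  rcases T.b q hq hd with ⟨a, b, hab, e⟩ | h1
  · exact absurd ⟨a, b, hab, by rw [e]⟩ hn
  · exact h1 x y h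

/-- the neighbours in `Ψ` of a root of the block lie in the block -/
theorem Tab.nb {a b : Fin l → ℤ} (ha : a ∈ SR D l ρ) (hb : IsRoot M.toCoxeterSystem hp.isCartan b)
    (hd : (r : ℤ) ∣ b i) (hab : IsRoot M.toCoxeterSystem hp.isCartan (a + b)) : b ∈ SR D l ρ := by
  by_contra hn
  obtain ⟨x, y, h, rfl⟩ := ha
  obtain ⟨q, hq, rfl⟩ := (isRoot_iff hp _ _).1 hb
  obtain ⟨u, hu, e⟩ := (isRoot_iff hp _ _).1 hab
  have h1 := H460.OT.chainRoot_of_vec hp hp.inList (T.lt h) hq hu e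
  have h2 := (T.out hq hd hn h).2.2
  unfold ChevalleyDatum.commTerms at h2
  simp only [h1, List.filterMap_cons, Option.map_some] at h2
  exact List.cons_ne_nil _ _ h2

/-- **The block is canonical.** -/
theorem Tab.can (g : (Fin l → ℤ) ≃+ (Fin l → ℤ))
    (hr : ∀ a, IsRoot M.toCoxeterSystem hp.isCartan (g a) ↔ IsRoot M.toCoxeterSystem hp.isCartan a)
    (hd : ∀ a, IsRoot M.toCoxeterSystem hp.isCartan a → ((r : ℤ) ∣ g a i ↔ (r : ℤ) ∣ a i)) {a : Fin l → ℤ}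
    (ha : a ∈ SR D l ρ) : g a ∈ SR D l ρ := by
  classical
  have h1 := T.root hp ha
  obtain ⟨q, hq, e⟩ := (isRoot_iff hp _ _).1 ((hr a).2 h1)
  have h2 : (r : ℤ) ∣ rt D q i := by
    have h3 := (hd a h1).2 (T.dvd ha)
    rwa [← e] at h3
  rcases T.c q hq h2 with ⟨x, y, h, e'⟩ | ⟨hnd, hlen, hw⟩
  · exact ⟨x, y, h, by rw [← e, e']⟩
  exfalso
  have h3 : ∀ s ∈ (wit D r i q).map Prod.fst, s < D.nroots ∧ g.symm (vec D l s) ∈ SR D l ρ := by
    intro s hs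
    obtain ⟨w, hw', rfl⟩ := List.mem_map.1 hs
    obtain ⟨b1, b2, b3, b4⟩ := hw w hw'
    have b5 : IsRoot M.toCoxeterSystem hp.isCartan (g.symm (vec D l w.1)) := by
      rw [← hr, AddEquiv.apply_symm_apply]
      exact isRoot_vec hp _ b1
    refine ⟨b1, T.nb hp ha b5 ?_ ?_⟩
    · rw [← hd _ b5, AddEquiv.apply_symm_apply]
      exact b3
    · rw [← hr, map_add, AddEquiv.apply_symm_apply, ← e]
      have b6 : vec D l q + vec D l w.1 = vec D l w.2 := funext fun j => (b4 j (lt_rank hp j)).symm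
      rw [b6]
      exact isRoot_vec hp _ b2
  have h4 : (((wit D r i q).map Prod.fst).map fun s => g.symm (vec D l s)).Nodup := by
    refine List.Nodup.map_on (fun s hs t ht hst => ?_) hnd
    exact vec_inj hp (h3 s hs).1 (h3 t ht).1 (g.symm.injective hst)
  have h5 : (((wit D r i q).map Prod.fst).map fun s => g.symm (vec D l s)).toFinset ⊆
      (Finset.univ : Finset (Fin r)).offDiag.image fun xy => vec D l (ρ xy.1 xy.2) := by
    intro b hb
    obtain ⟨s, hs, rfl⟩ := List.mem_map.1 (List.mem_toFinset.1 hb)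
    obtain ⟨x, y, h, e'⟩ := (h3 s hs).2
    exact Finset.mem_image.2 ⟨(x, y), Finset.mem_offDiag.2 ⟨Finset.mem_univ _, Finset.mem_univ _, h⟩, e'.symm⟩
  have h6 := (Finset.card_le_card h5).trans Finset.card_image_le
  rw [List.toFinset_card_of_nodup h4, List.length_map, List.length_map, hlen, Finset.offDiag_card, Finset.card_univ,
    Fintype.card_fin] at h6
  omega

end Comb

variable {D : ChevalleyDatum} {l : ℕ} {M : CoxeterMatrix (Fin l)} (hp : IsType D l M) (p : ℕ) [Fact p.Prime]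

/-- **The data** -/
structure JD (r : ℕ) (i : Fin l) (ρ : Fin r → Fin r → ℕ) (cf : List (ℕ × ℤ))
    (ψ : Matrix.SpecialLinearGroup (Fin r) (KK p) →* YY D p) : Prop where
  prime : r.Prime
  ne : r ≠ p
  le : r ≤ 7
  tab : Tab D r i ρ cf
  tv : ∀ a b (hab : a ≠ b) c, ψ (transvection hab c) = xs hp.inList (ρ a b) c
  pos : ∃ a b, a ≠ b ∧ ∃ m : ℕ, m.Coprime r ∧ ∀ g : (Fin l → ℤ) ≃+ (Fin l → ℤ), (∀ x ∈ SR D l ρ, g x ∈ SR D l ρ) →
    (∀ x ∈ SR D l ρ, 0 ≤ x → 0 ≤ g x) → g (vec D l (ρ a b)) = vec D l (ρ a b) ∧ ∀ x ∈ SR D l ρ, g^[m] x = x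

variable {hp p}

theorem Std.mem_Ps {r : ℕ} {ζ : KK p} (hζ : IsPrimitiveRoot ζ r) {i : Fin l} {t : YY D p} (ht : Std hp p ζ i t)
    {a : Fin l → ℤ} : a ∈ Ps hp p {t} ↔ IsRoot M.toCoxeterSystem hp.isCartan a ∧ (r : ℤ) ∣ a i := by
  rw [Nt.mem_Ps (Set.singleton_subset_iff.2 ht.1)]
  refine and_congr_right fun _ => ?_
  rw [← hζ.zpow_eq_one_iff_dvd, ← ht.2]
  exact ⟨fun h => h t rfl, fun h s hs => by rw [hs, h]⟩

theorem Std.ne_one {r : ℕ} (hr : r.Prime) {ζ : KK p} (hζ : IsPrimitiveRoot ζ r) {i : Fin l} {t : YY D p}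
    (ht : Std hp p ζ i t) : t ≠ 1 := by
  rintro rfl
  have h := ht.2 (sr i)
  rw [cX_one, sr_self, zpow_one] at h
  exact hζ.ne_one hr.one_lt h.symm

theorem Std.pow_eq {r : ℕ} {ζ : KK p} (hζ : IsPrimitiveRoot ζ r) {i : Fin l} {t : YY D p}
    (ht : Std hp p ζ i t) : t ^ r = 1 :=
  pow_eq_one_of_cX (hp := hp) ht.1 fun x => by rw [ht.2, ← zpow_natCast, ← zpow_mul, mul_comm, zpow_mul, zpow_natCast,
    hζ.pow_eq_one, one_zpow]

/-- a frame automorphism mapping `t` to `t'` maps the roots trivial on `t` to the roots trivial on `t'` -/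
theorem fr_cX_one {α : MulAut (YY D p)} {g : (Fin l → ℤ) ≃+ (Fin l → ℤ)}
    (F : Fr M.toCoxeterSystem hp.isCartan (TT D (KK p)) (XX D l (KK p)) α g) {t : YY D p} (ht : t ∈ TT D (KK p))
    {a : Fin l → ℤ} (ha : IsRoot M.toCoxeterSystem hp.isCartan a) (h : cX hp t a = 1) : cX hp (α t) (g a) = 1 := by
  have h1 := (F.root a).2 ha
  have h2 := xc_mem (hp := hp) ha (1 : KK p)
  obtain ⟨c, hc⟩ := (mem_X (hp := hp) h1).1 ((F.map a ha _).2 h2)
  have h3 := congrArg α (comm_X ht ha h h2)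
  rw [map_mul, map_mul, ← hc] at h3
  refine cX_eq_one_of_comm ((F.tor t).2 ht) h1 (c := c) ?_ h3
  rintro rfl
  obtain ⟨s, hs, e⟩ := (isRoot_iff hp _ _).1 ha
  obtain ⟨s', hs', e'⟩ := (isRoot_iff hp _ _).1 h1
  rw [← e', ← e, ← xs_eq_xc hp hs, ← xs_eq_xc hp hs', xs_zero hp, eq_comm, MulEquiv.map_eq_one_iff, ← xs_zero hp s] at hc
  exact one_ne_zero (xs_inj hp hs hc)

namespace JD

variable {r : ℕ} {i : Fin l} {ρ : Fin r → Fin r → ℕ} {cf : List (ℕ × ℤ)}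
  {ψ : Matrix.SpecialLinearGroup (Fin r) (KK p) →* YY D p} (J : JD hp p r i ρ cf ψ)

include J

theorem nontriv : Nontrivial (Fin r) := Fin.nontrivial_iff_two_le.2 J.prime.two_le

theorem range_le {K : Subgroup (YY D p)} (h : ∀ a b (hab : a ≠ b) c, ψ (transvection hab c) ∈ K) : ψ.range ≤ K := by
  rintro _ ⟨g, rfl⟩
  have := J.nontriv
  exact LieClassical.SLGen.transvection_induction (fun g => ψ g ∈ K) h
    (fun a b ha hb => by rw [map_mul]; exact mul_mem ha hb) g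

theorem X_le {a : Fin l → ℤ} (ha : a ∈ SR D l ρ) : XX D l (KK p) a ≤ ψ.range := by
  intro y hy
  obtain ⟨c, rfl⟩ := (mem_X (hp := hp) (J.tab.root hp ha)).1 hy
  obtain ⟨u, v, h, rfl⟩ := ha
  exact ⟨transvection h c, by rw [J.tv, xs_eq_xc hp (J.tab.lt h)]⟩

theorem range_eq : ψ.range = RGD.Sup (XX D l (KK p)) (SR D l ρ) := by
  refine le_antisymm (J.range_le fun a b hab c => ?_) (RGD.Sup_le fun a ha => J.X_le ha)
  rw [J.tv]
  exact RGD.le_Sup (S := SR D l ρ) ⟨a, b, hab, rfl⟩ (xs_mem hp (J.tab.lt hab) c)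

theorem mem_cen_of {y : YY D p} (h : ∀ a b, a ≠ b → ∀ c, xs hp.inList (ρ a b) c * y = y * xs hp.inList (ρ a b) c) :
    y ∈ Subgroup.centralizer (ψ.range : Set (YY D p)) := by
  have h1 : ψ.range ≤ Subgroup.centralizer {y} := J.range_le fun a b hab c => by
    rw [Subgroup.mem_centralizer_singleton_iff, J.tv]
    exact h a b hab c
  exact Subgroup.mem_centralizer_iff.2 fun u hu => Subgroup.mem_centralizer_singleton_iff.1 (h1 hu)

/-- the other root groups of `Ψ` centralise `J₀` -/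
theorem comm_out {b : Fin l → ℤ} (hb : IsRoot M.toCoxeterSystem hp.isCartan b) (hd : (r : ℤ) ∣ b i)
    (hn : b ∉ SR D l ρ) : XX D l (KK p) b ≤ Subgroup.centralizer (ψ.range : Set (YY D p)) := by
  intro y hy
  obtain ⟨c, rfl⟩ := (mem_X (hp := hp) hb).1 hy
  obtain ⟨q, hq, rfl⟩ := (isRoot_iff hp _ _).1 hb
  refine J.mem_cen_of fun u v h d => ?_
  obtain ⟨h1, h2, h3⟩ := J.tab.out hq hd hn h
  rw [← xs_eq_xc hp hq]
  exact Subtype.ext (KFacts.Mult.Chev.commute_of_empty hp (J.tab.lt h) hq h1 h2 (by rw [h3]; rfl) d c).symm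

/-- the elements of the torus centralising `J₀` -/
theorem T_cen_iff {x : YY D p} (hx : x ∈ TT D (KK p)) :
    x ∈ Subgroup.centralizer (ψ.range : Set (YY D p)) ↔ ∀ a ∈ SR D l ρ, cX hp x a = 1 := by
  constructor
  · intro h a ha
    have h1 := J.tab.root hp ha
    exact cX_eq_one_of_comm hx h1 one_ne_zero
      (Subgroup.mem_centralizer_iff.1 h _ (J.X_le ha (xc_mem (hp := hp) h1 1))).symm
  · intro h
    refine J.mem_cen_of fun u v huv c => ?_
    exact (comm_X hx (isRoot_vec hp _ (J.tab.lt huv)) (h _ ⟨u, v, huv, rfl⟩) (xs_mem hp (J.tab.lt huv) c)).symm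

theorem std_cen {ζ : KK p} (hζ : IsPrimitiveRoot ζ r) {t : YY D p} (ht : Std hp p ζ i t) :
    t ∈ Subgroup.centralizer (ψ.range : Set (YY D p)) :=
  (J.T_cen_iff ht.1).2 fun a ha => by rw [ht.2, hζ.zpow_eq_one_iff_dvd]; exact J.tab.dvd ha

theorem ps_mem {a b : Fin r} (h : a ≠ b) (g : Matrix.SpecialLinearGroup (Fin 2) (KK p)) :
    ps hp (J.tab.lt h) g ∈ ψ.range := by
  have h1 : Subgroup.closure (Set.range (SL2Hom.up (F := KK p)) ∪ Set.range (SL2Hom.lo (F := KK p))) ≤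
      ψ.range.comap (ps hp (J.tab.lt h)) := by
    rw [Subgroup.closure_le]
    rintro _ (⟨c, rfl⟩ | ⟨c, rfl⟩)
    · show ps hp (J.tab.lt h) (SL2Hom.up c) ∈ ψ.range
      rw [ps_up, ← J.tv a b h]
      exact ⟨_, rfl⟩
    · show ps hp (J.tab.lt h) (SL2Hom.lo c) ∈ ψ.range
      rw [ps_lo, ← J.tab.neg h, ← J.tv b a h.symm]
      exact ⟨_, rfl⟩
  exact h1 (SL2Hom.mem_closure_SL2 g)

theorem exists_h {ζ : KK p} (h0 : ζ ≠ 0) (L : List (ℕ × ℤ)) (hL : ∀ e ∈ L, InS ρ e.1) :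
    ∃ t ∈ TT D (KK p), t ∈ ψ.range ∧ ∀ j : Fin l, cX hp t (sr j) =
      ζ ^ (L.map fun e => e.2 * RootCombGood.car D e.1 (D.simple j)).sum := by
  induction L with
  | nil => exact ⟨1, one_mem _, one_mem _, fun j => by rw [cX_one, List.map_nil, List.sum_nil, zpow_zero]⟩
  | cons e L ih =>
    obtain ⟨t, ht, ht', h⟩ := ih fun e' he' => hL e' (List.mem_cons_of_mem _ he')
    obtain ⟨a, b, hab, e1⟩ := hL e List.mem_cons_self
    have h1 : ζ ^ e.2 ≠ 0 := zpow_ne_zero _ h0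
    have h2 := ps_hS_mem (k := KK p) hp (J.tab.lt hab) h1
    refine ⟨ps hp (J.tab.lt hab) (hS (ζ ^ e.2)) * t, mul_mem h2 ht, mul_mem (J.ps_mem hab _) ht', fun j => ?_⟩
    rw [cX_mul hp h2 ht, h, cX_hS hp M.toCoxeterSystem (locFin p) p (J.tab.lt hab) h1, ← vec_simple hp j,
      KFacts.ChevTwoInst.cpr_vec hp _ (J.tab.lt hab) _ (NPerm.simple_lt hp.inList (lt_rank hp j)), List.map_cons,
      List.sum_cons, zpow_add₀ h0, zpow_mul, e1]

/-- the standard elements lie in `J₀` -/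
theorem std_mem {ζ : KK p} (hζ : IsPrimitiveRoot ζ r) {t : YY D p} (ht : Std hp p ζ i t) : t ∈ ψ.range := by
  have h0 := hζ.ne_zero J.prime.ne_zero
  obtain ⟨s, hs, hs', h⟩ := J.exists_h h0 cf J.tab.d.1
  have h1 : t = s := by
    refine cX_inj hp ht.1 hs fun j => ?_
    have h2 := (hζ.zpow_eq_one_iff_dvd _).2 (J.tab.d.2 j (lt_rank hp j))
    rw [zpow_sub₀ h0, div_eq_one_iff_eq (zpow_ne_zero _ h0)] at h2
    rw [h, h2, ht.2]
    congr 1
    by_cases hj : j = i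
    · rw [hj, sr_self, if_pos rfl]
    · rw [sr_ne (Ne.symm hj), if_neg fun e => hj (Fin.ext e)]
  rw [h1]
  exact hs'

theorem tv_inj {a b : Fin r} (h : a ≠ b) {c d : KK p} (e : ψ (transvection h c) = ψ (transvection h d)) : c = d := by
  rw [J.tv, J.tv] at e
  exact xs_inj hp (J.tab.lt h) e

theorem cen_of {g : Matrix.SpecialLinearGroup (Fin r) (KK p)}
    (h : ψ g ∈ Subgroup.centralizer (ψ.range : Set (YY D p))) : g ∈ Subgroup.center _ := by
  have hN : ((Subgroup.centralizer (ψ.range : Set (YY D p))).comap ψ).Normal := ⟨fun n hn g => by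
    rw [Subgroup.mem_comap] at hn ⊢
    rw [map_mul, map_mul, map_inv, mem_cen.1 hn g, mul_inv_cancel_right]
    exact hn⟩
  rcases sl_normal J.prime.two_le ((Subgroup.centralizer (ψ.range : Set (YY D p))).comap ψ) with h1 | h1
  · exact h1 h
  · exfalso
    have h2 : commutator (Matrix.SpecialLinearGroup (Fin r) (KK p)) ≤ ψ.ker := by
      rw [commutator_def, Subgroup.commutator_le]
      intro a _ b _
      have h3 : b ∈ (Subgroup.centralizer (ψ.range : Set (YY D p))).comap ψ := by rw [h1]; exact Subgroup.mem_top _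
      rw [MonoidHom.mem_ker, map_commutatorElement, commutatorElement_eq_one_iff_mul_comm]
      exact mem_cen.1 h3 a
    rw [sl_perfect J.prime.two_le] at h2
    have := J.nontriv
    obtain ⟨a, b, hab⟩ := exists_pair_ne (Fin r)
    have h4 : ψ (transvection hab 1) = 1 := h2 (Subgroup.mem_top _)
    rw [← map_one ψ, ← Matrix.SpecialLinearGroup.transvection_coeff_zero hab] at h4
    exact one_ne_zero (J.tv_inj hab h4)

theorem inj {ζ : KK p} (hζ : IsPrimitiveRoot ζ r) {t : YY D p} (ht : Std hp p ζ i t) : Function.Injective ψ := by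
  rw [injective_iff_map_eq_one]
  intro v hv
  by_contra h1
  obtain ⟨u, hu⟩ := J.std_mem hζ ht
  obtain ⟨a, ha⟩ := cen_cyc J.prime (J.cen_of (by rw [hv]; exact one_mem _)) h1
    (J.cen_of (g := u) (by rw [hu]; exact J.std_cen hζ ht))
  apply ht.ne_one J.prime hζ
  rw [← hu, ha, map_pow, hv, one_pow]

theorem frame_S {α : MulAut (YY D p)} {g : (Fin l → ℤ) ≃+ (Fin l → ℤ)}
    (F : Fr M.toCoxeterSystem hp.isCartan (TT D (KK p)) (XX D l (KK p)) α g) {ζ ζ' : KK p} (hζ : IsPrimitiveRoot ζ r)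
    (hζ' : IsPrimitiveRoot ζ' r) {t : YY D p} (ht : Std hp p ζ i t) (ht' : Std hp p ζ' i (α t)) {a : Fin l → ℤ}
    (ha : a ∈ SR D l ρ) : g a ∈ SR D l ρ := by
  refine J.tab.can hp g F.root (fun b hb => ?_) ha
  have e1 : cX hp t b = 1 ↔ (r : ℤ) ∣ b i := by rw [ht.2, hζ.zpow_eq_one_iff_dvd]
  have e2 : cX hp (α t) (g b) = 1 ↔ (r : ℤ) ∣ g b i := by rw [ht'.2, hζ'.zpow_eq_one_iff_dvd]
  refine ⟨fun h => e1.1 ?_, fun h => e2.1 (fr_cX_one F ht.1 hb (e1.2 h))⟩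
  have h1 := fr_cX_one F.inv ht'.1 ((F.root b).2 hb) (e2.2 h)
  rwa [MulAut.inv_apply_self, AddEquiv.symm_apply_apply] at h1

theorem frame {α : MulAut (YY D p)} {g : (Fin l → ℤ) ≃+ (Fin l → ℤ)}
    (F : Fr M.toCoxeterSystem hp.isCartan (TT D (KK p)) (XX D l (KK p)) α g) {ζ ζ' : KK p} (hζ : IsPrimitiveRoot ζ r)
    (hζ' : IsPrimitiveRoot ζ' r) {t : YY D p} (ht : Std hp p ζ i t) (ht' : Std hp p ζ' i (α t)) {y : YY D p}
    (hy : y ∈ ψ.range) : α y ∈ ψ.range := by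
  rw [J.range_eq] at hy
  have h1 : RGD.Sup (XX D l (KK p)) (SR D l ρ) ≤ ψ.range.comap α.toMonoidHom := RGD.Sup_le fun a ha u hu =>
    J.X_le (J.frame_S F hζ hζ' ht ht' ha) ((F.map a (J.tab.root hp ha) u).2 hu)
  exact h1 hy

/-- the group generated by the root groups of `Ψ` acts by inner automorphisms -/
theorem Mz_inn {ζ : KK p} (hζ : IsPrimitiveRoot ζ r) {t : YY D p} (ht : Std hp p ζ i t) {m : YY D p}
    (hm : m ∈ Mz hp p {t}) : ∃ j, Inn ψ m j := by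
  let K : Subgroup (YY D p) :=
    { carrier := {m | ∃ j, Inn ψ m j}
      one_mem' := ⟨1, Inn.of_cen (one_mem _)⟩
      mul_mem' := by
        rintro _ _ ⟨j, hj⟩ ⟨j', hj'⟩
        exact ⟨_, hj.mul hj'⟩
      inv_mem' := by
        rintro _ ⟨j, hj⟩
        exact ⟨_, hj.inv⟩ }
  refine (Mz_le (K := K) fun a ha y hy => ?_) hm
  obtain ⟨h1, h2⟩ := (ht.mem_Ps hζ).1 ha
  by_cases h3 : a ∈ SR D l ρ
  · obtain ⟨j, rfl⟩ := J.X_le h3 hy
    exact ⟨j, Inn.self j⟩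
  · exact ⟨1, Inn.of_cen (J.comm_out h1 h2 h3 hy)⟩

/-- **The key lemma.** -/
theorem key {β : MulAut (YY D p)} {g : (Fin l → ℤ) ≃+ (Fin l → ℤ)}
    (F : Fr M.toCoxeterSystem hp.isCartan (TT D (KK p)) (XX D l (KK p)) β g) {ζ ζ' : KK p} (hζ : IsPrimitiveRoot ζ r)
    (hζ' : IsPrimitiveRoot ζ' r) {t y : YY D p} (ht : Std hp p ζ i t) (ht' : Std hp p ζ' i (y * β t * y⁻¹))
    {u : YY D p} (hu : u ∈ ψ.range) : y * β u * y⁻¹ ∈ ψ.range := by
  obtain ⟨m, hm, w, k, hk, hks, e⟩ := form₂ hp (ι := Unit) (s := fun _ => β t) (t := fun _ => y * β t * y⁻¹)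
    (fun _ => (F.tor t).2 ht.1) (fun _ => ht'.1) (c := y) (fun _ => by group)
  rw [Set.range_const] at hm
  obtain ⟨j, hj⟩ := J.Mz_inn hζ' ht' hm
  have h1 : (MulAut.conj k * β) t = y * β t * y⁻¹ := by
    show k * β t * k⁻¹ = _
    rw [hks (), mul_inv_cancel_right]
  obtain ⟨v, hv⟩ := J.frame (hk.fr.mul F) hζ hζ' ht (by rw [h1]; exact ht') hu
  have h2 : ψ v = k * β u * k⁻¹ := hv
  refine ⟨j * v * j⁻¹, ?_⟩
  rw [← hj v, h2, e]
  group

end JD

end Cfsg.Agent.DS.Nt
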