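import Cfsg.Agent.DS.Nt.JGen

/-!
# S5881, the non-toral local case: the subgroups `J z ≅ SL₂(k)` of the highest root (helper55)

* `js_two`; `boxJ2_of` : `BoxJ2` from the classes of the involutions of the torus of `E₈`.
-/

set_option autoImplicit false
set_option linter.unusedSectionVars false

namespace Cfsg.Agent.DS.Nt

open CoxeterSystem Cfsg Cfsg.Lie Cfsg.Lie.ChevalleyDatum
open Cfsg.Agent.ChevalleyStructure Cfsg.Agent.ChevalleyStructure.Elts Cfsg.Agent.ChevalleyStructure.CoxeterGeom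
  Cfsg.Agent.ChevalleyStructure.CoxeterGeomTypes Cfsg.Agent.ChevalleyStructure.RootVec
open Cfsg.Agent.Tits.Roots Cfsg.Agent.Tits.Core Cfsg.Agent.Nodes Cfsg.Agent.Nodes.RGDChev
open Cfsg.Agent.KFacts.RgdField Cfsg.Agent.KFacts.RgdChevCoord
open Cfsg.Agent.H469.Exc Cfsg.Agent.H469.Exc.SigFr Cfsg.Agent.H129.TorusChar Cfsg.Agent.DS.Ex
open Cfsg.Agent.H81.TorOrth
open Cfsg.Agent.ChevalleyStructure.SL2Hom (up lo)
open Matrix.SpecialLinearGroup (transvection)

theorem tv_up {k : Type*} [Field k] (h : (0 : Fin 2) ≠ 1) (c : k) : transvection h c = up c := by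
  apply Subtype.ext
  show (1 : Matrix (Fin 2) (Fin 2) k) + Matrix.single 0 1 c = !![1, c; 0, 1]
  ext i j
  fin_cases i <;> fin_cases j <;> simp

theorem tv_lo {k : Type*} [Field k] (h : (1 : Fin 2) ≠ 0) (c : k) : transvection h c = lo c := by
  apply Subtype.ext
  show (1 : Matrix (Fin 2) (Fin 2) k) + Matrix.single 1 0 c = !![1, 0; c, 1]
  ext i j
  fin_cases i <;> fin_cases j <;> simp

theorem js_two {D : ChevalleyDatum} {l : ℕ} {M : CoxeterMatrix (Fin l)} (hp : IsType D l M) (p : ℕ) [Fact p.Prime]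
    (h2p : p ≠ 2) {i : Fin l} {cf : List (ℕ × ℤ)} (T : Tab D 2 i (rho2 D) cf)
    (h : ∀ j < D.rank, 0 ≤ rt D (D.nroots - 1) j) (h8 : D = chevE8 → Q8 hp p i) : ∃ J, JS hp p 2 i J := by
  have h01 : (0 : Fin 2) ≠ 1 := by decide
  have hs : D.nroots - 1 < D.nroots := T.lt h01
  have h6 : ∀ a b : Fin 2, a ≠ b → (a = 0 ∧ b = 1) ∨ (a = 1 ∧ b = 0) := by decide
  have m1 : vec D l (D.nroots - 1) ∈ SR D l (rho2 D) := ⟨0, 1, h01, rfl⟩
  have hall : ∀ x ∈ SR D l (rho2 D), x = vec D l (D.nroots - 1) ∨ x = -vec D l (D.nroots - 1) := by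
    rintro _ ⟨a, b, hab, rfl⟩
    rcases h6 a b hab with ⟨rfl, rfl⟩ | ⟨rfl, rfl⟩
    · exact Or.inl rfl
    · exact Or.inr (by rw [T.neg h01]; exact vec_neg hp hs)
  have h0 : 0 ≤ vec D l (D.nroots - 1) := fun j => h j (lt_rank hp j)
  have J : JD hp p 2 i (rho2 D) cf (ps hp hs) := by
    refine ⟨Nat.prime_two, h2p.symm, by norm_num, T, fun a b hab c => ?_, 0, 1, h01, 1, by norm_num, fun g hg hpos => ?_⟩
    · rcases h6 a b hab with ⟨rfl, rfl⟩ | ⟨rfl, rfl⟩
      · rw [tv_up, ps_up]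
        rfl
      · rw [tv_lo, ps_lo, T.neg h01]
        rfl
    · have h1 : g (vec D l (D.nroots - 1)) = vec D l (D.nroots - 1) := by
        refine (hall _ (hg _ m1)).resolve_right fun e => ?_
        have h2 := hpos _ m1 h0
        rw [e] at h2
        exact (T.root hp m1).not_pos_neg h0 (neg_nonneg.1 h2)
      refine ⟨h1, fun x hx => ?_⟩
      show g x = x
      rcases hall x hx with e | e
      · rw [e, h1]
      · rw [e, map_neg, h1]
  refine ⟨_, J.js fun hD _ ζ t hζ ht x hx hx2 => ?_⟩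
  have h1 : (∀ a ∈ SR D l (rho2 D), cX hp x a = 1) ↔ cX hp x (vec D l (D.nroots - 1)) = 1 := by
    refine ⟨fun h => h _ m1, fun h a ha => ?_⟩
    rcases hall a ha with e | e
    · rw [e, h]
    · rw [e, (isMC_cX hp hx).neg, h, inv_one]
  rw [h1]
  exact h8 hD ζ t hζ ht x hx hx2

theorem tab_F4_2 : Tab chevF4 2 3 (rho2 chevF4) [(47, 1)] :=
  ⟨by decide +kernel, by decide +kernel, by decide +kernel, by decide +kernel⟩

theorem tab_E6_2 : Tab chevE6 2 1 (rho2 chevE6) [(71, 1)] :=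
  ⟨by decide +kernel, by decide +kernel, by decide +kernel, by decide +kernel⟩

theorem tab_E7_2 : Tab chevE7 2 0 (rho2 chevE7) [(125, 1)] :=
  ⟨by decide +kernel, by decide +kernel, by decide +kernel, by decide +kernel⟩

theorem tab_E8_2 : Tab chevE8 2 7 (rho2 chevE8) [(239, 1)] :=
  ⟨by decide +kernel, by decide +kernel, by decide +kernel, by decide +kernel⟩

/-- **[J2]** from the table of `E₈` -/
theorem boxJ2_of (h8 : ∀ (M : CoxeterMatrix (Fin 8)) (hp : IsType chevE8 8 M) (p : ℕ) [Fact p.Prime], p ≠ 2 →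
    Q8 hp p 7) : BoxJ2 := by
  intro D l M hp p _ h2 i hD
  have hne : ∀ {D : ChevalleyDatum}, D.rank ≠ 8 → D ≠ chevE8 := by
    rintro D h rfl
    exact h (by decide +kernel)
  rcases hD with ⟨rfl, hi⟩ | ⟨rfl, hi⟩ | ⟨rfl, hi⟩ | ⟨rfl, hi⟩
  · exact js_two hp p h2 (cf := [(47, 1)]) (by rw [hi]; exact tab_F4_2) (by decide +kernel)
      fun h => absurd h (hne (by decide +kernel))
  · exact js_two hp p h2 (cf := [(71, 1)]) (by rw [hi]; exact tab_E6_2) (by decide +kernel)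
      fun h => absurd h (hne (by decide +kernel))
  · exact js_two hp p h2 (cf := [(125, 1)]) (by rw [hi]; exact tab_E7_2) (by decide +kernel)
      fun h => absurd h (hne (by decide +kernel))
  · obtain rfl := (typ_l hp).2.2.2 rfl
    obtain rfl : i = 7 := Fin.ext hi
    exact js_two hp p h2 (cf := [(239, 1)]) tab_E8_2 (by decide +kernel) fun _ => h8 M hp p h2

end Cfsg.Agent.DS.Nt
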