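import Cfsg.Agent.DS.Nt.Glue
import Cfsg.Agent.DS.NT.Two
import Cfsg.Agent.DS.Lin.Main

/-!
# S5881, exceptional groups, the non-toral local case: the structure theorems and the assembly (helper86)

* `loc_cases` : for `Loc S H E r` with all pairs of `E` toral, `OutA` (a toral subgroup of `E` has no roots) or `OutB`
  (the centraliser of `E` in `S` is elementary abelian);
* `rad_cases` : an `H`-invariant `r`-subgroup contains such an `E` in its centre or it is small and elementary abelian;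
* `boxNonTor_of`.
-/

set_option autoImplicit false
set_option linter.unusedSectionVars false

namespace Cfsg.Agent.DS.Nt

open CoxeterSystem Cfsg Cfsg.Lie Cfsg.Lie.ChevalleyDatum
open Cfsg.Agent.ChevalleyStructure Cfsg.Agent.ChevalleyStructure.Elts Cfsg.Agent.ChevalleyStructure.CoxeterGeom
  Cfsg.Agent.ChevalleyStructure.CoxeterGeomTypes
open Cfsg.Agent.Tits.Roots Cfsg.Agent.Tits.Core Cfsg.Agent.Nodes Cfsg.Agent.Nodes.Reps Cfsg.Agent.Nodes.BNOf
  Cfsg.Agent.Nodes.RGDChev Cfsg.Agent.Nodes.Bruhat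
open Cfsg.Agent.KFacts.RgdField Cfsg.Agent.KFacts.RgdChevCoord
open Cfsg.Agent.BpExc Cfsg.Agent.BpExc.TorCent Cfsg.Agent.BpExc.TorChev Cfsg.Agent.BpExc.Tow
  Cfsg.Agent.BpExc.TowChev Cfsg.Agent.BpExc.Fr Cfsg.Agent.BpExc.LangFr
open Cfsg.Agent.H469.Exc Cfsg.Agent.H795.SetCent Cfsg.Agent.H129.TorusChar Cfsg.Agent.DS.Ex
open Cfsg.Agent.H185.EE Cfsg.Agent.H931.KC Cfsg.Agent.H936

section Gen

variable {D : ChevalleyDatum} {l : ℕ} {M : CoxeterMatrix (Fin l)} {hp : IsType D l M} {p : ℕ} [Fact p.Prime]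

theorem dd_one (hp : IsType D l M) : dd p (1 : YY D p) = l + D.nroots := by
  classical
  rw [dd_tor hp (one_mem _), Finset.filter_true_of_mem fun s _ => cX_one hp _, Finset.card_univ, Fintype.card_fin]

theorem om_iff {A : Subgroup (YY D p)} {r d : ℕ} {i : Fin l} (h1 : l + nri D l r i = d) (h2 : l + D.nroots ≠ d)
    (h : ∀ e ∈ A, e ≠ 1 → dd p e = d → e ∈ Om hp p r i) : ∀ e ∈ A, e ∈ Om hp p r i ↔ dd p e = d :=
  fun e he => ⟨fun h3 => by rw [dd_Om h3, h1], fun h3 => h e he (fun h4 => h2 (by rw [← h3, h4, dd_one hp])) h3⟩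

theorem noroot (hp : IsType D l M) {r d n : ℕ} {A : Subgroup (YY D p)} (h : EL p r A) (hn : Nat.card A = n)
    (hd : ∀ e ∈ A, e ≠ 1 → dd p e = d) (h0 : ((r : ℤ) - 1) * n ≠ 0)
    (h1 : ((r : ℤ) - 1) * n * l = n * (r * d - (l + D.nroots : ℕ)) + r * ((l + D.nroots : ℕ) - d)) :
    Module.finrank (KK p) (Fx p (A : Set (YY D p))) = l := by
  have h2 := pure_eq hp h hd
  rw [hn, ← h1] at h2
  exact_mod_cast mul_left_cancel₀ h0 h2

variable {G : Type} [Group G] [Finite G] {S H E : Subgroup G}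

/-- the first outcome: a toral subgroup of `E` has no roots -/
def OutA (L : Lift hp p S) (E : Subgroup G) (r : ℕ) : Prop :=
  (∃ A ≤ im L E, Toral p A ∧ Module.finrank (KK p) (Fx p (A : Set (YY D p))) = l) ∧
    (D = chevF4 ∧ r = 3 ∧ Nat.card E ≤ 3 ^ 3 ∨ D = chevE6 ∧ r = 3 ∧ Nat.card E ≤ 3 ^ 4 ∨
      D = chevE8 ∧ r = 5 ∧ Nat.card E ≤ 5 ^ 3 ∨ D = chevE8 ∧ r = 2 ∧ Nat.card E ≤ 2 ^ 5)

/-- the second outcome: the centraliser of `E` in `S` is elementary abelian -/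
def OutB (L : Lift hp p S) (E : Subgroup G) (r : ℕ) : Prop :=
  (∃ (i : Fin l) (d : ℕ) (J : YY D p → Subgroup (YY D p)), JS hp p r i J ∧
    (∀ e ∈ im L E, e ∈ Om hp p r i ↔ dd p e = d) ∧ DOut L E r d J) ∧
    (D = chevF4 ∧ r = 2 ∧ Nat.card E ≤ 2 ^ 8 ∨ D = chevE6 ∧ r = 2 ∧ Nat.card E ≤ 2 ^ 4 ∨
      D = chevE7 ∧ r = 2 ∧ Nat.card E ≤ 2 ^ 7 ∨ D = chevE7 ∧ r = 3 ∧ Nat.card E ≤ 3 ^ 3 ∨
      D = chevE8 ∧ r = 2 ∧ Nat.card E ≤ 2 ^ 6 ∨ D = chevE8 ∧ r = 3 ∧ Nat.card E ≤ 3 ^ 7)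

theorem exists_ne_im (L : Lift hp p S) {r : ℕ} (hL : Loc S H E r) : ∃ e ∈ im L E, e ≠ 1 := by
  obtain ⟨⟨x, hx⟩, hx1⟩ := (Subgroup.ne_bot_iff_exists_ne_one).1 (im_ne_bot (L := L) hL.le_S hL.ne_bot)
  exact ⟨x, hx, fun e => hx1 (Subtype.ext e)⟩

end Gen

section Types

variable {p : ℕ} [Fact p.Prime] {G : Type} [Group G] [Finite G] {S H E : Subgroup G} {r : ℕ}

theorem loc_F4 (hJ2 : BoxJ2) (hP4 : BoxP4) {M : CoxeterMatrix (Fin 4)} {hp : IsType chevF4 4 M} {L : Lift hp p S}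
    (C : Ctx L H) (hL : Loc S H E r) (hE : EA p r (im L E)) : OutA L E r ∨ OutB L E r := by
  have hi := fun e he h1 => iso_F4 hE.prime (C.iso hL hE (e := e) he h1)
  have hnt := C.not_toral hL
  obtain ⟨e0, he0, he1⟩ := exists_ne_im L hL
  rcases hi e0 he0 he1 with ⟨rfl, -⟩ | ⟨rfl, -⟩
  · have hi' := fun e he h1 => ((hi e he h1).resolve_right fun h => absurd h.1 (by norm_num)).2
    by_cases hne : ∃ e ∈ im L E, dd p e = 24
    · obtain ⟨J, hJ⟩ := hJ2 _ _ _ hp p hE.ne.symm 3 (Or.inl ⟨rfl, rfl⟩)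
      have hd : ∀ e ∈ im L E, e ∈ Om hp p 2 3 ↔ dd p e = 24 := om_iff (by rw [nri_F4.2.1]) (by rw [nrF4]; norm_num)
        fun e he h1 h2 => ((hi' e he h1).resolve_left (by omega)).2
      refine Or.inr ⟨⟨3, 24, J, hJ, hd, stepD C hL hE (fun _ => hE.ne.symm) hJ hd hne⟩, Or.inl ⟨rfl, rfl, ?_⟩⟩
      rw [← card_im (L := L) hL.le_S]
      refine card_le_of_dvd hE.el (dvd_two hp hE.el {20, -4} fun e he h1 => ?_) (by rw [nrF4]; decide)
      rw [nrF4]
      rcases hi' e he h1 with h2 | ⟨h2, -⟩ <;> rw [h2] <;> decide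
    · exact absurd (hP4 p _ hE fun e he h1 => (hi' e he h1).resolve_right fun h => hne ⟨e, he, h.1⟩) hnt
  · have hi' := fun e he h1 => ((hi e he h1).resolve_left fun h => absurd h.1 (by norm_num)).2
    obtain ⟨A, hA, hT, hc⟩ := hE.exists_plane hnt
    refine Or.inl ⟨⟨A, hA, hT, noroot hp (hE.mono hA).el hc (fun e he => hi' e (hA he)) (by norm_num)
      (by rw [nrF4]; norm_num)⟩, Or.inl ⟨rfl, rfl, ?_⟩⟩
    rw [← card_im (L := L) hL.le_S]
    exact card_le_of_dvd hE.el (pure_dvd hp hE.el hi') (by rw [nrF4]; decide)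

theorem loc_E6 (hJ2 : BoxJ2) {M : CoxeterMatrix (Fin 6)} {hp : IsType chevE6 6 M} {L : Lift hp p S}
    (C : Ctx L H) (hL : Loc S H E r) (hE : EA p r (im L E)) : OutA L E r ∨ OutB L E r := by
  have hi := fun e he h1 => iso_E6 hE.prime (C.iso hL hE (e := e) he h1)
  have hnt := C.not_toral hL
  obtain ⟨e0, he0, he1⟩ := exists_ne_im L hL
  rcases hi e0 he0 he1 with ⟨rfl, h0, -⟩ | ⟨rfl, -⟩
  · have hi' := fun e he h1 => ((hi e he h1).resolve_right fun h => absurd h.1 (by norm_num)).2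
    obtain ⟨J, hJ⟩ := hJ2 _ _ _ hp p hE.ne.symm 1 (Or.inr (Or.inl ⟨rfl, rfl⟩))
    have hd : ∀ e ∈ im L E, e ∈ Om hp p 2 1 ↔ dd p e = 38 := om_iff (by rw [nri_E6.1]) (by rw [nrE6]; norm_num)
      fun e he h1 _ => (hi' e he h1).2
    refine Or.inr ⟨⟨1, 38, J, hJ, hd, stepD C hL hE (fun _ => hE.ne.symm) hJ hd ⟨e0, he0, h0⟩⟩,
      Or.inr (Or.inl ⟨rfl, rfl, ?_⟩)⟩
    rw [← card_im (L := L) hL.le_S]
    exact card_le_of_dvd hE.el (pure_dvd hp hE.el fun e he h1 => (hi' e he h1).1) (by rw [nrE6]; decide)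
  · have hi' := fun e he h1 => ((hi e he h1).resolve_left fun h => absurd h.1 (by norm_num)).2
    obtain ⟨A, hA, hT, hc⟩ := hE.exists_plane hnt
    refine Or.inl ⟨⟨A, hA, hT, noroot hp (hE.mono hA).el hc (fun e he => hi' e (hA he)) (by norm_num)
      (by rw [nrE6]; norm_num)⟩, Or.inr (Or.inl ⟨rfl, rfl, ?_⟩)⟩
    rw [← card_im (L := L) hL.le_S]
    exact card_le_of_dvd hE.el (pure_dvd hp hE.el hi') (by rw [nrE6]; decide)

theorem neF4_E7 : chevE7 ≠ chevF4 := fun h => absurd (congrArg ChevalleyDatum.nroots h) (by rw [nrE7, nrF4]; norm_num)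

theorem neF4_E8 : chevE8 ≠ chevF4 := fun h => absurd (congrArg ChevalleyDatum.nroots h) (by rw [nrE8, nrF4]; norm_num)

theorem loc_E7 (hJ2 : BoxJ2) (hJ3 : BoxJ3) {M : CoxeterMatrix (Fin 7)} {hp : IsType chevE7 7 M} {L : Lift hp p S}
    (C : Ctx L H) (hL : Loc S H E r) (hE : EA p r (im L E)) : OutA L E r ∨ OutB L E r := by
  have hi := fun e he h1 => iso_E7 hE.prime (C.iso hL hE (e := e) he h1)
  have hnt := C.not_toral hL
  obtain ⟨e0, he0, he1⟩ := exists_ne_im L hL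
  rcases hi e0 he0 he1 with ⟨rfl, -⟩ | ⟨rfl, h0, -⟩
  · have hi' := fun e he h1 => ((hi e he h1).resolve_right fun h => absurd h.1 (by norm_num)).2
    by_cases hne : ∃ e ∈ im L E, dd p e = 69
    · obtain ⟨J, hJ⟩ := hJ2 _ _ _ hp p hE.ne.symm 0 (Or.inr (Or.inr (Or.inl ⟨rfl, rfl⟩)))
      have hd : ∀ e ∈ im L E, e ∈ Om hp p 2 0 ↔ dd p e = 69 := om_iff (by rw [nri_E7.1]) (by rw [nrE7]; norm_num)
        fun e he h1 h2 => ((hi' e he h1).resolve_left fun h => by omega).2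
      have hD := stepD C hL hE (fun _ => hE.ne.symm) hJ hd hne
      refine Or.inr ⟨⟨0, 69, J, hJ, hd, hD⟩, Or.inr (Or.inr (Or.inl ⟨rfl, rfl, ?_⟩))⟩
      have hpure : ∀ e ∈ im L E, e = 1 ∨ dd p e = 69 := by
        intro e he
        have he' := he
        rw [← hD.clo] at he'
        induction he' using Subgroup.closure_induction with
        | mem x hx => exact Or.inr hx.2
        | one => exact Or.inl rfl
        | mul x y hx hy ihx ihy =>
          rw [hD.clo] at hx hy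
          rcases ihx hx with rfl | h1
          · rw [one_mul]
            exact ihy hy
          rcases ihy hy with rfl | h2
          · rw [mul_one]
            exact Or.inr h1
          by_cases h3 : x * y = 1
          · exact Or.inl h3
          exact Or.inr ((hi' _ he h3).resolve_left fun h =>
            e7_mul hp hE.ne (hE.tp x hx y hy) (hE.pow x hx) (hE.pow y hy) h1 h2 h.1).1
        | inv x hx ihx =>
          rw [hD.clo] at hx
          have h1 : x⁻¹ = x := inv_eq_of_mul_eq_one_left (by rw [← pow_two, hE.pow x hx])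
          rw [h1]
          exact ihx hx
      rw [← card_im (L := L) hL.le_S]
      exact card_le_of_dvd hE.el (pure_dvd hp hE.el fun e he h1 => (hpure e he).resolve_left h1) (by rw [nrE7]; decide)
    · exact absurd (hE.toral_of_card (card_le_of_dvd hE.el (pure_dvd hp hE.el fun e he h1 =>
        ((hi' e he h1).resolve_right fun h => hne ⟨e, he, h.1⟩).1) (by rw [nrE7]; decide))) hnt
  · have hi' := fun e he h1 => ((hi e he h1).resolve_left fun h => absurd h.1 (by norm_num)).2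
    obtain ⟨J, hJ⟩ := hJ3 _ _ _ hp p hE.ne.symm 2 (Or.inl ⟨rfl, rfl⟩)
    have hd : ∀ e ∈ im L E, e ∈ Om hp p 3 2 ↔ dd p e = 43 := om_iff (by rw [nri_E7.2.2.1]) (by rw [nrE7]; norm_num)
      fun e he h1 _ => (hi' e he h1).2
    refine Or.inr ⟨⟨2, 43, J, hJ, hd, stepD C hL hE (fun h => absurd h neF4_E7) hJ hd ⟨e0, he0, h0⟩⟩,
      Or.inr (Or.inr (Or.inr (Or.inl ⟨rfl, rfl, ?_⟩)))⟩
    rw [← card_im (L := L) hL.le_S]
    exact card_le_of_dvd hE.el (pure_dvd hp hE.el fun e he h1 => (hi' e he h1).1) (by rw [nrE7]; decide)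

theorem loc_E8 (hJ2 : BoxJ2) (hJ3 : BoxJ3) (hP8 : BoxP8) {M : CoxeterMatrix (Fin 8)} {hp : IsType chevE8 8 M}
    {L : Lift hp p S} (C : Ctx L H) (hL : Loc S H E r) (hE : EA p r (im L E)) : OutA L E r ∨ OutB L E r := by
  have hi := fun e he h1 => iso_E8 hE.prime (C.iso hL hE (e := e) he h1)
  have hnt := C.not_toral hL
  obtain ⟨e0, he0, he1⟩ := exists_ne_im L hL
  rcases hi e0 he0 he1 with ⟨rfl, -⟩ | ⟨rfl, -⟩ | ⟨rfl, -⟩
  · have hi' := fun e he h1 => ((hi e he h1).resolve_right fun h =>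
      h.elim (fun h => absurd h.1 (by norm_num)) fun h => absurd h.1 (by norm_num)).2
    by_cases hne : ∃ e ∈ im L E, dd p e = 136
    · obtain ⟨J, hJ⟩ := hJ2 _ _ _ hp p hE.ne.symm 7 (Or.inr (Or.inr (Or.inr ⟨rfl, rfl⟩)))
      have hd : ∀ e ∈ im L E, e ∈ Om hp p 2 7 ↔ dd p e = 136 := om_iff (by rw [nri_E8.2.1]) (by rw [nrE8]; norm_num)
        fun e he h1 h2 => ((hi' e he h1).resolve_left (by omega)).2
      have hD := stepD C hL hE (fun _ => hE.ne.symm) hJ hd hne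
      refine Or.inr ⟨⟨7, 136, J, hJ, hd, hD⟩, Or.inr (Or.inr (Or.inr (Or.inr (Or.inl ⟨rfl, rfl, ?_⟩))))⟩
      rw [← card_im (L := L) hL.le_S]
      have := hE.fin
      have hq := fun z (hz : z ∈ im L E ∧ dd p z = 136) x hx =>
        hJ.q8 rfl rfl z ((hd z hz.1).2 hz.2) x (hE.pow x hx) (hE.tp z hz.1 x hx)
      refine NT.card_le_of_two (Ω := {z | z ∈ im L E ∧ dd p z = 136})
        (P := fun z => Subgroup.centralizer (J z : Set (YY chevE8 p))) hE.comm hE.pow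
        (fun h => one_not_mem_Om hE.prime ((hd 1 h.1).2 h.2)) hD.clo
        (fun z hz => Subgroup.mem_centralizer_iff.2 fun j hj => hJ.cen z ((hd z hz.1).2 hz.2) j hj)
        (fun z hz => hD.idx z hz.1 hz.2) (fun z hz x hx hx' => ?_) (fun z hz x hx hx' => ?_)
        fun x hx h => hD.rad hE x hx fun z hz hz' => h z ⟨hz, hz'⟩
      · exact ⟨fun h h1 => ((hq z hz x hx).1 hx').1 h.2 h1.2,
          fun h => ⟨mul_mem hx hz.1, ((hq z hz x hx).1 hx').2 fun h1 => h ⟨hx, h1⟩⟩⟩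
      · exact ⟨fun h => ⟨hx, ((hq z hz x hx).2 hx').1 h.2⟩, fun h => ⟨mul_mem hx hz.1, ((hq z hz x hx).2 hx').2 h.2⟩⟩
    · have hd : ∀ e ∈ im L E, e ≠ 1 → dd p e = 120 := fun e he h1 =>
        (hi' e he h1).resolve_right fun h => hne ⟨e, he, h.1⟩
      obtain ⟨A, hA, hT, hc⟩ := (hP8 p _ hE hd).resolve_left hnt
      refine Or.inl ⟨⟨A, hA, hT, noroot hp (hE.mono hA).el hc (fun e he => hd e (hA he)) (by norm_num)
        (by rw [nrE8]; norm_num)⟩, Or.inr (Or.inr (Or.inr ⟨rfl, rfl, ?_⟩))⟩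
      rw [← card_im (L := L) hL.le_S]
      have h1 := pure_eq hp hE.el hd
      have e : ((8 + chevE8.nroots : ℕ) : ℤ) = 248 := by
        rw [nrE8]
        norm_num
      rw [e] at h1
      have h2 : (0 : ℤ) ≤ (Nat.card (im L E) : ℤ) * Module.finrank (KK p) (Fx p (im L E : Set (YY chevE8 p))) :=
        mul_nonneg (Int.natCast_nonneg _) (Int.natCast_nonneg _)
      have h3 : (Nat.card (im L E) : ℤ) ≤ 32 := by
        push_cast at h1
        linarith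
      exact_mod_cast h3
  · have hi' := fun e he h1 => (((hi e he h1).resolve_left fun h => absurd h.1 (by norm_num)).resolve_right fun h =>
      absurd h.1 (by norm_num)).2
    by_cases hne : ∃ e ∈ im L E, dd p e = 86
    · obtain ⟨J, hJ⟩ := hJ3 _ _ _ hp p hE.ne.symm 6 (Or.inr ⟨rfl, rfl⟩)
      have hd : ∀ e ∈ im L E, e ∈ Om hp p 3 6 ↔ dd p e = 86 := om_iff (by rw [nri_E8.2.2.2.1])
        (by rw [nrE8]; norm_num) fun e he h1 h2 => ((hi' e he h1).resolve_left (by omega)).2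
      refine Or.inr ⟨⟨6, 86, J, hJ, hd, stepD C hL hE (fun h => absurd h neF4_E8) hJ hd hne⟩,
        Or.inr (Or.inr (Or.inr (Or.inr (Or.inr ⟨rfl, rfl, ?_⟩))))⟩
      rw [← card_im (L := L) hL.le_S]
      refine card_le_of_dvd hE.el (dvd_three hp hE.el {-4, 5} fun e he h1 => ?_) (by rw [nrE8]; decide)
      rw [nrE8]
      rcases hi' e he h1 with h2 | ⟨h2, -⟩
      · exact ⟨-4, by simp, by rw [h2]; norm_num⟩
      · exact ⟨5, by simp, by rw [h2]; norm_num⟩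
    · exact absurd (hE.toral_of_card (card_le_of_dvd hE.el (pure_dvd hp hE.el fun e he h1 =>
        (hi' e he h1).resolve_right fun h => hne ⟨e, he, h.1⟩) (by rw [nrE8]; decide))) hnt
  · have hi' := fun e he h1 => (((hi e he h1).resolve_left fun h => absurd h.1 (by norm_num)).resolve_left fun h =>
      absurd h.1 (by norm_num)).2
    obtain ⟨A, hA, hT, hc⟩ := hE.exists_plane hnt
    refine Or.inl ⟨⟨A, hA, hT, noroot hp (hE.mono hA).el hc (fun e he => hi' e (hA he)) (by norm_num)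
      (by rw [nrE8]; norm_num)⟩, Or.inr (Or.inr (Or.inl ⟨rfl, rfl, ?_⟩))⟩
    rw [← card_im (L := L) hL.le_S]
    exact card_le_of_dvd hE.el (pure_dvd hp hE.el hi') (by rw [nrE8]; decide)

end Types

variable {D : ChevalleyDatum} {l : ℕ} {M : CoxeterMatrix (Fin l)} {hp : IsType D l M} {p : ℕ} [Fact p.Prime]
  {G : Type} [Group G] [Finite G] {S H E : Subgroup G} {L : Lift hp p S} {r : ℕ}

/-- **The structure of `E`.** -/
theorem loc_cases (hJ2 : BoxJ2) (hJ3 : BoxJ3) (hP4 : BoxP4) (hP8 : BoxP8) (C : Ctx L H) (hL : Loc S H E r)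
    (hE : EA p r (im L E)) : OutA L E r ∨ OutB L E r := by
  have h := typ_l hp
  rcases C.typ with rfl | rfl | rfl | rfl
  · obtain rfl := h.1 rfl
    exact loc_F4 hJ2 hP4 C hL hE
  · obtain rfl := h.2.1 rfl
    exact loc_E6 hJ2 C hL hE
  · obtain rfl := h.2.2.1 rfl
    exact loc_E7 hJ2 hJ3 C hL hE
  · obtain rfl := h.2.2.2 rfl
    exact loc_E8 hJ2 hJ3 hP8 C hL hE

theorem inv_OZ {R : Subgroup (YY D p)} (hI : L.Inv H R) (φ : L.Γ) (hφ : L.π φ ∈ H) {z : YY D p} (hz : OZ r R z) :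
    OZ r R ((φ : MulAut (YY D p)) z) :=
  ⟨hI φ hφ z hz.1, by rw [← map_pow, hz.2.1, map_one],
    fun y hy => (comm_app φ (hz.2.2 _ (hI φ⁻¹ (π_inv hφ) y hy)).symm).symm⟩

/-- **The `H`-invariant `r`-subgroups.** -/
theorem rad_cases (C : Ctx L H) (hr' : r.Prime) {R : Subgroup G} (h0 : R ≠ ⊥) (hRS : R ≤ S)
    (hH : H ≤ Subgroup.normalizer (R : Set G)) (hR : IsPGroup r R) :
    (∃ E ≤ R, Loc S H E r ∧ EA p r (im L E) ∧ ∀ e ∈ im L E, OZ r (im L R) e ∧ ∀ z, OZ r (im L R) z → Tp p z e) ∨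
    ((∀ x, OZ r (im L R) x → (∀ z, OZ r (im L R) z → Tp p z x) → x = 1) ∧
      (∀ x ∈ R, ∀ y ∈ R, x * y = y * x) ∧ (∀ x ∈ R, x ^ r = 1) ∧
      (D = chevE6 ∧ r = 3 ∧ Nat.card R ≤ 3 ^ 6 ∨ D = chevE7 ∧ r = 2 ∧ Nat.card R ≤ 2 ^ 4)) := by
  have hS := C.setup.normal
  have hrp : r ≠ p := by
    rintro rfl
    exact h0 (C.noP R hRS hR hH)
  have hI : L.Inv H (im L R) := inv_im hS hH
  have hR' : IsPGroup r (im L R) := isPGroup_im hR
  obtain ⟨A, hA⟩ := exists_rad hp C.typ hr' hrp hR'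
  by_cases hA0 : A = ⊥
  · have := finite_im L R
    have h1 : ∀ x, OZ r (im L R) x → (∀ z, OZ r (im L R) z → Tp p z x) → x = 1 := fun x h1 h2 =>
      Subgroup.mem_bot.1 (hA0.le ((hA x).2 ⟨h1, h2⟩))
    obtain ⟨hE, h2⟩ := rad_bot hp C.typ hr' hrp hR' (im_ne_bot hRS h0) h1
    rw [card_im hRS] at h2
    refine Or.inr ⟨h1, fun x hx y hy => ?_, fun x hx => ?_, h2⟩
    · have h3 := hE.comm _ ((ι_mem_im (x := ⟨x, hRS hx⟩)).2 hx) _ ((ι_mem_im (x := ⟨y, hRS hy⟩)).2 hy)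
      rw [← map_mul, ← map_mul] at h3
      exact congrArg Subtype.val (L.inj h3)
    · have h3 := hE.pow _ ((ι_mem_im (x := ⟨x, hRS hx⟩)).2 hx)
      rw [← map_pow, ← map_one L.ι] at h3
      exact congrArg Subtype.val (L.inj h3)
  · have hAI : L.Inv H A := fun φ hφ a ha => by
      rw [hA] at ha ⊢
      refine ⟨inv_OZ hI φ hφ ha.1, fun z hz => ?_⟩
      have h1 := (ha.2 _ (inv_OZ hI φ⁻¹ (π_inv hφ) hz)).wfr (L.wfr φ φ.2)
      rwa [app_inv] at h1
    obtain ⟨E, r', hEA, hL⟩ := Gen.exists_loc C.setup (pb_le A) (norm_pb hS hAI) (fun h => hA0 (eq_bot_iff.2 fun a ha => by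
      obtain ⟨x, -, rfl⟩ := ((hA a).1 ha).1.1
      have h1 := (coe_mem_pb (L := L)).2 ha
      rw [h, Subgroup.mem_bot] at h1
      rw [show x = 1 from Subtype.ext h1, map_one]
      exact one_mem _)) fun x hx y hy => by
      obtain ⟨hx1, hx2⟩ := mem_pb.1 hx
      obtain ⟨hy1, hy2⟩ := mem_pb.1 hy
      have h3 := ((hA _).1 hy2).1.2.2 _ ((hA _).1 hx2).1.1
      rw [← map_mul, ← map_mul] at h3
      exact congrArg Subtype.val (L.inj h3)
    have h1 : ∀ e ∈ im L E, OZ r (im L R) e ∧ ∀ z, OZ r (im L R) z → Tp p z e := by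
      rintro _ ⟨x, hx, rfl⟩
      exact (hA _).1 (coe_mem_pb.1 (hEA hx))
    obtain rfl : r = r' := by
      obtain ⟨e, he, he1⟩ := exists_ne_im L hL
      have := Fact.mk hr'
      have := Fact.mk hL.prime
      have h2 : e ^ r' = 1 := by
        obtain ⟨x, hx, rfl⟩ := he
        rw [← map_pow, show x ^ r' = 1 from Subtype.ext (hL.pow x hx), map_one]
      rw [← orderOf_eq_prime (h1 e he).1.2.1 he1, orderOf_eq_prime h2 he1]
    refine Or.inl ⟨E, fun x hx => ?_, hL, ⟨hr', hrp, finite_im L E, fun x hx y hy => (h1 y hy).1.2.2 x (h1 x hx).1.1,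
      fun x hx => (h1 x hx).1.2.1, fun x hx y hy => (h1 y hy).2 x (h1 x hx).1⟩, h1⟩
    exact (ι_mem_im (x := ⟨x, hL.le_S hx⟩)).1 (h1 _ ((ι_mem_im (x := ⟨x, hL.le_S hx⟩)).2 hx)).1.1

theorem sd_sub (hr' : r.Prime) {R : Subgroup G} (hc : ∀ x ∈ R, ∀ y ∈ R, x * y = y * x) (hx : ∀ x ∈ R, x ^ r = 1)
    {n k : ℕ} (hn : n ≤ 8) (hR : Nat.card R ≤ r ^ n) (hk : Lin.rhoT n ≤ k) : SD k (MulAut R) :=
  Lin.sd_mulAut hr' (fun a b => Subtype.ext (hc a a.2 b b.2)) (fun a => Subtype.ext (hx a a.2)) hn hR hk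

theorem ps_of_outA (big : Big) (hL : Loc S H E r) (hE : EA p r (im L E)) (h : OutA L E r) : PS 9 H := by
  obtain ⟨⟨A, hA, hT, hF⟩, h1⟩ := h
  have hW := card_W hp
  have key : ∀ c d : ℕ, ¬ r ^ (2 ^ c + c) ∣ Nat.card M.Group → SD d (MulAut E) → 3 ≤ d → c + 1 + d ≤ 9 → PS 9 H :=
    fun c d h2 h3 h4 h5 => (NT.lemC big hL.toSetup hL.le_S hL.ne_bot hL.comm hL.norm.ge
      (PS.of_bot (stepC (hE.mono hA).el hA hT hF h2)) h3 h4).mono h5
  rcases h1 with ⟨e, rfl, h2⟩ | ⟨e, rfl, h2⟩ | ⟨e, rfl, h2⟩ | ⟨e, rfl, h2⟩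
  · exact key 1 5 (by rw [hW.1 e]; norm_num) (sd_sub hL.prime hL.comm hL.pow (by norm_num) h2 (by decide))
      (by norm_num) (by norm_num)
  · exact key 2 6 (by rw [hW.2.1 e]; norm_num) (sd_sub hL.prime hL.comm hL.pow (by norm_num) h2 (by decide))
      (by norm_num) (by norm_num)
  · exact key 1 5 (by rw [hW.2.2.2 e]; norm_num) (sd_sub hL.prime hL.comm hL.pow (by norm_num) h2 (by decide))
      (by norm_num) (by norm_num)
  · exact key 4 4 (by rw [hW.2.2.2 e]; norm_num) (NT.sd_mulAut_two_sub hL.comm hL.pow h2) (by norm_num) (by norm_num)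

theorem ps_of_outB (big : Big) (hL : Loc S H E r) (h : OutB L E r) : PS 9 H := by
  obtain ⟨⟨i, d, J, -, -, hD⟩, h1⟩ := h
  have h2 : derivedSeries ↥(Subgroup.centralizer (E : Set G) ⊓ S) 1 = ⊥ := by
    rw [derivedSeries_succ, Subgroup.commutator_eq_bot_iff_le_centralizer]
    intro x _
    exact Subgroup.mem_centralizer_iff.2 fun y _ => Subtype.ext (hD.comm y y.2 x x.2)
  have h3 : Nat.card E ≤ r ^ 8 := by
    generalize Nat.card E = n at h1 ⊢
    rcases h1 with ⟨-, e, h⟩ | ⟨-, e, h⟩ | ⟨-, e, h⟩ | ⟨-, e, h⟩ | ⟨-, e, h⟩ | ⟨-, e, h⟩ <;> rw [e] <;> omega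
  have h4 : PS (1 + 8) H := NT.lemC big hL.toSetup hL.le_S hL.ne_bot hL.comm hL.norm.ge (PS.of_bot h2)
    (sd_sub (k := 8) hL.prime hL.comm hL.pow le_rfl h3 (by decide)) (by norm_num)
  exact h4

theorem ps_of_ctx (hJ2 : BoxJ2) (hJ3 : BoxJ3) (hP4 : BoxP4) (hP8 : BoxP8) (big : Big) (C : Ctx L H) : PS 9 H := by
  by_contra hn
  refine hn (NT.stepA' big C.setup p (fun s hs h1 h2 => rank_S C.typ L hs h1 h2) fun r hr' R h0 hRS hH hR => ?_)
  rcases rad_cases C hr' h0 hRS hH hR with ⟨E, -, hL, hE, -⟩ | ⟨-, h1, h2, h3⟩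
  · exact absurd ((loc_cases hJ2 hJ3 hP4 hP8 C hL hE).elim (ps_of_outA big hL hE) (ps_of_outB big hL)) hn
  · refine ⟨h1, sd_sub (n := 8) hr' h1 h2 le_rfl ?_ (by decide)⟩
    rcases h3 with ⟨-, rfl, h⟩ | ⟨-, rfl, h⟩ <;> omega

/-- **The non-toral case.** -/
theorem boxNonTor_of (hJ2 : BoxJ2) (hJ3 : BoxJ3) (hP4 : BoxP4) (hP8 : BoxP8) : BoxNonTor := by
  intro big D l M hp hD p _ G _ _ S H E r hL q m A _ L h1 _ hQ hA
  exact ps_of_ctx hJ2 hJ3 hP4 hP8 big (L := L) ⟨hD, hL.toSetup, ⟨m.g, by rw [h1]; exact m.fr⟩, hQ, hA⟩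

end Cfsg.Agent.DS.Nt
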